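import Cfsg.Agent.ODD.C2.Desc
import Cfsg.Agent.ODD.Sp2.Main

/-!
# ODD, characteristic two: all characters of `GL`, `SL`, `GU`, `SU`, `Sp` are `2`-rational (helper89)

`pw_gl`, `pw_gu`, `pw_sp` : the power maps; `allR_sl`, `allR_su`, `allR_psp`.
-/

set_option autoImplicit false
set_option maxHeartbeats 400000

namespace Cfsg.Agent.ODD.C2

open Cfsg Cfsg.Agent.ODD.Alt Cfsg.Agent.ODD.Sp2

universe u

section lin

open Module Polynomial

variable {F : Type u} [Field F] {V : Type*} [AddCommGroup V] [Module F V]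

theorem dvd_expand1 (hF : (2 : F) = 0) {p : F[X]} (hp : Irreducible p) {e a n k : ℕ}
    (h : p ^ e ∣ X ^ (2 ^ a * n) - 1) (hk : k ≡ 1 [MOD n]) : p ^ e ∣ expand F k (p ^ e) := by
  rcases Nat.eq_zero_or_pos e with rfl | he
  · simp
  rw [map_pow]
  refine pow_dvd_pow_of_dvd ?_ e
  have h2 := two_alg hF F[X]
  have h3 : (X ^ (2 ^ a * n) - 1 : F[X]) = (1 + X ^ n) ^ 2 ^ a := by
    rw [one_add_pow_two_pow h2, ← pow_mul, mul_comm n]
    linear_combination (-1 : F[X]) * h2
  have h4 : p ∣ X ^ n - 1 := by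
    have : (X ^ n - 1 : F[X]) = 1 + X ^ n := by linear_combination (-1 : F[X]) * h2
    rw [this]
    exact hp.prime.dvd_of_dvd_pow ((dvd_pow_self p he.ne').trans (h3 ▸ h))
  rw [← AdjoinRoot.mk_eq_zero, ← AdjoinRoot.aeval_eq, expand_aeval, pow_eq_pow_of_modEq hk (root_pow h4),
    pow_one, AdjoinRoot.aeval_eq, AdjoinRoot.mk_self]

/-- **similarity** -/
theorem exists_conj1 [FiniteDimensional F V] (hF : (2 : F) = 0) {g : Module.End F V} {a n k : ℕ}
    (hn : Odd n) (hg : g ^ (2 ^ a * n) = 1) (hk : Odd k) (hj : k ≡ 1 [MOD n]) :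
    ∃ θ : Module.End F V, Function.Injective θ ∧ ∀ x, θ (g x) = (g ^ k) (θ x) := by
  obtain ⟨ι, p, e, π, hp, hs, h0, hX⟩ := exists_pres g
  have hpow : ∀ (m : ℕ) r, (g ^ m) (π r) = π fun i => X ^ m * r i := by
    intro m
    induction m with
    | zero => simp
    | succ m ih =>
      intro r
      rw [pow_succ', Module.End.mul_apply, ih, hX]
      simp only [pow_succ', mul_assoc]
  have hd : ∀ i, p i ^ e i ∣ X ^ (2 ^ a * n) - 1 := by
    refine (h0 fun _ => X ^ (2 ^ a * n) - 1).1 ?_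
    have h1 := hpow (2 ^ a * n) fun _ => 1
    rw [hg, Module.End.one_apply] at h1
    have h2 : (fun _ : ι => (X ^ (2 ^ a * n) - 1 : F[X])) = (fun _ => X ^ (2 ^ a * n) * 1) - fun _ => 1 := by
      ext1 i
      simp
    rw [h2, map_sub, ← h1, sub_self]
  let E : (ι → F[X]) →ₗ[F] (ι → F[X]) := LinearMap.pi fun i => (expand F k).toLinearMap ∘ₗ LinearMap.proj i
  have hE : ∀ r i, E r i = expand F k (r i) := fun _ _ => rfl
  obtain ⟨θ, hθ⟩ := exists_factor π (π ∘ₗ E) fun r hr => (h0 _).2 fun i => by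
    obtain ⟨c, hc⟩ := (h0 r).1 hr i
    rw [hE, hc, map_mul]
    exact (dvd_expand1 hF (hp i) (hd i) hj).mul_right _
  let θ' : Module.End F V := θ ∘ₗ LinearMap.codRestrict (LinearMap.range π) LinearMap.id fun x => hs x
  have hθ' : ∀ r, θ' (π r) = π (E r) := fun r => hθ _ r rfl
  have hcop : k.Coprime (2 ^ a * n) := by
    refine Nat.Coprime.mul_right (Nat.Coprime.pow_right _ (Nat.coprime_two_right.2 hk)) ?_
    rw [Nat.Coprime, hj.gcd_eq]
    exact Nat.gcd_one_left n
  have ht : 0 < (2 ^ a * n).totient := Nat.totient_pos.2 (Nat.mul_pos (Nat.two_pow_pos a) hn.pos)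
  have hk' : k * k ^ ((2 ^ a * n).totient - 1) ≡ 1 [MOD 2 ^ a * n] := by
    rw [← pow_succ', Nat.sub_add_cancel ht]
    exact Nat.ModEq.pow_totient hcop
  refine ⟨θ', LinearMap.injective_iff_surjective.2 fun y => ?_, fun x => ?_⟩
  · obtain ⟨r, rfl⟩ := hs y
    refine ⟨π fun i => expand F (k ^ ((2 ^ a * n).totient - 1)) (r i), ?_⟩
    rw [hθ', ← sub_eq_zero, ← map_sub]
    exact (h0 _).2 fun i => dvd_sub_expand (hd i) hk' (r i)
  · obtain ⟨r, rfl⟩ := hs x
    rw [hX, hθ', hθ', hpow]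
    congr 1
    ext1 i
    rw [hE, hE, map_mul, expand_X]

variable {B : LinearMap.BilinForm F V} {g : Module.End F V}

/-- **the power maps of the symplectic groups** -/
theorem good_pow1 [Finite F] [FiniteDimensional F V] (h : Sp B g) {a n k : ℕ}
    (hn : Odd n) (hg : g ^ (2 ^ a * n) = 1) (hk : Odd k) (hj : k ≡ 1 [MOD n]) : Good B g (g ^ k) := by
  have hs := h.pow (2 ^ a)
  have hW : Sub B g (LinearMap.ker (g ^ 2 ^ a - 1)) := by
    refine ⟨fun x hx => ?_, fun x hx h1 => h.nd x fun y => ?_⟩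
    · rw [LinearMap.mem_ker, LinearMap.sub_apply, Module.End.one_apply, sub_eq_zero] at hx ⊢
      rw [← Module.End.mul_apply, ← pow_succ, pow_succ', Module.End.mul_apply, hx]
    · rw [LinearMap.mem_ker, LinearMap.sub_apply, Module.End.one_apply, sub_eq_zero] at hx
      have h2 := h1 ((∑ i ∈ Finset.range n, (g ^ 2 ^ a) ^ i) y) (by
        rw [LinearMap.mem_ker, ← Module.End.mul_apply, mul_geom_sum, ← pow_mul, hg, sub_self, LinearMap.zero_apply])
      have h3 : ∀ i, B x (((g ^ 2 ^ a) ^ i) y) = B x y := fun i => by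
        rw [← hs.iso_pow i x y, Module.End.pow_apply, Module.End.pow_apply _ i x,
          Function.iterate_fixed hx]
      rw [LinearMap.sum_apply, map_sum, Finset.sum_congr rfl fun i _ => h3 i, Finset.sum_const, Finset.card_range,
        nsmul_eq_mul] at h2
      obtain ⟨n', rfl⟩ := hn
      push_cast at h2
      linear_combination h2 - n' * B x y * h.two
  have hg' : g ^ (2 ^ a * n - 1 + 1) = 1 := by
    rwa [Nat.sub_add_cancel (Nat.mul_pos (Nat.two_pow_pos a) hn.pos)]
  have hW' := hW.orth h hg'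
  refine glue h hg' hW (Good.on hW.inv (good_unip (h.restrict hW) (e := a) ?_ hk)) (Good.on hW'.inv ?_)
  · rw [Module.End.pow_restrict]
    ext x
    have hx := x.2
    rw [LinearMap.mem_ker, LinearMap.sub_apply, Module.End.one_apply, sub_eq_zero] at hx
    exact hx
  · obtain ⟨θ, h1, h2⟩ := exists_conj1 h.two hn (restrict_pow_eq_one hW'.inv hg) hk hj
    refine good_of_conj (h.restrict hW') (fun x hx => Subtype.ext (hW.nd x ?_ fun y hy => ?_))
      ((h.restrict hW').pow k) h1 h2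
    · have h3 : g x = x := congrArg Subtype.val hx
      rw [LinearMap.mem_ker, LinearMap.sub_apply, Module.End.one_apply, sub_eq_zero, Module.End.pow_apply,
        Function.iterate_fixed h3]
    · rw [h.symm]
      exact x.2 y hy

end lin

open Matrix

variable {F : Type u} [Field F] {ι : Type} [Fintype ι] [DecidableEq ι]

theorem pw_sp [Finite F] (hF : (2 : F) = 0) : PW (symplecticGroup ι F) := by
  intro g k hk h
  obtain ⟨a, n, hn, ho⟩ := Nat.exists_eq_two_pow_mul_odd (orderOf_pos g).ne'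
  have hg : toLin' (g : Matrix (ι ⊕ ι) (ι ⊕ ι) F) ^ (2 ^ a * n) = 1 := by
    rw [← toLin'_pow, ← ho, ← SubmonoidClass.coe_pow, pow_orderOf_eq_one, OneMemClass.coe_one, toLin'_one]
    rfl
  obtain ⟨θ, h1, h2⟩ := good_pow1 (sp_of_mem hF g.2) hn hg hk (h n hn (ho ▸ Dvd.intro_left _ rfl))
  obtain ⟨P, rfl⟩ := toLin'.surjective θ
  have hP : P ∈ symplecticGroup ι F := by
    rw [SymplecticGroup.mem_iff']
    apply toBilin'.injective
    rw [← toBilin'_comp]
    exact LinearMap.ext₂ h1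
  refine isConj_iff.2 ⟨⟨P, hP⟩, ?_⟩
  rw [mul_inv_eq_iff_eq_mul]
  apply Subtype.ext
  apply toLin'.injective
  rw [Submonoid.coe_mul, Submonoid.coe_mul, toLin'_mul, toLin'_mul, SubmonoidClass.coe_pow, toLin'_pow]
  exact LinearMap.ext h2

theorem exists_conj_gl [Finite F] (hF : (2 : F) = 0) (g : GL ι F) {k : ℕ} (hk : Odd k)
    (h : ∀ n, Odd n → n ∣ orderOf g → k ≡ 1 [MOD n]) : ∃ P : GL ι F, P * g = g ^ k * P := by
  obtain ⟨a, n, hn, ho⟩ := Nat.exists_eq_two_pow_mul_odd (orderOf_pos g).ne'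
  have hg : toLin' (g : Matrix ι ι F) ^ (2 ^ a * n) = 1 := by
    rw [← toLin'_pow, ← ho, ← Units.val_pow_eq_pow_val, pow_orderOf_eq_one, Units.val_one, toLin'_one]
    rfl
  obtain ⟨θ, h1, h2⟩ := exists_conj1 hF hn hg hk (h n hn (ho ▸ Dvd.intro_left _ rfl))
  obtain ⟨P, rfl⟩ := toLin'.surjective θ
  have hP : IsUnit P := mulVec_injective_iff_isUnit.1 h1
  refine ⟨hP.unit, Units.ext ?_⟩
  apply toLin'.injective
  rw [Units.val_mul, Units.val_mul, IsUnit.unit_spec, toLin'_mul, toLin'_mul, Units.val_pow_eq_pow_val, toLin'_pow]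
  exact LinearMap.ext h2

theorem pw_gl [Finite F] (hF : (2 : F) = 0) : PW (GL ι F) := by
  intro g k hk h
  obtain ⟨P, hP⟩ := exists_conj_gl hF g hk h
  exact isConj_iff.2 ⟨P, by rw [hP, mul_inv_cancel_right]⟩

theorem odd_units [Finite F] (hF : (2 : F) = 0) : Odd (Nat.card Fˣ) := by
  have := Fintype.ofFinite F
  have : CharP F 2 := CharTwo.of_one_ne_zero_of_two_eq_zero one_ne_zero hF
  obtain ⟨n, -, hn⟩ := FiniteField.card F 2
  rw [Nat.card_units, Nat.card_eq_fintype_card, hn]
  exact Nat.Even.sub_odd (Nat.one_le_two_pow) (Nat.even_pow.2 ⟨even_two, n.ne_zero⟩) odd_one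

theorem odd_index_ker {H : Type*} [Group H] [Finite F] (hF : (2 : F) = 0) (f : H →* Fˣ) : Odd f.ker.index := by
  rw [Subgroup.index_ker]
  exact (odd_units hF).of_dvd_nat (Subgroup.card_subgroup_dvd_card _)

theorem range_toGL : (SpecialLinearGroup.toGL : SpecialLinearGroup ι F →* GL ι F).range =
    (GeneralLinearGroup.det : GL ι F →* Fˣ).ker := by
  ext g
  constructor
  · rintro ⟨s, rfl⟩
    exact Units.ext (by simp)
  · intro hg
    exact ⟨⟨g, by simpa using congrArg Units.val hg⟩, Units.ext rfl⟩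

theorem allR_sl [Finite F] (hF : (2 : F) = 0) : AllR (SpecialLinearGroup ι F) :=
  allR_sub SpecialLinearGroup.toGL SpecialLinearGroup.toGL_injective (by rw [range_toGL]; infer_instance)
    (by rw [range_toGL]; exact odd_index_ker hF _) (pw_gl hF).allR

theorem allR_psl [Finite F] (hF : (2 : F) = 0) : AllR (ProjectiveSpecialLinearGroup ι F) :=
  allR_of_surj (QuotientGroup.mk' _) (QuotientGroup.mk'_surjective _) (allR_sl hF)

theorem allR_psp [Finite F] (hF : (2 : F) = 0) (m : ℕ) : AllR (PSp m F) :=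
  allR_of_surj (QuotientGroup.mk' _) (QuotientGroup.mk'_surjective _) (pw_sp hF).allR

/-! ### unitary groups -/

section unitary

variable (σ : F →+* F)

/-- the adjoint -/
def st (A : Matrix ι ι F) : Matrix ι ι F := (A.map σ)ᵀ

omit [DecidableEq ι] in
theorem st_mul (A B : Matrix ι ι F) : st σ (A * B) = st σ B * st σ A := by
  rw [st, Matrix.map_mul, transpose_mul]; rfl

omit [Fintype ι] in
theorem st_one : st σ (1 : Matrix ι ι F) = 1 := by
  rw [st, Matrix.map_one σ (map_zero σ) (map_one σ), transpose_one]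

omit [Fintype ι] [DecidableEq ι] in
theorem st_add (A B : Matrix ι ι F) : st σ (A + B) = st σ A + st σ B := by
  ext i j; simp [st]

omit [Fintype ι] [DecidableEq ι] in
theorem st_neg (A : Matrix ι ι F) : st σ (-A) = -st σ A := by
  ext i j; simp [st]

omit [Fintype ι] [DecidableEq ι] in
theorem st_zero : st σ (0 : Matrix ι ι F) = 0 := by
  ext i j; simp [st]

theorem st_algebraMap (c : F) : st σ (algebraMap F (Matrix ι ι F) c) = algebraMap F _ (σ c) := by
  ext i j
  simp only [st, transpose_apply, map_apply, algebraMap_matrix_apply]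
  by_cases h : i = j
  · simp [h]
  · simp [h, Ne.symm h]

omit [Fintype ι] [DecidableEq ι] in
theorem st_st (hσ : ∀ x, σ (σ x) = x) (A : Matrix ι ι F) : st σ (st σ A) = A := by
  ext i j; simp [st, hσ]

theorem st_pow (A : Matrix ι ι F) (k : ℕ) : st σ (A ^ k) = st σ A ^ k := by
  induction k with
  | zero => simp [st_one]
  | succ k ih => rw [pow_succ, st_mul, ih, pow_succ']

/-- the unitary group of `σ` -/
def GUs (ι : Type) [Fintype ι] [DecidableEq ι] : Subgroup (GL ι F) where
  carrier := {g | st σ (g : Matrix ι ι F) * g = 1}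
  one_mem' := by simp [st_one]
  mul_mem' {a b} ha hb := by
    simp only [Set.mem_ofPred_eq, Units.val_mul, st_mul] at ha hb ⊢
    rw [mul_assoc, ← mul_assoc (st σ _) a.1, ha, one_mul, hb]
  inv_mem' {a} ha := by
    simp only [Set.mem_ofPred_eq] at ha ⊢
    have h1 : st σ (a : Matrix ι ι F) = (a⁻¹ : GL ι F) := by
      rw [← mul_one (st σ _), ← a.mul_inv, ← mul_assoc, ha, one_mul]
    nth_rw 2 [← h1]
    rw [← st_mul, Units.mul_inv, st_one]

theorem mem_GUs {g : GL ι F} : g ∈ GUs σ ι ↔ st σ (g : Matrix ι ι F) * g = 1 := Iff.rfl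

open scoped IsMulCommutative in
/-- from similarity to conjugacy in the unitary group -/
theorem conj_gu [Finite F] (hF : (2 : F) = 0) (hσ : ∀ x, σ (σ x) = x) {z : F} (hz : σ z = 1 + z)
    {g g' : GUs σ ι} {P : GL ι F} (hP : P * g = g' * P) : IsConj g g' := by
  have hg := (mem_GUs σ).1 g.2
  have hg' := (mem_GUs σ).1 g'.2
  have hP' : (P : Matrix ι ι F) * (g : GL ι F) = (g' : GL ι F) * P := congrArg Units.val hP
  set a : Matrix ι ι F := st σ (P : Matrix ι ι F) * (P : Matrix ι ι F) with ha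
  have h1 : st σ (P : Matrix ι ι F) * (g' : GL ι F) = (g : GL ι F) * st σ (P : Matrix ι ι F) := by
    have h2 := congrArg (st σ) hP'
    rw [st_mul, st_mul] at h2
    have h3 : ((g : GL ι F) : Matrix ι ι F) * st σ ((g : GL ι F) : Matrix ι ι F) = 1 := mul_eq_one_comm.1 hg
    calc st σ (P : Matrix ι ι F) * (g' : GL ι F)
        = (g : GL ι F) * (st σ ((g : GL ι F) : Matrix ι ι F) * st σ (P : Matrix ι ι F)) * (g' : GL ι F) := by
          rw [← mul_assoc, h3, one_mul]
      _ = (g : GL ι F) * st σ (P : Matrix ι ι F) := by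
          rw [h2, mul_assoc, mul_assoc, hg', mul_one]
  have hag : a * (g : GL ι F) = (g : GL ι F) * a := by
    rw [ha, mul_assoc, hP', ← mul_assoc, h1, mul_assoc]
  have hau : IsUnit a := by
    refine IsUnit.mul ?_ P.isUnit
    refine IsUnit.of_mul_eq_one (st σ ((P⁻¹ : GL ι F) : Matrix ι ι F)) ?_
    rw [← st_mul, Units.inv_mul, st_one]
  have haM : a ^ orderOf hau.unit = 1 := by
    have := congrArg Units.val (pow_orderOf_eq_one hau.unit)
    rwa [Units.val_pow_eq_pow_val, IsUnit.unit_spec, Units.val_one] at this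
  have : IsMulCommutative (Algebra.adjoin F ({a} : Set (Matrix ι ι F))) :=
    Algebra.isMulCommutative_adjoin F (by
      rintro _ rfl _ rfl
      rfl)
  have hSg : ∀ d ∈ Algebra.adjoin F ({a} : Set (Matrix ι ι F)), d * (g : GL ι F) = (g : GL ι F) * d := fun d hd => by
    have h1 : Algebra.adjoin F ({a} : Set (Matrix ι ι F)) ≤ Subalgebra.centralizer F {((g : GL ι F) : Matrix ι ι F)} :=
      Algebra.adjoin_le (by
        rintro _ rfl _ rfl
        exact hag.symm)
    exact (h1 hd _ rfl).symm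
  let T : Subring (Algebra.adjoin F ({a} : Set (Matrix ι ι F))) :=
    { carrier := {d | st σ d.1 = d.1}
      mul_mem' := fun {c d} hc hd => by
        have hc' : st σ c.1 = c.1 := hc
        have hd' : st σ d.1 = d.1 := hd
        show st σ (c * d).1 = (c * d).1
        nth_rw 2 [mul_comm c d]
        rw [Subalgebra.coe_mul, Subalgebra.coe_mul, st_mul, hc', hd']
      one_mem' := st_one σ
      add_mem' := fun {c d} hc hd => by
        have hc' : st σ c.1 = c.1 := hc
        have hd' : st σ d.1 = d.1 := hd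
        show st σ (c.1 + d.1) = c.1 + d.1
        rw [st_add, hc', hd']
      zero_mem' := st_zero σ
      neg_mem' := fun {c} hc => by
        have hc' : st σ c.1 = c.1 := hc
        show st σ (-c.1) = -c.1
        rw [st_neg, hc'] }
  let a' : Algebra.adjoin F ({a} : Set (Matrix ι ι F)) := ⟨a, Algebra.subset_adjoin rfl⟩
  let z' : Algebra.adjoin F ({a} : Set (Matrix ι ι F)) := algebraMap F _ z
  have hz1 : σ (1 + z) = z := by rw [← hz, hσ]
  obtain ⟨p, hp, μ, hμ, hn⟩ := norm_trick (two_alg hF _) T (a := a') (z := z')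
    (by
      show st σ a = a
      rw [ha, st_mul, st_st σ hσ])
    (by
      have : z' * (1 + z') = algebraMap F _ (z * (1 + z)) := by simp [z']
      rw [this]
      show st σ (algebraMap F _ (z * (1 + z))) = algebraMap F _ (z * (1 + z))
      rw [st_algebraMap, map_mul σ, hz, hz1, mul_comm])
    (orderOf_pos hau.unit).ne' (Subtype.ext haM)
  have hp' : st σ p.1 = p.1 := hp
  have hμ' : st σ μ.1 = μ.1 := hμ
  have hb : st σ (p * (1 + μ * z')).1 = (p + (1 + z') * μ * p).1 := by
    have e1 : (p * (1 + μ * z')).1 = p.1 * (1 + μ.1 * algebraMap F _ z) := rfl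
    have e2 : (p + (1 + z') * μ * p).1 = p.1 + (1 + algebraMap F _ z) * μ.1 * p.1 := rfl
    rw [e1, e2, st_mul, st_add, st_one, st_mul, st_algebraMap, hz, hp', hμ', map_add, map_one, add_mul, one_mul]
  have hn' : (p + (1 + z') * μ * p).1 * a * (p * (1 + μ * z')).1 = 1 := congrArg Subtype.val hn
  set b := (p * (1 + μ * z')).1 with hbd
  have hQ : st σ ((P : Matrix ι ι F) * b) * ((P : Matrix ι ι F) * b) = 1 := by
    rw [st_mul, hb, mul_assoc, ← mul_assoc (st σ _) P.1, ← ha, ← mul_assoc, hn']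
  have hQu : IsUnit ((P : Matrix ι ι F) * b) := IsUnit.of_mul_eq_one _ (mul_eq_one_comm.1 hQ)
  refine isConj_iff.2 ⟨⟨hQu.unit, (mem_GUs σ).2 hQ⟩, ?_⟩
  rw [mul_inv_eq_iff_eq_mul]
  apply Subtype.ext
  apply Units.ext
  show (P : Matrix ι ι F) * b * (g : GL ι F) = (g' : GL ι F) * ((P : Matrix ι ι F) * b)
  rw [mul_assoc, hSg _ (p * (1 + μ * z')).2, ← mul_assoc, hP', mul_assoc]

theorem pw_gu [Finite F] (hF : (2 : F) = 0) (hσ : ∀ x, σ (σ x) = x) {z : F} (hz : σ z = 1 + z) :
    PW (GUs σ ι) := by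
  intro g k hk h
  obtain ⟨P, hP⟩ := exists_conj_gl hF (g : GL ι F) hk (by rwa [Subgroup.orderOf_coe])
  exact conj_gu σ hF hσ hz hP

end unitary

/-- the field automorphism of order two -/
theorem exists_sigma [Fintype F] (hF : (2 : F) = 0) {q : ℕ} (hq : Fintype.card F = q ^ 2) :
    ∃ (σ : F →+* F) (z : F), (∀ x, σ x = x ^ q) ∧ (∀ x, σ (σ x) = x) ∧ σ z = 1 + z := by
  classical
  have : CharP F 2 := CharTwo.of_one_ne_zero_of_two_eq_zero one_ne_zero hF
  have : Fact (Nat.Prime 2) := ⟨Nat.prime_two⟩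
  obtain ⟨n, -, hn⟩ := FiniteField.card F 2
  obtain ⟨e, -, rfl⟩ := (Nat.dvd_prime_pow Nat.prime_two).1 (show q ∣ 2 ^ (n : ℕ) from ⟨q, by rw [← hn, hq, sq]⟩)
  have hs : ∀ x : F, iterateFrobenius F 2 e x = x ^ 2 ^ e := fun x => iterateFrobenius_def 2 e x
  have hss : ∀ x : F, iterateFrobenius F 2 e (iterateFrobenius F 2 e x) = x := fun x => by
    rw [hs, hs, ← pow_mul, ← sq, ← hq, FiniteField.pow_card]
  have h1 : 1 < 2 ^ e := by
    by_contra h
    have h2 : 2 ^ e = 1 := le_antisymm (not_lt.1 h) Nat.one_le_two_pow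
    have := Fintype.one_lt_card (α := F)
    rw [hq, h2] at this
    exact absurd this (by norm_num)
  obtain ⟨x, hx⟩ : ∃ x : F, x ^ 2 ^ e ≠ x := by
    by_contra! h
    have h2 : (Polynomial.X ^ 2 ^ e - Polynomial.X : Polynomial F) ≠ 0 := FiniteField.X_pow_card_pow_sub_X_ne_zero F
      (by rintro rfl; simp at h1) (by norm_num)
    have h3 := Polynomial.card_le_degree_of_subset_roots (p := Polynomial.X ^ 2 ^ e - Polynomial.X)
      (Z := (Finset.univ : Finset F)) (fun y _ => (Polynomial.mem_roots h2).2 (by simp [h y]))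
    rw [FiniteField.X_pow_card_pow_sub_X_natDegree_eq F (by rintro rfl; simp at h1) (by norm_num),
      Finset.card_univ, hq] at h3
    nlinarith
  have ht : x + x ^ 2 ^ e ≠ 0 := fun h => hx (by linear_combination h - x * hF)
  refine ⟨iterateFrobenius F 2 e, x / (x + x ^ 2 ^ e), hs, hss, ?_⟩
  rw [map_div₀, map_add, ← hs, hss, hs, add_comm (x ^ 2 ^ e) x]
  field_simp
  linear_combination (-x) * hF

theorem mem_SU_iff {n q : ℕ} {σ : F →+* F} (hs : ∀ x, σ x = x ^ q)
    (g : SpecialLinearGroup (Fin n) F) : g ∈ SU n F q ↔ SpecialLinearGroup.toGL g ∈ GUs σ (Fin n) := by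
  have key : ∀ (A : Matrix (Fin n) (Fin n) F) u v,
      hermForm n F q (A *ᵥ u) (A *ᵥ v) = hermForm n F q ((st σ A * A) *ᵥ u) v := by
    intro A u v
    simp only [hermForm, ← hs, ← mulVec_mulVec]
    simp only [mulVec, dotProduct, st, transpose_apply, map_apply, map_sum, map_mul, Finset.mul_sum,
      Finset.sum_mul]
    rw [Finset.sum_comm]
    refine Finset.sum_congr rfl fun i _ => Finset.sum_congr rfl fun j _ => Finset.sum_congr rfl fun l _ => ?_
    ring
  rw [mem_GUs]
  constructor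
  · intro hg
    ext i j
    have h1 := hg (Pi.single j 1) (Pi.single i 1)
    rw [show slToMat n F g = (g : Matrix (Fin n) (Fin n) F) from rfl, key] at h1
    simpa [hermForm, ← hs, Pi.single_apply, one_apply, apply_ite σ, eq_comm] using h1
  · intro hg u v
    rw [show slToMat n F g = (g : Matrix (Fin n) (Fin n) F) from rfl, key]
    rw [show st σ (g : Matrix (Fin n) (Fin n) F) * g = 1 from hg, one_mulVec]

theorem allR_su [Fintype F] (hF : (2 : F) = 0) (n : ℕ) {q : ℕ} (hq : Fintype.card F = q ^ 2) : AllR (SU n F q) := by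
  obtain ⟨σ, z, hs, hσ, hz⟩ := exists_sigma hF hq
  let ι : SU n F q →* GUs σ (Fin n) :=
    (SpecialLinearGroup.toGL.comp (SU n F q).subtype).codRestrict _ fun g => (mem_SU_iff hs _).1 g.2
  have hr : ι.range = ((GeneralLinearGroup.det : GL (Fin n) F →* Fˣ).comp (GUs σ (Fin n)).subtype).ker := by
    ext g
    constructor
    · rintro ⟨s, rfl⟩
      exact Units.ext (by simp [ι])
    · intro hg
      have hd : (g : GL (Fin n) F).1.det = 1 := by simpa using congrArg Units.val hg
      exact ⟨⟨⟨_, hd⟩, (mem_SU_iff hs _).2 g.2⟩, Subtype.ext (Units.ext rfl)⟩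
  refine allR_sub ι (fun a b h => ?_) (by rw [hr]; infer_instance) (by rw [hr]; exact odd_index_ker hF _)
    (pw_gu σ hF hσ hz).allR
  exact Subtype.ext (SpecialLinearGroup.toGL_injective (congrArg Subtype.val h))

theorem allR_psu [Fintype F] (hF : (2 : F) = 0) (n : ℕ) {q : ℕ} (hq : Fintype.card F = q ^ 2) : AllR (PSU n F q) :=
  allR_of_surj (QuotientGroup.mk' _) (QuotientGroup.mk'_surjective _) (allR_su hF n hq)

end Cfsg.Agent.ODD.C2
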