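import Cfsg.Agent.ODD.C2.GlA
import Cfsg.Agent.ODD.C2.Cls
import Cfsg.Agent.H390.PslSpec
import Cfsg.Agent.H259.NatMod
import Cfsg.Agent.S0248
import Cfsg.Agent.S0813
import Cfsg.Agent.S0815
import Cfsg.Agent.LieClassical.HermPerfect
import Cfsg.Agent.LieClassical.SUBasic
import Cfsg.Agent.ClassicalGeometry.PSL2Basic

/-!
# `GL` and `GU` in characteristic two as groups of fixed points, II : the finite groups (helper23)

`ιL f`, `embL`, `mem_range_ιL` ; `ιU z f`, `exists_lang`, `embU'`, `embU` ; determinants, centres, perfectness, the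
orders of the automorphism groups.
-/

set_option autoImplicit false
set_option maxHeartbeats 400000
set_option linter.unusedSectionVars false

namespace Cfsg.Agent.ODD.C2

open Cfsg Cfsg.Agent.Tits.Roots Matrix Cfsg.Agent.LangThm Cfsg.Agent.DL Cfsg.Agent.Nodes.RootsA GlA

attribute [local instance] finite_WA

namespace GlA

/-- the subgroup of determinant one -/
theorem emb_of_det {N : Type} [Fintype N] [DecidableEq N] {k : Type} [Field k] {S : Type*} [Group S]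
    {F : MulAut (GL N k)} {G T : Subgroup (GL N k)} {ι : S →* GL N k} {d : ℕ} (hi : Function.Injective ι)
    (hT : T ≤ G) (h1 : ∀ s, ι s ∈ GF F G) (h2 : ∀ y ∈ GF F G, y ∈ ι.range ↔ GeneralLinearGroup.det y = 1)
    (h3 : ∀ y ∈ GF F G, ∃ t ∈ GF F T, GeneralLinearGroup.det t = GeneralLinearGroup.det y)
    (h4 : ∀ y ∈ GF F G, GeneralLinearGroup.det y ^ d = 1) : Emb F G T ι d where
  inj := hi
  mem := h1
  norm y hy s := (h2 _ (mul_mem (mul_mem hy (h1 s)) (inv_mem hy))).2 (by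
    rw [map_mul, map_mul, map_inv, (h2 _ (h1 s)).1 ⟨s, rfl⟩, mul_one, mul_inv_cancel])
  split y hy := by
    obtain ⟨t, ht, e⟩ := h3 y hy
    obtain ⟨s, hs⟩ := (h2 (y * t⁻¹) (mul_mem hy (inv_mem ⟨hT ht.1, ht.2⟩))).2 (by
      rw [map_mul, map_inv, e, mul_inv_cancel])
    exact ⟨s, t, ht, by rw [hs, inv_mul_cancel_right]⟩
  pow y hy := (h2 _ (pow_mem hy d)).2 (by rw [map_pow, h4 y hy])

section gen

variable {N : Type} [Fintype N] [DecidableEq N] {k : Type} [Field k] {F : Type*} [Field F] (f : F →+* k)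

theorem map_inj : Function.Injective (GeneralLinearGroup.map (n := N) f) := fun _ _ h =>
  Units.ext (Matrix.ext fun a b => f.injective (congrArg (fun g : GL N k => (g : Matrix N N k) a b) h))

theorem det_mapf (g : GL N F) : ((GeneralLinearGroup.det (GeneralLinearGroup.map f g) : kˣ) : k) =
    f (g : Matrix N N F).det := by
  rw [RingHom.map_det]
  rfl

theorem det_itA (y : GL N k) : GeneralLinearGroup.det (itA N k y) = (GeneralLinearGroup.det y)⁻¹ := by
  rw [← map_inv]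
  exact Units.ext (det_transpose _)

variable [CharP k 2]

theorem det_frA [PerfectRing k 2] (e : ℕ) (y : GL N k) :
    GeneralLinearGroup.det (frA N k e y) = GeneralLinearGroup.det y ^ 2 ^ e :=
  Units.ext ((det_mapf (iterateFrobenius k 2 e) y).trans (iterateFrobenius_def 2 e _))

variable [Fintype F] {e : ℕ}

theorem map_mem_lv (hF : Fintype.card F = 2 ^ e) (g : GL N F) : GeneralLinearGroup.map f g ∈ Mn.lv N k e := by
  refine Units.ext (Matrix.ext fun a b => (frob_apply e _ a b).trans ?_)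
  show f ((g : Matrix N N F) a b) ^ 2 ^ e = f ((g : Matrix N N F) a b)
  rw [← map_pow, ← hF, FiniteField.pow_card]

theorem exists_map (hF : Fintype.card F = 2 ^ e) {y : GL N k} (hy : y ∈ Mn.lv N k e) :
    ∃ g : GL N F, GeneralLinearGroup.map f g = y := by
  have h1 : ∀ a b, ∃ t, f t = (y : Matrix N N k) a b := fun a b => H390.PslSpec.mem_range_of_pow_card f (by
    rw [hF, ← frob_apply e y a b]
    exact congrArg (fun g : GL N k => (g : Matrix N N k) a b) hy)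
  choose A hA using h1
  have h2 : f.mapMatrix (of A) = (y : Matrix N N k) := Matrix.ext hA
  refine ⟨GeneralLinearGroup.mkOfDetNeZero (of A) fun h => GeneralLinearGroup.det_ne_zero y ?_, Units.ext h2⟩
  rw [← h2, ← RingHom.map_det, h, map_zero]

end gen

variable {n : ℕ} {k : Type} [Field k]

theorem det_γA (y : GL (Fin (n + 1)) k) : GeneralLinearGroup.det (γA n k y) = (GeneralLinearGroup.det y)⁻¹ := by
  rw [MulAut.mul_apply, MulAut.conj_apply, map_mul, map_mul, map_inv, det_itA, mul_inv_cancel_comm]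

theorem det_τA (c : Fin (n + 1) → kˣ) : GeneralLinearGroup.det ((mnA n).τ k c) = chr 1 c :=
  Units.ext (by
    rw [GeneralLinearGroup.val_det_apply, coe_τA, det_diagonal, chr_apply, Units.coe_prod]
    simp)

theorem mon_BA (c : Fin (n + 1) → kˣ) (j : Fin (n + 1)) : mon (BA n) c j = (c j.rev)⁻¹ := by
  have h : BA n j = -Pi.single j.rev 1 := by
    funext i
    rw [Pi.neg_apply, Pi.single_apply, BA, of_apply, if_congr (eq_comm.trans Fin.rev_eq_iff) rfl rfl]
    split_ifs <;> simp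
  rw [mon_apply, h, chr_neg, chr_single]

theorem chr_one_single (j : Fin (n + 1)) (a : kˣ) : chr 1 (Pi.mulSingle j a : Fin (n + 1) → kˣ) = a := by
  simp [chr_apply]

/-- scalar matrices -/
theorem eq_τ_of_scalar {y : GL (Fin (n + 1)) k} {c : k}
    (h : (y : Matrix (Fin (n + 1)) (Fin (n + 1)) k) = diagonal fun _ => c) : ∃ a : kˣ, y = (mnA n).τ k (coch 1 a) := by
  have h0 : c ≠ 0 := fun e => GeneralLinearGroup.det_ne_zero y (by
    rw [h, e, det_diagonal]
    simp)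
  refine ⟨Units.mk0 c h0, Units.ext ?_⟩
  rw [h, coe_τA]
  simp [coch_apply]

theorem τ_scalar_comm (a : kˣ) (y : GL (Fin (n + 1)) k) : (mnA n).τ k (coch 1 a) * y = y * (mnA n).τ k (coch 1 a) := by
  refine Units.ext (Matrix.ext fun i j => ?_)
  rw [Units.val_mul, Units.val_mul, coe_τA, diagonal_mul, mul_diagonal, mul_comm]
  rfl

end GlA

variable {n : ℕ} {k : Type} [Field k] {F : Type*} [Field F]

/-- the embedding of `SL` -/
def ιL (n : ℕ) (f : F →+* k) : SpecialLinearGroup (Fin (n + 1)) F →* GL (Fin (n + 1)) k :=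
  (GeneralLinearGroup.map f).comp SpecialLinearGroup.toGL

/-- the embedding of `SU`, conjugated by `z` -/
def ιU (z : GL (Fin (n + 1)) k) (f : F →+* k) (q : ℕ) : SU (n + 1) F q →* GL (Fin (n + 1)) k :=
  (MulAut.conj z).toMonoidHom.comp ((ιL n f).comp (SU (n + 1) F q).subtype)

theorem ιU_apply (z : GL (Fin (n + 1)) k) (f : F →+* k) (q : ℕ) (s : SU (n + 1) F q) :
    ιU z f q s = z * ιL n f s * z⁻¹ := rfl

theorem ιL_inj (f : F →+* k) : Function.Injective (ιL n f) :=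
  (map_inj f).comp SpecialLinearGroup.toGL_injective

theorem ιU_inj (z : GL (Fin (n + 1)) k) (f : F →+* k) (q : ℕ) : Function.Injective (ιU z f q) :=
  (MulAut.conj z).injective.comp ((ιL_inj f).comp Subtype.val_injective)

theorem det_ιL (f : F →+* k) (s : SpecialLinearGroup (Fin (n + 1)) F) : GeneralLinearGroup.det (ιL n f s) = 1 :=
  Units.ext ((det_mapf f _).trans ((congrArg f s.2).trans (map_one f)))

theorem exists_sl (f : F →+* k) {g : GL (Fin (n + 1)) F}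
    (h : GeneralLinearGroup.det (GeneralLinearGroup.map f g) = 1) :
    ∃ s : SpecialLinearGroup (Fin (n + 1)) F, SpecialLinearGroup.toGL s = g :=
  ⟨⟨g, f.injective (by rw [← det_mapf, h, map_one]; rfl)⟩, Units.ext rfl⟩

/-- the centre of `SL` consists of scalars -/
theorem center_ιL (f : F →+* k) {s : SpecialLinearGroup (Fin (n + 1)) F}
    (hs : s ∈ Subgroup.center (SpecialLinearGroup (Fin (n + 1)) F)) : ∃ a : kˣ, ιL n f s = (mnA n).τ k (coch 1 a) := by
  obtain ⟨r, -, hr⟩ := Matrix.SpecialLinearGroup.mem_center_iff.1 hs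
  refine eq_τ_of_scalar (c := f r) (Matrix.ext fun i j => ?_)
  show f ((s : Matrix (Fin (n + 1)) (Fin (n + 1)) F) i j) = _
  rw [← hr, scalar_apply, diagonal_apply, diagonal_apply, apply_ite f, map_zero]

/-- the centre of `SU` consists of scalars -/
theorem center_ιU [Fintype F] (z : GL (Fin (n + 1)) k) (f : F →+* k) {q : ℕ} (hF : Fintype.card F = q ^ 2)
    (hn : 2 ≤ n) {s : SU (n + 1) F q} (hs : s ∈ Subgroup.center (SU (n + 1) F q)) :
    ∃ a : kˣ, ιU z f q s = (mnA n).τ k (coch 1 a) := by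
  obtain ⟨c, h1, h2, rfl⟩ := (LieClassical.SUBasic.mem_center_SU_iff hF (by omega) s).1 hs
  obtain ⟨a, ha⟩ := eq_τ_of_scalar (y := ιL n f (LieClassical.SUBasic.suScalar q c h1 h2 : SU (n + 1) F q)) (c := f c)
    (Matrix.ext fun i j => by
      show f (diagonal (fun _ => c) i j) = _
      rw [diagonal_apply, diagonal_apply, apply_ite f, map_zero])
  exact ⟨a, by rw [ιU_apply, ha, ← τ_scalar_comm, mul_inv_cancel_right]⟩

theorem center_range {S Y : Type*} [Group S] [Group Y] {ι : S →* Y} (hi : Function.Injective ι) {y : Y}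
    (hy : y ∈ ι.range) (hc : ∀ y' ∈ ι.range, y' * y = y * y') : ∃ s ∈ Subgroup.center S, ι s = y := by
  obtain ⟨s, rfl⟩ := hy
  exact ⟨s, Subgroup.mem_center_iff.2 fun g => hi (by rw [map_mul, map_mul, hc _ ⟨g, rfl⟩]), rfl⟩

variable [CharP k 2] [IsAlgClosed k] [Fintype F] {e : ℕ}

theorem mem_GF_L {y : GL (Fin (n + 1)) k} :
    y ∈ GF (1 * frA _ k e) ((mnA n).G k (csA n) (isCartan n)) ↔ y ∈ Mn.lv _ k e := by
  rw [Mn.GF_frA, G_top, top_inf_eq]

theorem mem_GF_U {y : GL (Fin (n + 1)) k} :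
    y ∈ GF (γA n k * frA _ k e) ((mnA n).G k (csA n) (isCartan n)) ↔ γA n k (frA _ k e y) = y := by
  rw [mem_GF, G_top]
  exact ⟨fun h => h.2, fun h => ⟨trivial, h⟩⟩

theorem mem_range_ιL (f : F →+* k) (hF : Fintype.card F = 2 ^ e) {y : GL (Fin (n + 1)) k}
    (hy : y ∈ GF (1 * frA _ k e) ((mnA n).G k (csA n) (isCartan n))) :
    y ∈ (ιL n f).range ↔ GeneralLinearGroup.det y = 1 := by
  refine ⟨?_, fun h => ?_⟩
  · rintro ⟨s, rfl⟩
    exact det_ιL f s
  · obtain ⟨g, rfl⟩ := exists_map f hF (mem_GF_L.1 hy)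
    obtain ⟨s, rfl⟩ := exists_sl f h
    exact ⟨s, rfl⟩

theorem det_GF_L {y : GL (Fin (n + 1)) k} (hy : y ∈ GF (1 * frA _ k e) ((mnA n).G k (csA n) (isCartan n))) :
    GeneralLinearGroup.det y ^ 2 ^ e = GeneralLinearGroup.det y := by
  rw [← det_frA, show frA _ k e y = y from hy.2]

theorem det_GF_U {y : GL (Fin (n + 1)) k} (hy : y ∈ GF (γA n k * frA _ k e) ((mnA n).G k (csA n) (isCartan n))) :
    GeneralLinearGroup.det y ^ (2 ^ e + 1) = 1 := by
  have h := congrArg GeneralLinearGroup.det (mem_GF_U.1 hy)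
  rw [det_γA, det_frA, inv_eq_iff_mul_eq_one] at h
  rw [pow_succ, h]

/-- **`SL` in `GL`.** -/
theorem embL (f : F →+* k) (hF : Fintype.card F = 2 ^ e) :
    Emb (1 * frA _ k e) ((mnA n).G k (csA n) (isCartan n)) ((mnA n).τ k).range (ιL n f) (2 ^ e - 1) :=
  emb_of_det (ιL_inj f) (by rw [G_top]; exact le_top) (fun _ => mem_GF_L.2 (map_mem_lv f hF _))
    (fun _ hy => mem_range_ιL f hF hy)
    (fun y hy => ⟨(mnA n).τ k (Pi.mulSingle 0 (GeneralLinearGroup.det y)), by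
      rw [Mn.GF_frA]
      exact ⟨⟨_, rfl⟩, (mnA n).τ_mem_lv.2 (by rw [← Pi.mulSingle_pow, det_GF_L hy])⟩, by
      rw [det_τA, chr_one_single]⟩)
    fun y hy => by
      rw [← mul_left_inj (GeneralLinearGroup.det y), ← pow_succ, Nat.sub_add_cancel Nat.one_le_two_pow, det_GF_L hy,
        one_mul]

/-- Lang's theorem for the standard unitary form -/
theorem exists_lang (hk : ∀ a : k, ∃ j, 0 < j ∧ a ^ 2 ^ j = a) (he : 0 < e) (n : ℕ) :
    ∃ z : GL (Fin (n + 1)) k, pm k Fin.revPerm = z * (itA _ k (frA _ k e z))⁻¹ := by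
  obtain ⟨z, -, hz⟩ := ((mnA n).datT (cs := csA n) (h := isCartan n) hk he (mnA n).sy_it Mn.fin_it).lang_G'
    (y := pm k Fin.revPerm) (by rw [G_top]; trivial)
  exact ⟨z, hz⟩

theorem fix_it_iff (f : F →+* k) {σ : F →+* F} (hs : ∀ x, σ x = x ^ 2 ^ e) (g : GL (Fin (n + 1)) F) :
    itA _ k (frA _ k e (GeneralLinearGroup.map f g)) = GeneralLinearGroup.map f g ↔ g ∈ GUs σ (Fin (n + 1)) := by
  have h1 : frA _ k e (GeneralLinearGroup.map f g) = GeneralLinearGroup.map f (GeneralLinearGroup.map σ g) :=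
    Units.ext (Matrix.ext fun a b => (frob_apply e _ a b).trans (by
      show f ((g : Matrix _ _ F) a b) ^ 2 ^ e = f (σ ((g : Matrix _ _ F) a b))
      rw [hs, map_pow]))
  rw [h1, ← map_itA, (map_inj f).eq_iff, mem_GUs, ← inv_mul_eq_one, Units.ext_iff]
  rfl

variable {z : GL (Fin (n + 1)) k} (hz : pm k Fin.revPerm = z * (itA _ k (frA _ k e z))⁻¹)
include hz

theorem conj_GF_U (y : GL (Fin (n + 1)) k) :
    z * y * z⁻¹ ∈ GF (γA n k * frA _ k e) ((mnA n).G k (csA n) (isCartan n)) ↔ itA _ k (frA _ k e y) = y := by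
  rw [mem_GF_U, MulAut.mul_apply, MulAut.conj_apply, hz, map_mul, map_mul, map_mul, map_mul, map_inv, map_inv]
  generalize itA _ k (frA _ k e z) = w
  generalize itA _ k (frA _ k e y) = v
  have h : z * w⁻¹ * (w * v * w⁻¹) * (z * w⁻¹)⁻¹ = z * v * z⁻¹ := by group
  rw [h, mul_left_inj, mul_right_inj]

theorem ιU_mem (f : F →+* k) (hF : Fintype.card F = (2 ^ e) ^ 2) (s : SU (n + 1) F (2 ^ e)) :
    ιU z f (2 ^ e) s ∈ GF (γA n k * frA _ k e) ((mnA n).G k (csA n) (isCartan n)) := by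
  obtain ⟨σ, -, hs, -⟩ := exists_sigma (f.injective (by rw [map_ofNat, map_zero, CharTwo.two_eq_zero])) hF
  exact (conj_GF_U hz _).2 ((fix_it_iff f hs _).2 ((mem_SU_iff hs _).1 s.2))

theorem mem_range_ιU (f : F →+* k) (hF : Fintype.card F = (2 ^ e) ^ 2) {y : GL (Fin (n + 1)) k}
    (hy : y ∈ GF (γA n k * frA _ k e) ((mnA n).G k (csA n) (isCartan n))) :
    y ∈ (ιU z f (2 ^ e)).range ↔ GeneralLinearGroup.det y = 1 := by
  refine ⟨?_, fun h => ?_⟩
  · rintro ⟨s, rfl⟩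
    rw [ιU_apply, map_mul, map_mul, det_ιL, mul_one, map_inv, mul_inv_cancel]
  · obtain ⟨σ, -, hs, -⟩ := exists_sigma (f.injective (by rw [map_ofNat, map_zero, CharTwo.two_eq_zero])) hF
    obtain ⟨y, rfl⟩ : ∃ y', y = z * y' * z⁻¹ := ⟨z⁻¹ * y * z, by group⟩
    have h1 := (conj_GF_U hz y).1 hy
    obtain ⟨g, rfl⟩ := exists_map f (e := 2 * e) (by rw [hF, ← pow_mul, mul_comm])
      (Mn.Sy.fix_le (mnA n) ((mnA n).sy_it (cs := csA n) (h := isCartan n)) (d := 2) (by rw [sq]; rfl) e h1)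
    rw [map_mul, map_mul, map_inv, mul_inv_cancel_comm] at h
    obtain ⟨s, rfl⟩ := exists_sl f h
    exact ⟨⟨s, (mem_SU_iff hs s).2 ((fix_it_iff f hs _).1 h1)⟩, rfl⟩

omit hz in
theorem exists_tor_U (he : 0 < e) {d : kˣ} (hd : d ^ (2 ^ e + 1) = 1) :
    ∃ t ∈ GF (γA n k * frA _ k e) ((mnA n).τ k).range, GeneralLinearGroup.det t = d := by
  obtain ⟨m, hm⟩ : ∃ m, 2 ^ e = m + 1 + 1 := ⟨2 ^ e - 2, by have := Nat.one_lt_two_pow he.ne'; omega⟩
  obtain ⟨x, hx⟩ := IsAlgClosed.exists_pow_nat_eq ((d⁻¹ : kˣ) : k) (Nat.succ_pos m)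
  have h0 : x ≠ 0 := by
    rintro rfl
    exact (d⁻¹).ne_zero (by rw [← hx, zero_pow (Nat.succ_ne_zero m)])
  set a : kˣ := Units.mk0 x h0 with ha
  have h1 : a ^ (m + 1) = d⁻¹ := Units.ext hx
  have h2 : a ^ 2 ^ e = d⁻¹ * a := by rw [hm, pow_succ, h1]
  have h3 : (a ^ 2 ^ e) ^ 2 ^ e = a := by
    rw [h2, mul_pow, h2, ← mul_assoc, ← pow_succ, inv_pow, hd, inv_one, one_mul]
  refine ⟨(mnA n).τ k (Pi.mulSingle 0 a * Pi.mulSingle (Fin.last n) (a ^ 2 ^ e)⁻¹), ⟨⟨_, rfl⟩, ?_⟩, ?_⟩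
  · refine mem_fix.2 ?_
    rw [MulAut.mul_apply, frA_apply, (mnA n).frob_τ, syA.τ]
    congr 1
    funext j
    rw [mon_BA, mul_pow, ← Pi.mulSingle_pow, ← Pi.mulSingle_pow, inv_pow, h3]
    simp only [Pi.mul_apply, Pi.mulSingle_apply, Fin.rev_eq_iff, Fin.rev_zero, Fin.rev_last]
    split_ifs <;> simp [mul_comm]
  · rw [det_τA, map_mul, chr_one_single, chr_one_single, h2, mul_comm d⁻¹, _root_.mul_inv_rev, inv_inv,
      mul_comm d, mul_inv_cancel_left]

/-- **`SU` in `GU`.** -/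
theorem embU' (he : 0 < e) (f : F →+* k) (hF : Fintype.card F = (2 ^ e) ^ 2) :
    Emb (γA n k * frA _ k e) ((mnA n).G k (csA n) (isCartan n)) ((mnA n).τ k).range (ιU z f (2 ^ e)) (2 ^ e + 1) :=
  emb_of_det (ιU_inj z f _) (by rw [G_top]; exact le_top) (ιU_mem hz f hF) (fun _ hy => mem_range_ιU hz f hF hy)
    (fun _ hy => exists_tor_U he (det_GF_U hy)) fun _ hy => det_GF_U hy

omit hz in
/-- **`SU` in `GU`**, the package -/
theorem embU (hk : ∀ a : k, ∃ j, 0 < j ∧ a ^ 2 ^ j = a) (he : 0 < e) (n : ℕ) (f : F →+* k)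
    (hF : Fintype.card F = (2 ^ e) ^ 2) : ∃ ι : SU (n + 1) F (2 ^ e) →* GL (Fin (n + 1)) k,
    Emb (γA n k * frA _ k e) ((mnA n).G k (csA n) (isCartan n)) ((mnA n).τ k).range ι (2 ^ e + 1) ∧
    (∀ y ∈ GF (γA n k * frA _ k e) ((mnA n).G k (csA n) (isCartan n)),
      y ∈ ι.range ↔ GeneralLinearGroup.det y = 1) ∧
    (2 ≤ n → ∀ s ∈ Subgroup.center (SU (n + 1) F (2 ^ e)), ∃ a : kˣ, ι s = (mnA n).τ k (coch 1 a)) := by
  obtain ⟨z, hz⟩ := exists_lang hk he n
  exact ⟨ιU z f (2 ^ e), embU' hz he f hF, fun _ hy => mem_range_ιU hz f hF hy, fun hn _ hs => center_ιU z f hF hn hs⟩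

omit hz [CharP k 2] [IsAlgClosed k]

theorem perfect_sl (h : 2 ≤ n ∨ (n = 1 ∧ 4 ≤ Fintype.card F)) : commutator (SpecialLinearGroup (Fin (n + 1)) F) = ⊤ := by
  rcases h with h | ⟨rfl, h⟩
  · exact S0248.result (n + 1) (by omega)
  · exact H259.NatMod.commutator_eq_top (by omega)

theorem perfect_su {q : ℕ} (hF : Fintype.card F = q ^ 2) (hn : 2 ≤ n) (h : ¬ (n = 2 ∧ q = 2)) :
    commutator (SU (n + 1) F q) = ⊤ :=
  LieClassical.HermPerfect.commutator_SU_eq_top hF (by omega) (by omega)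

theorem card_pgl_eq (hF : (2 : F) = 0) (n : ℕ) : ∃ m, Odd m ∧
    Nat.card (ProjGenLinGroup (Fin (n + 1)) F) = Nat.card (ProjectiveSpecialLinearGroup (Fin (n + 1)) F) * m := by
  refine ⟨Nat.card (Subgroup.center (SpecialLinearGroup (Fin (n + 1)) F)), ?_, ?_⟩
  · rw [Nat.card_congr (SpecialLinearGroup.center_equiv_rootsOfUnity' (0 : Fin (n + 1))).toEquiv]
    exact (odd_units hF).of_dvd_nat (Subgroup.card_subgroup_dvd_card _)
  · rw [ClassicalGeometry.PSL2Basic.card_PGL_eq_card_SL]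
    exact Subgroup.card_eq_card_quotient_mul_card_subgroup _

theorem two_zero_of_card (he : 0 < e) (hF : Fintype.card F = 2 ^ e) : (2 : F) = 0 := by
  have h := FiniteField.cast_card_eq_zero F
  rw [hF, Nat.cast_pow, Nat.cast_ofNat] at h
  exact pow_eq_zero_iff he.ne' |>.1 h

theorem card_aut_psl (he : 0 < e) (hF : Fintype.card F = 2 ^ e) (hn : 2 ≤ n) : ∃ m, Odd m ∧
    Nat.card (MulAut (ProjectiveSpecialLinearGroup (Fin (n + 1)) F)) =
      Nat.card (ProjectiveSpecialLinearGroup (Fin (n + 1)) F) * (2 * e) * m := by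
  obtain ⟨m, h1, h2⟩ := card_pgl_eq (two_zero_of_card he hF) n
  refine ⟨m, h1, ?_⟩
  rw [S0813.result 2 e he hF (n + 1) (by omega) (by omega), h2, if_neg (by omega)]
  ring

theorem card_aut_psl_two (he : 2 ≤ e) (hF : Fintype.card F = 2 ^ e) : ∃ m, Odd m ∧
    Nat.card (MulAut (ProjectiveSpecialLinearGroup (Fin (1 + 1)) F)) =
      Nat.card (ProjectiveSpecialLinearGroup (Fin (1 + 1)) F) * e * m := by
  obtain ⟨m, h1, h2⟩ := card_pgl_eq (two_zero_of_card (by omega) hF) 1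
  refine ⟨m, h1, ?_⟩
  rw [S0813.result 2 e (by omega) hF (1 + 1) le_rfl (fun _ => Nat.pow_le_pow_right two_pos he), h2, if_pos rfl]
  ring

theorem card_aut_psu (he : 0 < e) (hF : Fintype.card F = (2 ^ e) ^ 2) (hn : 2 ≤ n) (h : ¬ (n = 2 ∧ 2 ^ e = 2)) :
    ∃ m, Odd m ∧ Nat.card (MulAut (PSU (n + 1) F (2 ^ e))) = Nat.card (PSU (n + 1) F (2 ^ e)) * (2 * e) * m := by
  refine ⟨Nat.gcd (n + 1) (2 ^ e + 1), ?_, ?_⟩
  · exact ((Nat.even_pow.2 ⟨even_two, he.ne'⟩).add_one).of_dvd_nat (Nat.gcd_dvd_right _ _)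
  · rw [S0815.result 2 e he rfl hF (n + 1) (by omega) (by omega)]
    ring

end Cfsg.Agent.ODD.C2
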