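import Cfsg.Agent.DL.PP.Cor
import Cfsg.Agent.Cit.Nil.LO.SLComm
import Cfsg.Agent.Nodes.PosPair

/-!
# The height filtration of the unipotent group of a simply laced datum (helper33)

`Ge D m` : the positive roots of height at least `m`; `kc D c u` : the coordinate at `c` of an element of the layer of
`c`; `exists_nn` : the commutator constants; `kc_comm` : the coordinates of a commutator.
-/

set_option autoImplicit false
set_option linter.unusedSectionVars false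
set_option linter.unusedVariables false

namespace Cfsg.Agent.ODD.C2

open CoxeterSystem Cfsg.Agent.ChevalleyStructure.CoxeterGeom Cfsg.Agent.Tits.Roots Cfsg.Agent.Nodes.Reps
  Cfsg.Agent.Nodes.BNOf Cfsg.Agent.Nodes.Coroot Cfsg.Agent.Nodes.SimplyLaced Cfsg.Agent.DL
open scoped commutatorElement

section grp

variable {Y : Type*} [Group Y]

/-- the elements of `H` whose commutator with `v` lies in `K` -/
def cmS {H K : Subgroup Y} (hK : H ≤ Subgroup.normalizer (K : Set Y)) (v : Y) : Subgroup Y where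
  carrier := {u | u ∈ H ∧ ⁅u, v⁆ ∈ K}
  one_mem' := ⟨one_mem _, by rw [commutatorElement_one_left]; exact one_mem _⟩
  mul_mem' := fun {a b} ha hb => ⟨mul_mem ha.1 hb.1, by
    rw [show ⁅a * b, v⁆ = a * ⁅b, v⁆ * a⁻¹ * ⁅a, v⁆ by simp only [commutatorElement_def]; group]
    exact mul_mem ((Subgroup.mem_normalizer_iff.1 (hK ha.1) _).1 hb.2) ha.2⟩
  inv_mem' := fun {a} ha => ⟨inv_mem ha.1, by
    rw [show ⁅a⁻¹, v⁆ = a⁻¹ * ⁅a, v⁆⁻¹ * a⁻¹⁻¹ by simp only [commutatorElement_def]; group]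
    exact (Subgroup.mem_normalizer_iff.1 (hK (inv_mem ha.1)) _).1 (inv_mem ha.2)⟩

/-- additive functions that agree on generators agree -/
def eqS {k : Type*} [AddCommGroup k] {H : Subgroup Y} {φ ψ : Y → k} (hφ : ∀ u ∈ H, ∀ v ∈ H, φ (u * v) = φ u + φ v)
    (hψ : ∀ u ∈ H, ∀ v ∈ H, ψ (u * v) = ψ u + ψ v) : Subgroup Y where
  carrier := {u | u ∈ H ∧ φ u = ψ u}
  one_mem' := ⟨one_mem _, by
    have h1 := hφ 1 (one_mem _) 1 (one_mem _)
    have h2 := hψ 1 (one_mem _) 1 (one_mem _)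
    rw [mul_one, left_eq_add] at h1 h2
    rw [h1, h2]⟩
  mul_mem' := fun {a b} ha hb => ⟨mul_mem ha.1 hb.1, by rw [hφ a ha.1 b hb.1, hψ a ha.1 b hb.1, ha.2, hb.2]⟩
  inv_mem' := fun {a} ha => ⟨inv_mem ha.1, by
    have h1 := hφ 1 (one_mem _) 1 (one_mem _)
    have h2 := hψ 1 (one_mem _) 1 (one_mem _)
    rw [mul_one, left_eq_add] at h1 h2
    have h3 := hφ _ (inv_mem ha.1) a ha.1
    have h4 := hψ _ (inv_mem ha.1) a ha.1
    rw [inv_mul_cancel] at h3 h4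
    rw [h1, ha.2] at h3
    rw [h2] at h4
    exact add_right_cancel (h3.symm.trans h4)⟩

end grp

variable {p : ℕ} [Fact p.Prime] {k : Type} [Field k] [CharP k p] {Y : Type} [Group Y] {N : Type} [Fintype N]
  [DecidableEq N] {ρ : Y →* GL N k} {F : MulAut Y} {G : Subgroup Y} (D : Datum p ρ F G)

/-- the positive roots -/
abbrev Po : Set (D.I → ℤ) := RGD.Pos D.cs D.h

/-- simply laced -/
abbrev Sl : Prop := ∀ i j, D.M i j ≠ 4 ∧ D.M i j ≠ 6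

/-- the positive roots of height at least `m` -/
def Ge (m : ℤ) : Set (D.I → ℤ) := {a | a ∈ Po D ∧ m ≤ ht a}

/-- the roots of the layer of `c` and above, without `c` -/
def Pc (c : D.I → ℤ) : Set (D.I → ℤ) := {a | a ∈ Ge D (ht c) ∧ a ≠ c}

open Classical in
/-- the coordinate at `c` -/
noncomputable def kc (c : D.I → ℤ) (u : Y) : k := if h : ∃ t, (D.x c t)⁻¹ * u ∈ D.S (Pc D c) then h.choose else 0

variable {D} {a b c : D.I → ℤ} {u v : Y} {i j m : ℤ}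

theorem po_ht (ha : a ∈ Po D) : 0 < ht a := RGD.ht_pos ha.1 ha.2

theorem po_add (ha : a ∈ Po D) (hb : b ∈ Po D) (h : D.Rt (a + b)) : a + b ∈ Po D := ⟨h, add_nonneg ha.2 hb.2⟩

theorem po_ne_neg (ha : a ∈ Po D) (hb : b ∈ Po D) : a ≠ -b := fun e =>
  ha.1.not_pos_neg ha.2 (e ▸ neg_nonpos.2 hb.2)

theorem Ge_mono (h : i ≤ j) : D.S (Ge D j) ≤ D.S (Ge D i) := RGD.Sup_mono fun _ ha => ⟨ha.1, h.trans ha.2⟩

theorem Ge_le_U : D.S (Ge D m) ≤ D.U := RGD.Sup_mono fun _ ha => ha.1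

theorem U_le_Ge : D.U ≤ D.S (Ge D 1) := RGD.Sup_mono fun _ ha => ⟨ha, po_ht ha⟩

theorem Pc_le_Ge : D.S (Pc D c) ≤ D.S (Ge D (ht c)) := RGD.Sup_mono fun _ ha => ha.1

theorem Ge_le_Pc : D.S (Ge D (ht c + 1)) ≤ D.S (Pc D c) := RGD.Sup_mono fun a ha =>
  ⟨⟨ha.1, (Int.le_add_one le_rfl).trans ha.2⟩, fun e => by have := ha.2; rw [e] at this; omega⟩

theorem x_mem_Ge (ha : a ∈ Ge D m) (t : k) : D.x a t ∈ D.S (Ge D m) := RGD.le_Sup ha (D.x_mem ha.1.1 t)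

theorem ext_S {A : Set (D.I → ℤ)} (hA : ∀ a ∈ A, D.Rt a) {φ ψ : Y → k}
    (hφ : ∀ u ∈ D.S A, ∀ v ∈ D.S A, φ (u * v) = φ u + φ v) (hψ : ∀ u ∈ D.S A, ∀ v ∈ D.S A, ψ (u * v) = ψ u + ψ v)
    (h : ∀ a ∈ A, ∀ t, φ (D.x a t) = ψ (D.x a t)) (hu : u ∈ D.S A) : φ u = ψ u := by
  have h1 : D.S A ≤ eqS hφ hψ := RGD.Sup_le fun a ha y hy => by
    obtain ⟨t, rfl⟩ := (D.mem_X a (hA a ha) y).1 hy
    exact ⟨RGD.le_Sup ha hy, h a ha t⟩
  exact (h1 hu).2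

variable (hs : Sl D)
include hs

theorem btwn_po (ha : a ∈ Po D) (hb : b ∈ Po D) (h : Btwn D.cs D.h a b c) : (a = b ∧ c = a) ∨ (a ≠ b ∧ c = a + b) := by
  have := Fintype.ofFinite D.W
  by_cases e : a = b
  · subst e
    have h0 := RGD.nonneg_of_btwn ha.2 ha.2 h
    obtain ⟨hc, m, i, j, hm, -, -, e⟩ := h
    rw [← add_smul] at e
    exact Or.inl ⟨rfl, (Nodes.PosPair.eq_or_eq_neg_of_smul _ _ hc ha.1 hm.ne' e).resolve_right (po_ne_neg ⟨hc, h0⟩ ha)⟩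
  · exact Or.inr ⟨e, (LOC.SL.btwn_cases (fun i j => (hs i j).1) (fun i j => (hs i j).2) ha.1 hb.1 e
      (po_ne_neg ha hb) h).2⟩

theorem cl_of {A : Set (D.I → ℤ)} (hA : A ⊆ Po D) (h : ∀ a ∈ A, ∀ b ∈ A, a ≠ b → D.Rt (a + b) → a + b ∈ A) :
    D.Cl A := by
  refine ⟨fun a ha => (hA ha).1, fun a ha b hb c hc => ?_⟩
  rcases btwn_po hs (hA ha) (hA hb) hc with ⟨-, rfl⟩ | ⟨h1, rfl⟩
  exacts [ha, h a ha b hb h1 hc.1]

omit hs in
theorem add_mem_Ge (ha : a ∈ Ge D i) (hb : b ∈ Ge D j) (h : D.Rt (a + b)) : a + b ∈ Ge D (i + j) :=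
  ⟨po_add ha.1 hb.1 h, by rw [RGD.ht_add]; exact add_le_add ha.2 hb.2⟩

omit hs in
theorem add_mem_Ge' (ha : a ∈ Po D) (hb : b ∈ Ge D j) (h : D.Rt (a + b)) : a + b ∈ Ge D j :=
  ⟨po_add ha hb.1 h, by have := po_ht ha; have := hb.2; rw [RGD.ht_add]; omega⟩

omit hs in
theorem add_mem_Pc (ha : a ∈ Po D) (hb : b ∈ Pc D c) (h : D.Rt (a + b)) : a + b ∈ Pc D c :=
  ⟨add_mem_Ge' ha hb.1 h, fun e => by
    have := po_ht ha
    have := hb.1.2
    have h1 := RGD.ht_add a b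
    rw [e] at h1
    omega⟩

theorem cl_Ge : D.Cl (Ge D m) := cl_of hs (fun _ h => h.1) fun _ ha _ hb _ h => add_mem_Ge' ha.1 hb h

theorem cl_Pc : D.Cl (Pc D c) := cl_of hs (fun _ h => h.1.1) fun _ ha _ hb _ h => add_mem_Pc ha.1.1 hb h

theorem comm_mem (ha : a ∈ Po D) (hb : b ∈ Po D) (hu : u ∈ D.X a) (hv : v ∈ D.X b) {A : Set (D.I → ℤ)}
    (hA : D.Rt (a + b) → a + b ∈ A) : ⁅u, v⁆ ∈ D.S A := by
  by_cases e : a = b
  · subst e
    obtain ⟨s, rfl⟩ := (D.mem_X a ha.1 u).1 hu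
    obtain ⟨t, rfl⟩ := (D.mem_X a ha.1 v).1 hv
    rw [commutatorElement_eq_one_iff_mul_comm.2 (by rw [← D.x_add a ha.1, ← D.x_add a ha.1, add_comm])]
    exact one_mem _
  refine RGD.Sup_mono (fun c hc => ?_) (D.comm ha.1 hb.1 e (po_ne_neg ha hb) hu hv)
  rcases btwn_po hs ha hb hc with ⟨h1, -⟩ | ⟨-, rfl⟩
  exacts [absurd h1 e, hA hc.1]

theorem U_norm {A : Set (D.I → ℤ)} (hA : A ⊆ Po D) (h : ∀ a ∈ Po D, ∀ b ∈ A, D.Rt (a + b) → a + b ∈ A) :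
    D.U ≤ Subgroup.normalizer (D.S A : Set Y) := by
  refine RGD.Sup_le fun a ha => ?_
  have key : ∀ ξ ∈ D.X a, ∀ v ∈ D.S A, ξ * v * ξ⁻¹ ∈ D.S A := fun ξ hξ => by
    have : D.S A ≤ (D.S A).comap (MulAut.conj ξ).toMonoidHom := RGD.Sup_le fun b hb η hη => by
      have h5 := mul_mem (comm_mem hs ha (hA hb) hξ hη (h a ha b hb)) (RGD.le_Sup hb hη)
      rwa [commutatorElement_def, inv_mul_cancel_right] at h5
    exact this
  intro ξ hξ
  refine Subgroup.mem_normalizer_iff.2 fun v => ⟨key ξ hξ v, fun h => ?_⟩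
  simpa [mul_assoc] using key _ (inv_mem hξ) _ h

theorem U_norm_Ge : D.U ≤ Subgroup.normalizer (D.S (Ge D m) : Set Y) :=
  U_norm hs (fun _ h => h.1) fun _ ha _ hb h => add_mem_Ge' ha hb h

theorem U_norm_Pc : D.U ≤ Subgroup.normalizer (D.S (Pc D c) : Set Y) :=
  U_norm hs (fun _ h => h.1.1) fun _ ha _ hb h => add_mem_Pc ha hb h

theorem conj_mem_Ge (hu : u ∈ D.U) (hv : v ∈ D.S (Ge D m)) : u * v * u⁻¹ ∈ D.S (Ge D m) :=
  (Subgroup.mem_normalizer_iff.1 (U_norm_Ge hs hu) v).1 hv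

theorem comm_Ge (hu : u ∈ D.S (Ge D i)) (hv : v ∈ D.S (Ge D j)) : ⁅u, v⁆ ∈ D.S (Ge D (i + j)) := by
  have h1 : D.S (Ge D i) ≤ cmS (U_norm_Ge hs (m := i + j)) v := RGD.Sup_le fun a ha y hy => by
    have h2 : D.S (Ge D j) ≤ cmS (U_norm_Ge hs (m := i + j)) y := RGD.Sup_le fun b hb z hz =>
      ⟨Ge_le_U (RGD.le_Sup hb hz), comm_mem hs hb.1 ha.1 hz hy fun h => add_comm j i ▸ add_mem_Ge hb ha h⟩
    refine ⟨Ge_le_U (RGD.le_Sup ha hy), ?_⟩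
    rw [← commutatorElement_inv]
    exact inv_mem (h2 hv).2
  exact (h1 hu).2

theorem kc_spec (hc : c ∈ Po D) (hu : u ∈ D.S (Ge D (ht c))) : (D.x c (kc D c u))⁻¹ * u ∈ D.S (Pc D c) := by
  have h : ∃ t, (D.x c t)⁻¹ * u ∈ D.S (Pc D c) := by
    have h1 : D.S (Ge D (ht c)) ≤ D.X c ⊔ D.S (Pc D c) := RGD.Sup_le fun a ha => by
      by_cases e : a = c
      · rw [e]
        exact le_sup_left
      · exact (RGD.le_Sup (S := Pc D c) ⟨ha, e⟩).trans le_sup_right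
    have h2 : u ∈ ((D.X c ⊔ D.S (Pc D c) : Subgroup Y) : Set Y) := h1 hu
    rw [Subgroup.coe_mul_of_left_le_normalizer_right _ _ ((RGD.le_Sup hc).trans (U_norm_Pc hs))] at h2
    obtain ⟨y, hy, z, hz, rfl⟩ := h2
    obtain ⟨t, rfl⟩ := (D.mem_X c hc.1 y).1 hy
    exact ⟨t, by rwa [inv_mul_cancel_left]⟩
  rw [kc, dif_pos h]
  exact h.choose_spec

theorem eq_zero_of_mem (hc : c ∈ Po D) {t : k} (h : D.x c t ∈ D.S (Pc D c)) : t = 0 := by
  have h1 := D.S_inf_S (A := {c}) (B := Pc D c) (cl_of hs (fun a ha => ha ▸ hc) fun a ha b hb e => absurd (ha.trans hb.symm) e)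
    (cl_Pc hs) Nodes.Slope.htHom (by
      rintro a (ha | ha)
      · exact po_ht (ha ▸ hc)
      · exact po_ht ha.1.1)
  have h2 : D.S ({c} ∩ Pc D c) ≤ ⊥ := RGD.Sup_le fun a ha => absurd ha.1 ha.2.2
  rw [← D.x_eq_one_iff hc.1, ← Subgroup.mem_bot]
  exact h2 (h1 ▸ ⟨RGD.le_Sup (S := {c}) rfl (D.x_mem hc.1 t), h⟩)

theorem kc_eq (hc : c ∈ Po D) {t : k} (h : (D.x c t)⁻¹ * u ∈ D.S (Pc D c)) : kc D c u = t := by
  have hu : u ∈ D.S (Ge D (ht c)) := by simpa using mul_mem (x_mem_Ge ⟨hc, le_rfl⟩ t) (Pc_le_Ge h)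
  have h1 := mul_mem h (inv_mem (kc_spec hs hc hu))
  rw [_root_.mul_inv_rev, inv_inv, mul_assoc, mul_inv_cancel_left, ← D.x_neg hc.1, ← D.x_add _ hc.1] at h1
  have h2 := eq_zero_of_mem hs hc h1
  linear_combination h2

theorem kc_eq_zero (hc : c ∈ Po D) (h : u ∈ D.S (Pc D c)) : kc D c u = 0 :=
  kc_eq hs hc (by rwa [D.x_zero hc.1, inv_one, one_mul])

theorem mem_Pc (hc : c ∈ Po D) (hu : u ∈ D.S (Ge D (ht c))) (h : kc D c u = 0) : u ∈ D.S (Pc D c) := by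
  have h1 := kc_spec hs hc hu
  rwa [h, D.x_zero hc.1, inv_one, one_mul] at h1

theorem kc_mul (hc : c ∈ Po D) (hu : u ∈ D.S (Ge D (ht c))) (hv : v ∈ D.S (Ge D (ht c))) :
    kc D c (u * v) = kc D c u + kc D c v := by
  refine kc_eq hs hc ?_
  have h1 := (Subgroup.mem_normalizer_iff.1 (U_norm_Pc hs (c := c)
    (inv_mem (RGD.le_Sup hc (D.x_mem hc.1 (kc D c v))))) _).1 (kc_spec hs hc hu)
  convert mul_mem h1 (kc_spec hs hc hv) using 1
  rw [D.x_add _ hc.1]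
  group

theorem kc_inv (hc : c ∈ Po D) (hu : u ∈ D.S (Ge D (ht c))) : kc D c u⁻¹ = -kc D c u := by
  have := kc_mul hs hc (inv_mem hu) hu
  rw [inv_mul_cancel, kc_eq_zero hs hc (one_mem _)] at this
  linear_combination -this

theorem kc_x (hc : c ∈ Po D) (ha : a ∈ Ge D (ht c)) (t : k) : kc D c (D.x a t) = if a = c then t else 0 := by
  split_ifs with h
  · exact kc_eq hs hc (by rw [h, inv_mul_cancel]; exact one_mem _)
  · exact kc_eq_zero hs hc (RGD.le_Sup (S := Pc D c) ⟨ha, h⟩ (D.x_mem ha.1.1 t))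

theorem kc_conj (hc : c ∈ Po D) (hu : u ∈ D.U) (hv : v ∈ D.S (Ge D (ht c))) : kc D c (u * v * u⁻¹) = kc D c v := by
  have h1 := comm_Ge hs (U_le_Ge hu) hv
  rw [add_comm] at h1
  rw [show u * v * u⁻¹ = ⁅u, v⁆ * v by rw [commutatorElement_def, inv_mul_cancel_right],
    kc_mul hs hc (Pc_le_Ge (Ge_le_Pc h1)) hv, kc_eq_zero hs hc (Ge_le_Pc h1), zero_add]

theorem mem_Ge_succ (hu : u ∈ D.S (Ge D m)) (h : ∀ c ∈ Po D, ht c = m → kc D c u = 0) : u ∈ D.S (Ge D (m + 1)) := by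
  obtain ⟨L, hL⟩ := D.uni_pos.exists_ord
  obtain ⟨f, hf, rfl⟩ := hL.ex (cl_Ge hs) (fun _ h => h.1) hu
  refine D.lp_mem_S hL.root fun a ha h0 => ?_
  have h1 : a ∈ Ge D m := by_contra fun h1 => h0 (hf a h1)
  refine ⟨h1.1, lt_of_le_of_ne h1.2 fun e => h0 ?_⟩
  subst e
  exact hL.eq_zero (cl_Pc hs) (fun _ h => h.1.1) (mem_Pc hs h1.1 hu (h a h1.1 rfl)) a h1.1 fun h2 => h2.2 rfl

theorem exists_kc (f : (D.I → ℤ) → k) : ∃ u ∈ D.S (Ge D m), ∀ c ∈ Po D, ht c = m → kc D c u = f c := by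
  classical
  have h : ∀ J : Finset (D.I → ℤ), (∀ a ∈ J, a ∈ Ge D m) →
      ∃ u ∈ D.S (Ge D m), ∀ c ∈ Po D, ht c = m → kc D c u = if c ∈ J then f c else 0 := fun J => by
    induction J using Finset.induction_on with
    | empty => exact fun _ => ⟨1, one_mem _, fun c hc _ => by simp [kc_eq_zero hs hc (one_mem _)]⟩
    | insert a J hj ih =>
      intro hJ
      obtain ⟨u, hu, h⟩ := ih fun b hb => hJ b (Finset.mem_insert_of_mem hb)
      have ha := hJ a (Finset.mem_insert_self a J)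
      refine ⟨D.x a (f a) * u, mul_mem (x_mem_Ge ha _) hu, fun c hc e => ?_⟩
      subst e
      rw [kc_mul hs hc (x_mem_Ge ha _) hu, kc_x hs hc ha, h c hc rfl]
      by_cases e : a = c
      · simp [← e, hj]
      · simp [e, Ne.symm e]
  have hf : (Ge D m).Finite := D.finite_roots.subset fun _ h => h.1.1
  obtain ⟨u, hu, h1⟩ := h hf.toFinset fun a ha => hf.mem_toFinset.1 ha
  exact ⟨u, hu, fun c hc e => by rw [h1 c hc e, if_pos (hf.mem_toFinset.2 ⟨hc, e.ge⟩)]⟩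

theorem cpr_of_add (ha : a ∈ Po D) (hb : b ∈ Po D) (h : D.Rt (a + b)) : cpr D.cs D.h b a = -1 := by
  have h1 := abs_cpr_le_one D.cs D.h (fun i j => (hs i j).1) (fun i j => (hs i j).2) h ha.1
    (fun e => hb.1.ne_zero (left_eq_add.1 e.symm)) (po_ne_neg (po_add ha hb h) ha)
  rw [cpr_add D.cs D.h _ _ ha.1, cpr_self D.cs D.h ha.1, abs_le] at h1
  by_cases e : b = a
  · rw [e, cpr_self D.cs D.h ha.1] at h1
    omega
  have h2 := abs_cpr_le_one D.cs D.h (fun i j => (hs i j).1) (fun i j => (hs i j).2) hb.1 ha.1 e (po_ne_neg hb ha)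
  rw [abs_le] at h2
  omega

theorem exists_sub (hc : c ∈ Po D) (h2 : 2 ≤ ht c) : ∃ a ∈ Po D, ∃ b ∈ Po D, ht b = 1 ∧ a + b = c := by
  have := Fintype.ofFinite D.W
  have hsr : ∀ i : D.I, ht (sr i : D.I → ℤ) = 1 := fun i => by simp [ht, sr, Pi.single_apply]
  obtain ⟨i, -, hi⟩ := exists_pairing_pos D.cs D.h hc.2 hc.1.ne_zero
  have hr := isRoot_sr D.cs D.h i
  have hne : c ≠ sr i := fun e => by
    rw [e, hsr] at h2
    omega
  have h1 := abs_cpr_le_one D.cs D.h (fun i j => (hs i j).1) (fun i j => (hs i j).2) hc.1 hr hne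
    (po_ne_neg hc ⟨hr, sr_nonneg i⟩)
  have h3 : cpr D.cs D.h c (sr i) = 1 := by
    rw [cpr_sr, abs_le] at *
    omega
  have h4 := LOC.SL.isRoot_sub (fun i j => (hs i j).1) (fun i j => (hs i j).2) hc.1 hr h3
  obtain ⟨l, hl, hl0⟩ := RGD.exists_coeff hc.1 hc.2 hne
  refine ⟨c - sr i, ⟨h4, Nodes.StabComb.nonneg_of_pos_apply h4 (k := l) ?_⟩, sr i, ⟨hr, sr_nonneg i⟩, hsr i,
    sub_add_cancel _ _⟩
  rw [Pi.sub_apply, sr_ne hl]
  omega

variable [IsAlgClosed k]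

omit hs in
theorem exists_tau (ha : D.Rt a) (hb : D.Rt b) (h1 : cpr D.cs D.h a b = -1) (h2 : cpr D.cs D.h b a = -1) {s : k}
    (hs0 : s ≠ 0) : ∃ t ∈ D.T, D.χ a t = s ∧ D.χ b t = 1 := by
  obtain ⟨μ, hμ⟩ := exists_zpow_eq (k := k) (n := 3) (by norm_num) (Units.mk0 s hs0)
  have key : ∀ y, ∑ j, D.wt y j * ((2 : ℤ) • D.cor a + D.cor b) j = 2 * cpr D.cs D.h y a + cpr D.cs D.h y b := fun y => by
    rw [← D.pair_cor ha, ← D.pair_cor hb, Finset.mul_sum, ← Finset.sum_add_distrib]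
    exact Finset.sum_congr rfl fun j _ => by rw [Pi.add_apply, Pi.smul_apply, smul_eq_mul]; ring
  refine ⟨D.τ (coch ((2 : ℤ) • D.cor a + D.cor b) μ), D.τ_mem _, ?_, ?_⟩
  · rw [D.χ_τ, chr_coch, key, cpr_self D.cs D.h ha, h1, show (2 * 2 + -1 : ℤ) = 3 by norm_num, hμ]
    rfl
  · rw [D.χ_τ, chr_coch, key, cpr_self D.cs D.h hb, h2, show (2 * -1 + 2 : ℤ) = 0 by norm_num, zpow_zero]
    rfl

/-- the commutator constants -/
theorem exists_nn (ha : a ∈ Po D) (hb : b ∈ Po D) (h : D.Rt (a + b)) :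
    ∃ n : k, n ≠ 0 ∧ ∀ s t, ⁅D.x a s, D.x b t⁆ = D.x (a + b) (n * s * t) := by
  have := Fintype.ofFinite D.W
  have h1 := cpr_of_add hs ha hb h
  have h2 := cpr_of_add hs hb ha (add_comm a b ▸ h)
  have h3 : D.S {a + b} ≤ D.X (a + b) := RGD.Sup_le fun c hc => by rw [hc]
  obtain ⟨n, hn⟩ := (D.mem_X _ h _).1 (h3 (comm_mem hs ha hb (D.x_mem ha.1 1) (D.x_mem hb.1 1) fun _ => rfl))
  have key : ∀ s t, ⁅D.x a s, D.x b t⁆ = D.x (a + b) (n * s * t) := by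
    intro s t
    by_cases hs0 : s = 0
    · rw [hs0, D.x_zero ha.1, commutatorElement_one_left, mul_zero, zero_mul, D.x_zero h]
    by_cases ht0 : t = 0
    · rw [ht0, D.x_zero hb.1, commutatorElement_one_right, mul_zero, D.x_zero h]
    obtain ⟨y, hy, e1, e2⟩ := exists_tau ha.1 hb.1 h2 h1 hs0
    obtain ⟨z, hz, e3, e4⟩ := exists_tau hb.1 ha.1 h1 h2 ht0
    have h4 := D.tor' h (mul_mem hy hz) n
    rw [hn, conjugate_commutatorElement, D.tor' ha.1 (mul_mem hy hz), D.tor' hb.1 (mul_mem hy hz), D.χ_add,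
      D.χ_mul a hy hz, D.χ_mul b hy hz, e1, e2, e3, e4] at h4
    simp only [mul_one, one_mul] at h4
    rw [h4]
    congr 1
    ring
  refine ⟨n, fun h0 => ?_, key⟩
  have R := D.rgd_lev D.e0_pos dvd_rfl
  obtain ⟨⟨y, hy⟩, hy1⟩ := Subgroup.ne_bot_iff_exists_ne_one.1 (Nodes.Bruhat.X_ne_bot R ha.1)
  obtain ⟨⟨w, hw⟩, hw1⟩ := Subgroup.ne_bot_iff_exists_ne_one.1 (Nodes.Bruhat.X_ne_bot R h)
  obtain ⟨z, hz, e⟩ := LOC.SL.nd R (fun i j => (hs i j).1) (fun i j => (hs i j).2) ha.1 hb.1 h2 hy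
    (fun e => hy1 (Subtype.ext e)) hw
  obtain ⟨s, rfl⟩ := (D.mem_X a ha.1 y).1 hy.1
  obtain ⟨t, rfl⟩ := (D.mem_X b hb.1 z).1 hz.1
  rw [key, h0, zero_mul, zero_mul, D.x_zero h] at e
  exact hw1 (Subtype.ext e.symm)

end Cfsg.Agent.ODD.C2
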