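import Cfsg.Agent.ODD.C2.HN1A
import Cfsg.Agent.ODD.C2.HN1B

/-!
# `HN` for simply laced quasi-split data (helper33)

`hn_of_sl` : every linear character of `U^F` kills the elements with trivial simple coordinates.
-/

set_option autoImplicit false
set_option linter.unusedSectionVars false
set_option linter.unusedVariables false

namespace Cfsg.Agent.ODD.C2

open CoxeterSystem Cfsg.Agent.ChevalleyStructure.CoxeterGeom Cfsg.Agent.Tits.Roots Cfsg.Agent.Nodes.Reps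
  Cfsg.Agent.Nodes.BNOf Cfsg.Agent.Nodes.Coroot Cfsg.Agent.Nodes.SimplyLaced Cfsg.Agent.DL
open scoped commutatorElement

variable {p : ℕ} [Fact p.Prime] {k : Type} [Field k] [CharP k p] {Y : Type} [Group Y] {N : Type} [Fintype N]
  [DecidableEq N] {ρ : Y →* GL N k} {F : MulAut Y} {G : Subgroup Y} (D : Datum p ρ F G)

/-- the positive roots of height `m` -/
abbrev Rm (m : ℤ) : Type := {c : D.I → ℤ // c ∈ Po D ∧ ht c = m}

theorem finite_Rm (m : ℤ) : Finite (Rm D m) :=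
  (D.finite_roots.subset (t := {c | c ∈ Po D ∧ ht c = m}) fun _ h => h.1.1).to_subtype

noncomputable instance fintypeRm (m : ℤ) : Fintype (Rm D m) := @Fintype.ofFinite _ (finite_Rm D m)

/-- the coordinates in the layer `m` -/
noncomputable def kv (m : ℤ) (u : Y) : Rm D m → k := fun c => kc D c.1 u

/-- the bilinear map with structure constants `nn` -/
noncomputable def bil (nn : (D.I → ℤ) → (D.I → ℤ) → k) (i j l : ℤ) :
    (Rm D i → k) →ₗ[k] (Rm D j → k) →ₗ[k] (Rm D l → k) :=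
  LinearMap.mk₂ k (fun v w c => ∑ a, ∑ b, (if a.1 + b.1 = c.1 then nn a.1 b.1 else 0) * v a * w b)
    (fun v v' w => funext fun c => by simp only [Pi.add_apply, mul_add, add_mul, Finset.sum_add_distrib])
    (fun s v w => funext fun c => by
      simp only [Pi.smul_apply, smul_eq_mul, Finset.mul_sum]
      exact Finset.sum_congr rfl fun a _ => Finset.sum_congr rfl fun b _ => by ring)
    (fun v w w' => funext fun c => by simp only [Pi.add_apply, mul_add, Finset.sum_add_distrib])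
    (fun s v w => funext fun c => by
      simp only [Pi.smul_apply, smul_eq_mul, Finset.mul_sum]
      exact Finset.sum_congr rfl fun a _ => Finset.sum_congr rfl fun b _ => by ring)

open Classical in
/-- the constants of the action of `F` on the root groups -/
noncomputable def gm (a : D.I → ℤ) : k := if h : D.Rt a then (D.F_x a h).choose else 0

variable {D} {a b c : D.I → ℤ} {u v : Y} {i j l m : ℤ} {nn : (D.I → ℤ) → (D.I → ℤ) → k}

theorem bil_apply (v : Rm D i → k) (w : Rm D j → k) (c : Rm D l) :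
    bil D nn i j l v w c = ∑ a, ∑ b, (if a.1 + b.1 = c.1 then nn a.1 b.1 else 0) * v a * w b := rfl

theorem bil_single (a : Rm D i) (b : Rm D j) (s t : k) (c : Rm D l) :
    bil D nn i j l (Pi.single a s) (Pi.single b t) c = if a.1 + b.1 = c.1 then nn a.1 b.1 * s * t else 0 := by
  rw [bil_apply, Finset.sum_eq_single a (fun a' _ h => by simp [Pi.single_eq_of_ne h]) (by simp),
    Finset.sum_eq_single b (fun b' _ h => by simp [Pi.single_eq_of_ne h]) (by simp), Pi.single_eq_same,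
    Pi.single_eq_same, ite_mul, ite_mul, zero_mul, zero_mul]

theorem F_x' (ha : D.Rt a) (t : k) : F (D.x a t) = D.x (D.g a) (gm D a * t ^ p ^ D.ex a) := by
  rw [gm, dif_pos ha]
  exact (D.F_x a ha).choose_spec.2 t

section layer

variable (hs : Sl D)
include hs

theorem kv_mul (hu : u ∈ D.S (Ge D m)) (hv : v ∈ D.S (Ge D m)) : kv D m (u * v) = kv D m u + kv D m v :=
  funext fun c => kc_mul hs c.2.1 (c.2.2.symm ▸ hu) (c.2.2.symm ▸ hv)

theorem kv_inv (hu : u ∈ D.S (Ge D m)) : kv D m u⁻¹ = -kv D m u :=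
  funext fun c => kc_inv hs c.2.1 (c.2.2.symm ▸ hu)

theorem kv_eq_zero (hu : u ∈ D.S (Ge D (m + 1))) : kv D m u = 0 :=
  funext fun c => kc_eq_zero hs c.2.1 (Ge_le_Pc (c.2.2.symm ▸ hu))

theorem kv_conj (hu : u ∈ D.U) (hv : v ∈ D.S (Ge D m)) : kv D m (u * v * u⁻¹) = kv D m v :=
  funext fun c => kc_conj hs c.2.1 hu (c.2.2.symm ▸ hv)

theorem kv_x (a : Rm D m) (t : k) : kv D m (D.x a.1 t) = Pi.single a t := by
  funext c
  rw [kv, kc_x hs c.2.1 ⟨a.2.1, (c.2.2.trans a.2.2.symm).le⟩, Pi.single_apply]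
  exact if_congr ⟨fun h => (Subtype.ext h).symm, fun h => by rw [h]⟩ rfl rfl

theorem mem_of_kv (hu : u ∈ D.S (Ge D m)) (h : kv D m u = 0) : u ∈ D.S (Ge D (m + 1)) :=
  mem_Ge_succ hs hu fun c hc e => congrFun h ⟨c, hc, e⟩

theorem exists_kv (f : Rm D m → k) : ∃ u ∈ D.S (Ge D m), kv D m u = f := by
  classical
  obtain ⟨u, hu, h⟩ := exists_kc hs (m := m) fun c => if h : c ∈ Po D ∧ ht c = m then f ⟨c, h⟩ else 0
  exact ⟨u, hu, funext fun c => by rw [kv, h c.1 c.2.1 c.2.2, dif_pos c.2]⟩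

/-- the coordinates of a commutator -/
theorem kv_comm (hn : ∀ a ∈ Po D, ∀ b ∈ Po D, D.Rt (a + b) → ∀ s t, ⁅D.x a s, D.x b t⁆ = D.x (a + b) (nn a b * s * t))
    (hl : i + j = l) (hu : u ∈ D.S (Ge D i)) (hv : v ∈ D.S (Ge D j)) :
    kv D l ⁅u, v⁆ = bil D nn i j l (kv D i u) (kv D j v) := by
  subst hl
  funext c
  refine ext_S (A := Ge D i) (fun _ h => h.1.1) (φ := fun u => kv D (i + j) ⁅u, v⁆ c)
    (ψ := fun u => bil D nn i j (i + j) (kv D i u) (kv D j v) c) (fun y hy z hz => ?_) (fun y hy z hz => ?_)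
    (fun a ha s => ?_) hu
  · rw [show ⁅y * z, v⁆ = y * ⁅z, v⁆ * y⁻¹ * ⁅y, v⁆ by simp only [commutatorElement_def]; group,
      kv_mul hs (conj_mem_Ge hs (Ge_le_U hy) (comm_Ge hs hz hv)) (comm_Ge hs hy hv),
      kv_conj hs (Ge_le_U hy) (comm_Ge hs hz hv), Pi.add_apply, add_comm]
  · rw [kv_mul hs hy hz, map_add, LinearMap.add_apply, Pi.add_apply]
  have hx := x_mem_Ge ha s
  refine ext_S (A := Ge D j) (fun _ h => h.1.1) (φ := fun v => kv D (i + j) ⁅D.x a s, v⁆ c)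
    (ψ := fun v => bil D nn i j (i + j) (kv D i (D.x a s)) (kv D j v) c) (fun y hy z hz => ?_) (fun y hy z hz => ?_)
    (fun b hb t => ?_) hv
  · rw [show ⁅D.x a s, y * z⁆ = ⁅D.x a s, y⁆ * (y * ⁅D.x a s, z⁆ * y⁻¹) by simp only [commutatorElement_def]; group,
      kv_mul hs (comm_Ge hs hx hy) (conj_mem_Ge hs (Ge_le_U hy) (comm_Ge hs hx hz)),
      kv_conj hs (Ge_le_U hy) (comm_Ge hs hx hz), Pi.add_apply]
  · rw [kv_mul hs hy hz, map_add, Pi.add_apply]
  by_cases h1 : ht a = i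
  swap
  · have h2 : a ∈ Ge D (i + 1) := ⟨ha.1, lt_of_le_of_ne ha.2 (Ne.symm h1)⟩
    have h3 := comm_Ge hs (x_mem_Ge h2 s) (x_mem_Ge hb t)
    rw [add_right_comm] at h3
    rw [kv_eq_zero hs h3, kv_eq_zero hs (x_mem_Ge h2 s), map_zero, LinearMap.zero_apply]
  by_cases h2 : ht b = j
  swap
  · have h2 : b ∈ Ge D (j + 1) := ⟨hb.1, lt_of_le_of_ne hb.2 (Ne.symm h2)⟩
    have h3 := comm_Ge hs hx (x_mem_Ge h2 t)
    rw [← add_assoc] at h3
    rw [kv_eq_zero hs h3, kv_eq_zero hs (x_mem_Ge h2 t), map_zero]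
  rw [kv_x hs ⟨a, ha.1, h1⟩, kv_x hs ⟨b, hb.1, h2⟩, bil_single]
  split_ifs with h3
  · have h4 : a + b = c.1 := h3
    rw [hn a ha.1 b hb.1 (h4 ▸ c.2.1.1), h4, kv_x hs c, Pi.single_eq_same]
  · exact kc_eq_zero hs c.2.1 (comm_mem hs ha.1 hb.1 (D.x_mem ha.1.1 s) (D.x_mem hb.1.1 t) fun h4 =>
      ⟨c.2.2.symm ▸ add_mem_Ge ha hb h4, h3⟩)

theorem span_bil (hn : ∀ a ∈ Po D, ∀ b ∈ Po D, D.Rt (a + b) → nn a b ≠ 0) (hl : i + 1 = l) (h2 : 2 ≤ l)
    (z : Rm D l → k) : z ∈ Submodule.span k {z | ∃ v w, bil D nn i 1 l v w = z} := by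
  rw [pi_eq_sum_univ' z]
  refine Submodule.sum_mem _ fun c _ => Submodule.smul_mem _ _ (Submodule.subset_span ?_)
  obtain ⟨a, ha, b, hb, h1, e⟩ := exists_sub hs c.2.1 (c.2.2.symm ▸ h2)
  have h3 : ht a = i := by
    have h4 := RGD.ht_add a b
    rw [e, c.2.2] at h4
    omega
  have h4 := hn a ha b hb (e ▸ c.2.1.1)
  refine ⟨Pi.single ⟨a, ha, h3⟩ (nn a b)⁻¹, Pi.single ⟨b, hb, h1⟩ 1, funext fun c' => ?_⟩
  rw [bil_single, mul_inv_cancel₀ h4, mul_one, Pi.single_apply]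
  exact if_congr ⟨fun h => Subtype.ext (h.symm.trans e), fun h => by rw [h]; exact e⟩ rfl rfl

end layer

section frob

variable [IsAlgClosed k] (h : D.QS) {e : ℕ} (he : ∀ a, D.Rt a → D.ex a = e)
include h he

theorem ht_g (ha : D.Rt a) : ht (D.g a) = ht a := by
  have hsr : ∀ i : D.I, ht (sr i : D.I → ℤ) = 1 := fun i => by simp [ht, sr, Pi.single_apply]
  have h1 := D.map_eq_sum (Nodes.Slope.htHom.comp D.ψ) (D.g a)
  have h2 : ∀ i, (Nodes.Slope.htHom.comp D.ψ) (sr i) = (p : ℤ) ^ e := fun i => by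
    obtain ⟨j, rfl⟩ := D.σ.surjective i
    rw [AddMonoidHom.comp_apply, ← h.g_sr, D.ψ_g (isRoot_sr _ _ j), he _ (isRoot_sr _ _ j), Nodes.Slope.htHom_apply,
      RGD.ht_smul, hsr, mul_one]
  simp only [h2] at h1
  rw [AddMonoidHom.comp_apply, D.ψ_g ha, he a ha, Nodes.Slope.htHom_apply, RGD.ht_smul, ← Finset.sum_mul,
    mul_comm] at h1
  exact (mul_right_cancel₀ (pow_ne_zero e (Nat.cast_ne_zero.2 (Fact.out : p.Prime).ne_zero)) h1).symm

theorem g_mem_Ge (ha : a ∈ Ge D m) : D.g a ∈ Ge D m :=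
  ⟨⟨D.g_root a ha.1.1, h a ha.1.1 ha.1.2⟩, by rw [ht_g h he ha.1.1]; exact ha.2⟩

theorem F_mem_Ge (hu : u ∈ D.S (Ge D m)) : F u ∈ D.S (Ge D m) :=
  D.F_mem_S (fun _ h => h.1.1) (fun _ ha => g_mem_Ge h he ha) hu

/-- the permutation of a layer -/
noncomputable def pim (m : ℤ) : Equiv.Perm (Rm D m) :=
  Equiv.ofBijective (fun c => ⟨D.g c.1, ⟨D.g_root _ c.2.1.1, h _ c.2.1.1 c.2.1.2⟩, (ht_g h he c.2.1.1).trans c.2.2⟩)
    (Finite.injective_iff_bijective.1 fun a b e => Subtype.ext (D.g_inj a.2.1.1 b.2.1.1 (congrArg Subtype.val e)))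

/-- the semilinear map on a layer -/
noncomputable def Phi (m : ℤ) : (Rm D m → k) →+ (Rm D m → k) :=
  AddMonoidHom.mk' (fun v c => gm D ((pim h he m).symm c).1 * v ((pim h he m).symm c) ^ p ^ e) fun v w =>
    funext fun c => by rw [Pi.add_apply, Pi.add_apply, add_pow_char_pow, mul_add]

theorem Phi_apply (v : Rm D m → k) (c : Rm D m) : Phi h he m v (pim h he m c) = gm D c.1 * v c ^ p ^ e := by
  show gm D ((pim h he m).symm (pim h he m c)).1 * v ((pim h he m).symm (pim h he m c)) ^ p ^ e = _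
  rw [Equiv.symm_apply_apply]

theorem Phi_smul (s : k) (v : Rm D m → k) : Phi h he m (s • v) = s ^ p ^ e • Phi h he m v := by
  funext c
  obtain ⟨c, rfl⟩ := (pim h he m).surjective c
  rw [Pi.smul_apply, Phi_apply, Phi_apply, Pi.smul_apply, smul_eq_mul, smul_eq_mul, mul_pow]
  ring

variable (hs : Sl D)
include hs

theorem kv_F (hu : u ∈ D.S (Ge D m)) : kv D m (F u) = Phi h he m (kv D m u) := by
  funext c
  obtain ⟨⟨c, hc, rfl⟩, rfl⟩ := (pim h he m).surjective c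
  rw [Phi_apply]
  refine kc_eq hs (pim h he _ _).2.1 ?_
  have h1 := D.F_mem_S (B := Pc D (D.g c)) (fun _ h => h.1.1.1) (fun a ha =>
    ⟨(ht_g h he hc.1).symm ▸ g_mem_Ge h he ha.1, fun e => ha.2 (D.g_inj ha.1.1.1 hc.1 e)⟩) (kc_spec hs hc hu)
  rw [map_mul, map_inv, F_x' hc.1, he c hc.1] at h1
  exact h1

theorem exists_kv_fix {f : Rm D m → k} (hf : Phi h he m f = f) : ∃ u ∈ D.S (Ge D m), F u = u ∧ kv D m u = f := by
  obtain ⟨u, hu, rfl⟩ := exists_kv hs f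
  have hF := F_mem_Ge h he hu
  obtain ⟨z, hz, e⟩ := D.lang_S (A := Ge D (m + 1)) (fun _ h => h.1.1) (fun _ ha => g_mem_Ge h he ha)
    (mem_of_kv hs (mul_mem (inv_mem hu) hF) (by
      rw [kv_mul hs (inv_mem hu) hF, kv_inv hs hu, kv_F h he hs hu, hf, neg_add_cancel]))
  have hz' := Ge_mono (Int.le_add_one le_rfl) hz
  refine ⟨u * z⁻¹, mul_mem hu (inv_mem hz'), ?_, by
    rw [kv_mul hs hu (inv_mem hz'), kv_eq_zero hs (inv_mem hz), add_zero]⟩
  rw [map_mul, map_inv, ← mul_inv_cancel_left u (F u), e]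
  group

theorem span_fix (z : Rm D m → k) : z ∈ Submodule.span k {v | Phi h he m v = v} := by
  rw [pi_eq_sum_univ' z]
  refine Submodule.sum_mem _ fun c _ => Submodule.smul_mem _ _ ?_
  have h0 : 0 < e := by
    obtain ⟨-, i, -⟩ := c.2.1.1
    obtain ⟨j, -, hj⟩ := PP.exists_ex h i
    rw [he _ (isRoot_sr _ _ j)] at hj
    omega
  have hx := x_mem_Ge (m := m) ⟨c.2.1, c.2.2.ge⟩ (1 : k)
  obtain ⟨d, hd, h1⟩ := D.amb.exists_pow_fix fun _ : Unit => D.x c.1 1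
  have h2 : ∀ n : ℕ, (F ^ n) (D.x c.1 1) ∈ D.S (Ge D m) ∧
      kv D m ((F ^ n) (D.x c.1 1)) = (Phi h he m)^[n] (kv D m (D.x c.1 1)) := fun n => by
    induction n with
    | zero => exact ⟨hx, rfl⟩
    | succ n ih =>
      rw [pow_succ', MulAut.mul_apply, Function.iterate_succ_apply', ← ih.2]
      exact ⟨F_mem_Ge h he ih.1, kv_F h he hs ih.1⟩
  refine mem_span_fix h0 (Phi_smul h he) hd ?_
  rw [← kv_x hs c, ← (h2 d).2, h1 ()]

theorem step {K : Subgroup Y} (hK : ∀ u ∈ D.U, F u = u → ∀ v ∈ D.U, F v = v → ⁅u, v⁆ ∈ K) (h2 : 2 ≤ m)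
    (ih : ∀ u ∈ D.S (Ge D (m + 1)), F u = u → u ∈ K) (hu : u ∈ D.S (Ge D m)) (hF : F u = u) : u ∈ K := by
  choose! nn hn0 hn using fun a (ha : a ∈ Po D) b (hb : b ∈ Po D) => exists_nn hs ha hb
  have hc : ∀ v, Phi h he (m - 1) v = v → ∀ w, Phi h he 1 w = w → ∃ y ∈ D.S (Ge D m), F y = y ∧ y ∈ K ∧
      kv D m y = bil D nn (m - 1) 1 m v w := by
    intro v hv w hw
    obtain ⟨y, hy, h1, rfl⟩ := exists_kv_fix h he hs hv
    obtain ⟨z, hz, h3, rfl⟩ := exists_kv_fix h he hs hw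
    have h4 := comm_Ge hs hy hz
    rw [sub_add_cancel] at h4
    exact ⟨⁅y, z⁆, h4, by rw [map_commutatorElement, h1, h3], hK y (Ge_le_U hy) h1 z (Ge_le_U hz) h3,
      kv_comm hs hn (sub_add_cancel m 1) hy hz⟩
  have h1 := mem_closure_bilin (S₂ := {w | Phi h he 1 w = w}) (Phi_smul h he) (Phi_smul h he) (bil D nn (m - 1) 1 m)
    (span_fix h he hs) (span_fix h he hs) (span_bil hs hn0 (sub_add_cancel m 1) h2) (fun v hv w hw => by
      obtain ⟨y, hy, h1, -, h3⟩ := hc v hv w hw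
      rw [← h3, ← kv_F h he hs hy, h1]) (z := kv D m u) (by rw [← kv_F h he hs hu, hF])
  have h3 : ∃ y ∈ D.S (Ge D m), F y = y ∧ y ∈ K ∧ kv D m y = kv D m u := by
    generalize kv D m u = z at h1
    induction h1 using AddSubgroup.closure_induction with
    | mem z hz =>
      obtain ⟨v, hv, w, hw, rfl⟩ := hz
      exact hc v hv w hw
    | zero => exact ⟨1, one_mem _, map_one F, one_mem _, kv_eq_zero hs (one_mem _)⟩
    | add z z' _ _ h1 h2 =>
      obtain ⟨y, hy, a1, a2, rfl⟩ := h1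
      obtain ⟨y', hy', b1, b2, rfl⟩ := h2
      exact ⟨y * y', mul_mem hy hy', by rw [map_mul, a1, b1], mul_mem a2 b2, kv_mul hs hy hy'⟩
    | neg z _ h1 =>
      obtain ⟨y, hy, a1, a2, rfl⟩ := h1
      exact ⟨y⁻¹, inv_mem hy, by rw [map_inv, a1], inv_mem a2, kv_inv hs hy⟩
  obtain ⟨y, hy, h4, h5, h6⟩ := h3
  have h7 := ih (y⁻¹ * u) (mem_of_kv hs (mul_mem (inv_mem hy) hu) (by
    rw [kv_mul hs (inv_mem hy) hu, kv_inv hs hy, h6, neg_add_cancel])) (by rw [map_mul, map_inv, h4, hF])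
  simpa using mul_mem h5 h7

/-- the fixed points of the second term of the filtration lie in the commutator subgroup of `U^F` -/
theorem mem_of_Ge_two {K : Subgroup Y} (hK : ∀ u ∈ D.U, F u = u → ∀ v ∈ D.U, F v = v → ⁅u, v⁆ ∈ K)
    (hu : u ∈ D.S (Ge D 2)) (hF : F u = u) : u ∈ K := by
  obtain ⟨B, hB⟩ := (D.finite_roots.image ht).bddAbove
  have key : ∀ (n : ℕ) (m : ℤ), 2 ≤ m → B < m + n → ∀ u ∈ D.S (Ge D m), F u = u → u ∈ K := by
    intro n
    induction n with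
    | zero =>
      intro m _ h1 u hu _
      have h2 : D.S (Ge D m) ≤ K := RGD.Sup_le fun a ha => by
        have h3 := hB ⟨a, ha.1.1, rfl⟩
        have h4 := ha.2
        omega
      exact h2 hu
    | succ n ih =>
      intro m h2 h1 u hu hF
      exact step h he hs hK h2 (ih (m + 1) (by omega) (by omega)) hu hF
  exact key B.toNat 2 le_rfl (by omega) u hu hF

end frob

/-- **`HN` for simply laced quasi-split data.** -/
theorem hn_of_sl (D : Datum p ρ F G) [IsAlgClosed k] (h : D.QS) (hs : ∀ i j, D.M i j ≠ 4 ∧ D.M i j ≠ 6) {e : ℕ}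
    (he : ∀ a, D.Rt a → D.ex a = e) : PP.HN D := by
  intro f u hu
  have h1 : (u : Y) ∈ D.S (Ge D 2) := by
    refine RGD.Sup_mono (S' := Ge D 2) (fun a ha => ⟨⟨ha.1, ha.2.1⟩, ?_⟩) (PP.mem_NS_iff.2 ⟨u.2.1, hu⟩)
    have := Fintype.ofFinite D.W
    obtain ⟨i, hi, -⟩ := exists_pairing_pos D.cs D.h ha.2.1 ha.1.ne_zero
    obtain ⟨j, hj, hj0⟩ := RGD.exists_coeff ha.1 ha.2.1 (ha.2.2 i)
    have h2 := Finset.add_le_sum (f := a) (fun l _ => ha.2.1 l) (Finset.mem_univ j) (Finset.mem_univ i) hj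
    unfold ht
    omega
  obtain ⟨y, hy, e⟩ := mem_of_Ge_two h he hs (K := f.ker.map (D.U ⊓ GF F G).subtype) (fun y hy h2 z hz h3 =>
    ⟨⁅(⟨y, hy, D.U_le_G hy, h2⟩ : ↥(D.U ⊓ GF F G)), (⟨z, hz, D.U_le_G hz, h3⟩ : ↥(D.U ⊓ GF F G))⁆, by
      rw [SetLike.mem_coe, MonoidHom.mem_ker, map_commutatorElement, commutatorElement_eq_one_iff_mul_comm, mul_comm],
      rfl⟩) h1 u.2.2.2
  rw [← Subtype.ext e]
  exact hy

end Cfsg.Agent.ODD.C2
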