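import Cfsg.Agent.ODD.C2.MnFin
import Cfsg.Agent.ODD.C2.HN1
import Cfsg.Agent.Nodes.TypeD

/-!
# The natural module of type `D_{n+2}` as a minuscule weight system (helper76)

`mnD n`, the graph symmetry `swD n`, `syD`; the data are good: `goodP` (split), `goodM` (twisted).
-/

set_option autoImplicit false
set_option maxHeartbeats 400000
set_option linter.unusedSectionVars false

namespace Cfsg.Agent.ODD.C2

open CoxeterSystem Cfsg.Agent.ChevalleyStructure.CoxeterGeom Cfsg.Agent.Tits.Roots Matrix Cfsg.Agent.Nodes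
  Cfsg.Agent.DL Cfsg.Agent.DL.PP

variable {n : ℕ}

theorem wtD_dot (x : Fin (n + 2) × Bool) (u : Fin (n + 2) → ℤ) :
    u ⬝ᵥ TypeC.wt x = if x.2 then u x.1 else -u x.1 := by
  rw [TypeC.wt, dotProduct_single]
  split_ifs
  · exact mul_one _
  · exact mul_neg_one _

theorem dot_btD (i : Fin (n + 2)) (u : Fin (n + 2) → ℤ) : u ⬝ᵥ TypeD.bt i = TypeD.Cf i u := by
  rw [TypeD.bt, dotProduct_add, wtD_dot, wtD_dot, TypeD.nx]
  delta TypeD.Cf
  by_cases h : (i : ℕ) + 1 < n + 2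
  · rw [dif_pos h, dif_pos h, if_pos rfl, if_neg Bool.false_ne_true, sub_eq_add_neg]
  · rw [dif_neg h, dif_neg h, if_pos rfl, if_pos rfl]

theorem wtD_inj : Function.Injective (TypeC.wt (n := n + 2)) := by
  rintro ⟨i, s⟩ ⟨j, t⟩ h
  have h1 := congrFun h i
  rw [TypeC.wt_apply, TypeC.wt_apply] at h1
  cases s <;> cases t <;> by_cases e : i = j <;> simp_all

/-- The natural module of type `D_{n+2}`. -/
def mnD (n : ℕ) : Mn (TypeD.A n) (Fin (n + 2)) (Fin (n + 2) × Bool) where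
  wt := AddMonoidHom.mk' TypeD.ee TypeD.ee_add
  cw := TypeD.bt
  pair i a := (dot_btD i _).trans (TypeD.Cf_ee i a)
  μ := TypeC.wt
  inj := wtD_inj
  σ := TypeD.sg
  hσ i a := by
    rw [TypeD.wt_sg, dot_btD]
    exact congrArg (fun z => _ - _ • z) (TypeD.ee_sr i).symm
  bd i a := by
    have := i.2
    rw [dotProduct_comm, wtD_dot, TypeD.bt_apply]
    split_ifs <;> simp
  nt i := ⟨(i, false), by
    have := i.2
    rw [dotProduct_comm, wtD_dot, TypeD.bt_apply]
    simp⟩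
  span j := ⟨Pi.single (j, true) 1, by
    rw [Finset.sum_eq_single (j, true) (fun b _ hb => by rw [Pi.single_eq_of_ne hb, zero_smul]) (by simp),
      Pi.single_eq_same, one_smul]
    rfl⟩

theorem mnD_wt (a : Fin (n + 2) → ℤ) : (mnD n).wt a = TypeD.ee a := rfl

theorem mnD_μ (a : Fin (n + 2) × Bool) : (mnD n).μ a = TypeC.wt a := rfl

/-- The Coxeter system of type `D_{n+2}`. -/
noncomputable abbrev csD (n : ℕ) : CoxeterSystem (TypeD.M n) (TypeD.M n).Group := (TypeD.M n).toCoxeterSystem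

theorem finD (n : ℕ) : Finite (TypeD.M n).Group := TypeD.finite_W (csD n)

/-- The graph symmetry on the weights. -/
def swD (n : ℕ) : Equiv.Perm (Fin (n + 2) × Bool) :=
  Equiv.swap (Fin.last (n + 1), true) (Fin.last (n + 1), false)

/-- The graph symmetry on the nodes. -/
def piD (n : ℕ) : Equiv.Perm (Fin (n + 2)) := Equiv.swap (TypeD.pd n) (Fin.last (n + 1))

/-- The graph symmetry on the root lattice. -/
def gD (n : ℕ) (a : Fin (n + 2) → ℤ) : Fin (n + 2) → ℤ := a ∘ piD n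

/-- The graph symmetry on the big lattice. -/
def BD (n : ℕ) : Matrix (Fin (n + 2)) (Fin (n + 2)) ℤ := diagonal fun j => if j = Fin.last (n + 1) then -1 else 1

theorem swD_apply (x : Fin (n + 2) × Bool) : swD n x = if x.1 = Fin.last (n + 1) then TypeC.ng x else x := by
  obtain ⟨i, s⟩ := x
  rw [swD, Equiv.swap_apply_def]
  by_cases h : i = Fin.last (n + 1)
  · subst h
    cases s <;> simp [TypeC.ng]
  · simp [h]

theorem swD_fst (x : Fin (n + 2) × Bool) : (swD n x).1 = x.1 := by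
  rw [swD_apply]
  split_ifs <;> rfl

theorem swD_swD (x : Fin (n + 2) × Bool) : swD n (swD n x) = x := Equiv.swap_apply_self _ _ x

theorem swD_ng (x : Fin (n + 2) × Bool) : swD n (TypeC.ng x) = TypeC.ng (swD n x) := by
  rw [swD_apply, swD_apply, TypeC.ng_fst]
  split_ifs <;> rfl

theorem vecMul_BD (u : Fin (n + 2) → ℤ) (j : Fin (n + 2)) :
    (u ᵥ* BD n) j = if j = Fin.last (n + 1) then -u j else u j := by
  rw [BD, vecMul_diagonal]
  split_ifs
  · exact mul_neg_one _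
  · exact mul_one _

theorem BD_BD (u : Fin (n + 2) → ℤ) : u ᵥ* BD n ᵥ* BD n = u := by
  funext j
  rw [vecMul_BD, vecMul_BD]
  split_ifs
  · exact neg_neg _
  · rfl

theorem BD_inj : Function.Injective (BD n).vecMul := fun u v h => by
  have h1 : u ᵥ* BD n = v ᵥ* BD n := h
  rw [← BD_BD u, h1, BD_BD]

theorem wt_swD (a : Fin (n + 2) × Bool) : TypeC.wt (swD n a) ᵥ* BD n = TypeC.wt a := by
  funext j
  rw [vecMul_BD, swD_apply]
  by_cases h : a.1 = Fin.last (n + 1)
  · rw [if_pos h, TypeC.wt_ng, Pi.neg_apply, neg_neg]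
    split_ifs with e
    · rfl
    · rw [TypeC.wt_apply, if_neg (by rwa [h]), neg_zero]
  · rw [if_neg h]
    split_ifs with e
    · rw [TypeC.wt_apply, if_neg (by rw [e]; exact Ne.symm h), neg_zero]
    · rfl

theorem bt_piD (i : Fin (n + 2)) : TypeD.bt (piD n i) ᵥ* BD n = TypeD.bt i := by
  funext j
  have := i.2
  have := j.2
  rw [vecMul_BD, piD, Equiv.swap_apply_def, TypeD.bt_apply i]
  simp only [Fin.ext_iff, Fin.val_last, TypeD.pd]
  split_ifs <;> rw [TypeD.bt_apply] <;> (try simp only [Fin.val_last]) <;> split_ifs <;> omega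

theorem ee_gD (a : Fin (n + 2) → ℤ) : TypeD.ee (gD n a) ᵥ* BD n = TypeD.ee a := by
  rw [TypeD.ee, TypeD.ee, ← Equiv.sum_comp (piD n), sum_vecMul]
  refine Finset.sum_congr rfl fun j _ => ?_
  rw [smul_vecMul, bt_piD]
  exact congrArg (fun z => a z • _) (Equiv.swap_apply_self _ _ j)

theorem root_gD {W : Type} [Group W] {cs : CoxeterSystem (TypeD.M n) W} (a : Fin (n + 2) → ℤ)
    (ha : IsRoot cs (TypeD.isCartan n) a) : IsRoot cs (TypeD.isCartan n) (gD n a) := by
  obtain ⟨x, y, h1, h2⟩ := TypeD.isRoot_iff.1 ha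
  refine TypeD.isRoot_iff.2 ⟨swD n x, swD n y, fun e => h1 (by rwa [swD_fst, swD_fst] at e), BD_inj ?_⟩
  show _ ᵥ* BD n = _ ᵥ* BD n
  rw [ee_gD, add_vecMul, wt_swD, wt_swD, h2]

theorem gD_sr (i : Fin (n + 2)) : gD n (sr i) = sr (piD n i) := by
  funext j
  show sr i (piD n j) = _
  rw [sr, sr, Pi.single_apply, Pi.single_apply]
  exact if_congr (Equiv.swap_apply_eq_iff) rfl rfl

/-- twice the fundamental coweights -/
def cwD (i j : Fin (n + 2)) : ℤ :=
  if (i : ℕ) < n then (if (j : ℕ) ≤ i then 2 else 0) else if (i : ℕ) = n ∧ (j : ℕ) = n + 1 then -1 else 1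

theorem ee_cwD (b : Fin (n + 2) → ℤ) (i : Fin (n + 2)) : TypeD.ee b ⬝ᵥ cwD i = 2 ^ 1 * b i := by
  have h1 : ∀ j, TypeD.bt j ⬝ᵥ cwD i = if j = i then 2 else 0 := fun j => by
    have := i.2
    have := j.2
    rw [dotProduct_comm, dot_btD]
    delta TypeD.Cf
    simp only [cwD, Fin.ext_iff, TypeD.pd]
    split_ifs <;> omega
  rw [TypeD.ee, sum_dotProduct, Finset.sum_eq_single i
    (fun j _ hj => by rw [smul_dotProduct, h1, if_neg hj, smul_zero]) (by simp), smul_dotProduct, h1, if_pos rfl,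
    smul_eq_mul, pow_one, mul_comm]

theorem slD (i j : Fin (n + 2)) : TypeD.M n i j ≠ 4 ∧ TypeD.M n i j ≠ 6 := by
  rw [TypeD.M_apply]
  split_ifs <;> omega

variable {W : Type} [Group W] [Finite W] {cs : CoxeterSystem (TypeD.M n) W} {k : Type} [Field k] [CharP k 2]

/-- The graph symmetry of the frame. -/
theorem syD : (mnD n).Sy cs (TypeD.isCartan n) (MulAut.conj (pm k (swD n))) (gD n) (BD n) :=
  (mnD n).sy_pm BD_inj root_gD wt_swD ee_gD

theorem conj_swD_sq : MulAut.conj (pm k (swD n)) ^ 2 = 1 := by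
  rw [← map_pow, ← map_pow, sq, swD, Equiv.swap_mul_self, map_one, map_one]

variable [IsAlgClosed k] (hk : ∀ a : k, ∃ j, 0 < j ∧ a ^ 2 ^ j = a) {e : ℕ} (he : 0 < e)

theorem goodP : Good ((mnD n).dat cs (TypeD.isCartan n) hk he) :=
  ⟨(mnD n).dat_qs hk he, ⟨1, cwD, ee_cwD⟩, hn_of_sl _ ((mnD n).dat_qs hk he) slD (e := e) fun _ _ => rfl⟩

theorem goodM : Good ((mnD n).datT hk he (syD (cs := cs)) (Mn.fin_pm _)) :=
  ⟨(mnD n).datT_qs hk he _ _ gD_sr, ⟨1, cwD, ee_cwD⟩,
    hn_of_sl _ ((mnD n).datT_qs hk he _ _ gD_sr) slD (e := e) fun _ _ => rfl⟩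

end Cfsg.Agent.ODD.C2
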