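import Cfsg.Agent.ODD.C2.HN2Gen

/-!
# `S_inf_fix`, `hn_of_commGen'` (helper46)
-/

set_option autoImplicit false
set_option linter.unusedSectionVars false

namespace Cfsg.Agent.ODD.C2

open CoxeterSystem Cfsg.Agent.ChevalleyStructure.CoxeterGeom Cfsg.Agent.Tits.Roots Cfsg.Agent.Nodes.Reps
  Cfsg.Agent.Nodes.BNOf Cfsg.Agent.DL Cfsg.Agent.DL.PP

variable {p : ℕ} [Fact p.Prime] {k : Type} [Field k] [CharP k p] {Y : Type} [Group Y] {N : Type} [Fintype N]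
  [DecidableEq N] {ρ : Y →* GL N k} {F : MulAut Y} {G : Subgroup Y} [IsAlgClosed k] (D : Datum p ρ F G)

theorem S_inf_fix {φ : (D.I → ℤ) → k → k} (hx : ∀ a, D.Rt a → ∀ u, F (D.x a u) = D.x a (φ a u))
    {A : Set (D.I → ℤ)} (hA : D.Uni A) : D.S A ⊓ fix F = RGD.Sup (fun a => D.X a ⊓ fix F) A := by
  refine le_antisymm ?_ (RGD.Sup_le fun a ha => inf_le_inf_right _ (RGD.le_Sup ha))
  rintro u ⟨h1, h2⟩
  obtain ⟨L, hL⟩ := hA.exists_ord
  obtain ⟨c, -, hc, rfl⟩ := hA.exists_of_fix hL (fun _ : Unit => F.toMonoidHom) (fun _ a t => φ a t)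
    (fun _ a ha t => hx a (hA.root a ha) t) h1 (fun _ => h2)
  refine D.lp_mem hL.root fun a ha _ => ?_
  have ha' := (hL.mem a).1 ha
  exact RGD.le_Sup (X := fun a => D.X a ⊓ fix F) ha' ⟨D.x_mem (hA.root a ha') _,
    mem_fix.2 (by rw [hx a (hA.root a ha'), hc () a ha'])⟩

theorem hn_of_commGen' {e : ℕ} (hx : ∀ a, D.Rt a → ∀ u, F (D.x a u) = D.x a (u ^ p ^ e))
    (hC : Omega.EH3.Kf.Lev.CommGen D.cs D.h fun a => D.X a ⊓ fix F) : HN D :=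
  hn_of_gen D (fun _ u => u ^ p ^ e) hx _ (fun _ _ => rfl) hC

end Cfsg.Agent.ODD.C2
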