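import Cfsg.Agent.ODD.Alt.Rat
import Cfsg.Agent.ODD.Cov.Basic
import Cfsg.Agent.ODD.Red.Cl
import Cfsg.Agent.Characters.Brauer

/-!
# ODD, characteristic two: descent to normal subgroups of odd index (helper89)

* `fix_of_over` : a `Two` automorphism which fixes a character over `θ` fixes `θ`;
* `oddRat_sub`, `allR_sub` : `OddRat` and `AllR` pass to normal subgroups of odd index;
* `PW G` : every `g` is conjugate to `g ^ k` for `k` odd and `1` modulo the odd divisors of the order of `g`.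
-/

set_option autoImplicit false
set_option maxHeartbeats 400000

namespace Cfsg.Agent.ODD.C2

open Cfsg Cfsg.Agent.ODD Cfsg.Agent.ODD.Red Cfsg.Agent.ODD.Alt Cfsg.Agent.Characters Cfsg.Agent.Characters.Core

universe u v

theorem fix_of_coprime {G : Type u} {τ : ℂ ≃+* ℂ} {χ : G → ℂ} {m b : ℕ} (hm : Odd m) (h1 : Fix (τ ^ m) χ)
    (h2 : Fix (τ ^ 2 ^ b) χ) : Fix τ χ := by
  have hc : m.Coprime (2 ^ b) := Nat.Coprime.pow_right _ (Nat.coprime_two_right.2 hm)
  have ht : 0 < (2 ^ b).totient := Nat.totient_pos.2 (Nat.two_pow_pos b)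
  have hk : m ^ (2 ^ b).totient ≡ 1 [MOD 2 ^ b] := Nat.ModEq.pow_totient hc
  have hle : 1 ≤ m ^ (2 ^ b).totient := Nat.one_le_pow _ _ hm.pos
  obtain ⟨c, hc⟩ := (Nat.modEq_iff_dvd' hle).1 hk.symm
  have h3 : m ^ (2 ^ b).totient = 1 + 2 ^ b * c := by omega
  have h4 : Fix (τ ^ m ^ (2 ^ b).totient) χ := by
    have := h1.pow (m ^ ((2 ^ b).totient - 1))
    rwa [← pow_mul, ← pow_succ', Nat.sub_add_cancel ht] at this
  have h5 := h2.pow c
  intro g
  have h6 := h4 g
  rw [h3, pow_add, pow_one, pow_mul, RingAut.mul_apply, h5 g] at h6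
  exact h6

section

variable {H : Type u} [Group H] [Finite H]

theorem Two.fix_pow {τ : ℂ ≃+* ℂ} (hτ : Two τ) :
    ∃ b : ℕ, ∀ χ : H → ℂ, IsCharacter H χ → Fix (τ ^ 2 ^ b) χ := by
  obtain ⟨b, hb⟩ := hτ.exists_pow (n := Nat.card H) Nat.card_pos.ne'
  exact ⟨b, fun χ hχ => fix_of_roots Nat.card_pos.ne' (fun _ => pow_card_eq_one') hb hχ⟩

/-- a field automorphism which fixes a character over `θ` moves `θ` to a conjugate -/
theorem exists_conj_of_fix (N : Subgroup H) [N.Normal] [Fintype N] {θ : N → ℂ} (hθ : IsIrrCharacter N θ)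
    {χ : H → ℂ} (hχ : IsIrrCharacter H χ) (h0 : classInner (fun n : N => χ n) θ ≠ 0) {σ : ℂ ≃+* ℂ}
    (hf : Fix σ χ) : ∃ g : H, ∀ n, σ (θ n) = θ (MulAut.conjNormal g n) := by
  have := Fintype.ofFinite H
  have h1 : classInner (fun n : N => χ n) (fun n => σ (θ n)) ≠ 0 := by
    have h2 := GaloisIrr.classInner_map σ (χ := fun n : N => χ n) (isIrr_isCharacter hθ)
    have h3 : (fun n : N => σ (χ n)) = fun n : N => χ n := funext fun n => hf n
    rw [h3] at h2
    rw [h2]
    exact fun h => h0 (σ.injective (h.trans (map_zero σ).symm))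
  obtain ⟨g, hg⟩ := Clifford.exists_conj_of_constituents N hχ hθ (GaloisIrr.isIrr_map σ hθ) h0 h1
  exact ⟨g, fun n => congrFun hg n⟩

theorem fix_pow_of_conj (N : Subgroup H) [N.Normal] {θ : N → ℂ} (hθ : IsIrrCharacter N θ) {σ : ℂ ≃+* ℂ} {g : H}
    (hg : ∀ n, σ (θ n) = θ (MulAut.conjNormal g n)) : Fix (σ ^ N.index) θ := by
  have h1 : ∀ (j : ℕ) (n : N), (σ ^ j) (θ n) = θ (MulAut.conjNormal (g ^ j) n) := by
    intro j
    induction j with
    | zero => intro n; simp
    | succ j ih =>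
      intro n
      rw [pow_succ', RingAut.mul_apply, ih, hg, pow_succ', map_mul, MulAut.mul_apply]
  intro n
  rw [h1]
  exact isIrr_isClassFunction hθ n ⟨g ^ N.index, N.pow_index_mem g⟩

theorem fix_of_over (N : Subgroup H) [N.Normal] [Fintype N] (ho : Odd N.index) {θ : N → ℂ}
    (hθ : IsIrrCharacter N θ) {χ : H → ℂ} (hχ : IsIrrCharacter H χ) (h0 : classInner (fun n : N => χ n) θ ≠ 0)
    {τ : ℂ ≃+* ℂ} (hτ : Two τ) (hf : Fix τ χ) : Fix τ θ := by
  obtain ⟨g, hg⟩ := exists_conj_of_fix N hθ hχ h0 hf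
  obtain ⟨b, hb⟩ := Two.fix_pow (H := N) hτ
  exact fix_of_coprime ho (fix_pow_of_conj N hθ hg) (hb θ (isIrr_isCharacter hθ))

theorem inner_of_ind (N : Subgroup H) [Fintype H] [Fintype N] {θ : N → ℂ} {χ : H → ℂ} (hχ : IsIrrCharacter H χ)
    (h : classInner (indFun N θ) χ ≠ 0) : classInner (fun n : N => χ n) θ ≠ 0 := by
  rw [CharactersDeep.NormalInd.classInner_indFun N θ χ (isIrr_isClassFunction hχ)] at h
  intro h1
  rw [← classInner_conj_symm, h1, map_zero] at h
  exact h rfl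

/-- over an odd character of a subgroup of odd index there is an odd character -/
theorem exists_odd_over (N : Subgroup H) [Fintype N] (ho : Odd N.index) {θ : N → ℂ} (hθ : IsIrrCharacter N θ)
    (hd : Odd (charDegree θ)) :
    ∃ χ : H → ℂ, IsIrrCharacter H χ ∧ Odd (charDegree χ) ∧ classInner (fun n : N => χ n) θ ≠ 0 := by
  have := Fintype.ofFinite H
  have h1 := Brauer.isCharacter_indFun N (isIrr_isCharacter hθ)
  have h2 : Odd (charDegree (indFun N θ)) := by
    rw [charDegree_of (n := N.index * charDegree θ) (by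
      rw [CharactersDeep.NormalInd.indFun_one, apply_one (isIrr_isCharacter hθ), Nat.cast_mul])]
    exact ho.mul hd
  have h3 := odd_card_OC h1 h2
  have : Nonempty {χ : H → ℂ // OC (indFun N θ) χ} := (Nat.card_pos_iff.1 h3.pos).1
  obtain ⟨χ, hχ⟩ := this
  exact ⟨χ, hχ.1, hχ.2.1, inner_of_ind N hχ.1 hχ.ne_zero⟩

theorem exists_over (N : Subgroup H) [Fintype N] {θ : N → ℂ} (hθ : IsIrrCharacter N θ) :
    ∃ χ : H → ℂ, IsIrrCharacter H χ ∧ classInner (fun n : N => χ n) θ ≠ 0 := by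
  classical
  have := Fintype.ofFinite H
  have h1 := Brauer.isCharacter_indFun N (isIrr_isCharacter hθ)
  have := @Fintype.ofFinite _ (finite_irr (G := H))
  obtain ⟨m, hm⟩ := exists_nat_comb h1
  by_contra! h2
  have h3 : ∀ ψ : IrrCharacter H, m ψ = 0 := fun ψ => by
    by_contra h4
    refine inner_of_ind N ψ.2 ?_ (h2 ψ ψ.2)
    rw [hm, classInner_sum_nsmul_irr]
    exact Nat.cast_ne_zero.2 h4
  have h4 := congrFun hm 1
  rw [CharactersDeep.NormalInd.indFun_one] at h4
  simp only [h3, zero_smul, Finset.sum_const_zero, Pi.zero_apply, mul_eq_zero, Nat.cast_eq_zero] at h4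
  rcases h4 with h4 | h4
  · exact N.index_ne_zero_of_finite h4
  · exact isIrr_apply_one_ne_zero hθ h4

theorem oddRat_normal (N : Subgroup H) [N.Normal] (ho : Odd N.index) (h : OddRat H) : OddRat N := by
  intro θ hθ hd τ hτ
  have := Fintype.ofFinite N
  obtain ⟨χ, h1, h2, h3⟩ := exists_odd_over N ho hθ hd
  exact fix_of_over N ho hθ h1 h3 hτ (h χ h1 h2 τ hτ)

theorem allR_normal (N : Subgroup H) [N.Normal] (ho : Odd N.index) (h : AllR H) : AllR N := by
  intro θ hθ τ hτ
  have := Fintype.ofFinite N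
  obtain ⟨χ, h1, h3⟩ := exists_over N hθ
  exact fix_of_over N ho hθ h1 h3 hτ (h χ h1 τ hτ)

variable {S : Type v} [Group S]

theorem oddRat_sub (ι : S →* H) (hι : Function.Injective ι) (hn : ι.range.Normal) (ho : Odd ι.range.index)
    (h : OddRat H) : OddRat S :=
  Cv.oddRat_congr (MonoidHom.ofInjective hι) (oddRat_normal ι.range ho h)

theorem allR_sub (ι : S →* H) (hι : Function.Injective ι) (hn : ι.range.Normal) (ho : Odd ι.range.index)
    (h : AllR H) : AllR S :=
  have : Finite S := Finite.of_injective _ hι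
  (allR_normal ι.range ho h).congr (MonoidHom.ofInjective hι)

theorem oddRat_of_allR {G : Type v} [Group G] (h : AllR G) : OddRat G := fun θ hθ _ => h θ hθ

theorem allR_of_surj {G : Type v} [Group G] (φ : H →* G) (hφ : Function.Surjective φ) (h : AllR H) : AllR G :=
  fun θ hθ => (Cv.rat2_comp_iff φ hφ θ).1 (h _ (isIrr_comp' φ hφ hθ))

/-- a subgroup `N ≤ K` with `K = N T`, `T` of odd order, has odd index in `K` -/
theorem odd_index_of_split (N : Subgroup H) (T : Subgroup H) (hT : Odd (Nat.card T))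
    (h : ∀ g : H, ∃ n ∈ N, ∃ t ∈ T, g = n * t) [N.Normal] : Odd N.index := by
  have h1 : Function.Surjective ((QuotientGroup.mk' N).comp T.subtype) := by
    intro x
    obtain ⟨g, rfl⟩ := QuotientGroup.mk'_surjective N x
    obtain ⟨n, hn, t, ht, rfl⟩ := h g
    refine ⟨⟨t, ht⟩, ?_⟩
    rw [map_mul, (QuotientGroup.eq_one_iff n).2 hn |> fun h : (QuotientGroup.mk' N n) = 1 => h, one_mul]
    rfl
  exact hT.of_dvd_nat (Subgroup.card_dvd_of_surjective _ h1)

/-- all primes which divide the index are odd -/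
theorem odd_of_primes {n : ℕ} (h : ∀ r : ℕ, r.Prime → r ∣ n → r ≠ 2) : Odd n := by
  by_contra h1
  exact h 2 Nat.prime_two (even_iff_two_dvd.1 (Nat.not_odd_iff_even.1 h1)) rfl

end

/-- the power maps -/
def PW (G : Type u) [Group G] : Prop :=
  ∀ (g : G) (k : ℕ), Odd k → (∀ n, Odd n → n ∣ orderOf g → k ≡ 1 [MOD n]) → IsConj g (g ^ k)

theorem PW.allR {G : Type u} [Group G] [Finite G] (h : PW G) : AllR G := by
  intro χ hχ τ hτ g
  have h0 : 2 * orderOf g ≠ 0 := mul_ne_zero two_ne_zero (orderOf_pos g).ne'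
  obtain ⟨k, hk, h1⟩ := GaloisBasic.exists_coprime_pow (τ : ℂ →+* ℂ) h0
  have hc := h g k (Nat.coprime_two_right.1 hk.coprime_mul_right_right) fun n hn hd =>
    Alt.modEq_of_roots hn.pos.ne' fun z hz => by
      obtain ⟨c, hc⟩ := hd
      rw [← h1 z (by rw [hc, mul_comm, mul_assoc, pow_mul, hz, one_pow]), pow_one]
      exact hτ n z hn hz
  have h2 := GaloisBasic.map_apply (τ : ℂ →+* ℂ) h1 (isIrr_isCharacter hχ) (g := g) h0
    (by rw [mul_comm, pow_mul, pow_orderOf_eq_one, one_pow])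
  obtain ⟨c, hc⟩ := isConj_iff.1 hc
  rw [← hc, isIrr_isClassFunction hχ] at h2
  exact h2

end Cfsg.Agent.ODD.C2
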