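import Cfsg.Agent.ODD.C2.MnRgd
import Cfsg.Agent.ODD.C2.HN2a
import Cfsg.Agent.ODD.C2.Desc
import Cfsg.Agent.DL.PP.Cor

/-!
# The datum of a minuscule weight system in characteristic two, III : the finite levels (helper89)

`m.G0 k cs h e` : the group generated by the root elements over the field with `2 ^ e` elements;
`G_inf_lv`, `exists_split`, `conj_G0`, `emb_split`; `oddRat_GF`, `oddRat_of_emb`.
-/

set_option autoImplicit false
set_option maxHeartbeats 400000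
set_option linter.unusedSectionVars false

namespace Cfsg.Agent.ODD.C2

open CoxeterSystem Cfsg.Agent.ChevalleyStructure.CoxeterGeom Cfsg.Agent.Tits.Roots Cfsg.Agent.Nodes.Coroot Matrix
  Cfsg.Agent.Nodes.Reps Cfsg.Agent.Nodes.BNOf Cfsg.Agent.Nodes.Bruhat Cfsg.Agent.LangThm Cfsg.Agent.DL
  Cfsg.Agent.DL.PP

section gen

variable {k : Type} [Field k] [CharP k 2] {Y : Type} [Group Y] {N : Type} [Fintype N]
  [DecidableEq N] {ρ : Y →* GL N k} {F : MulAut Y} {G : Subgroup Y} [IsAlgClosed k] {D : Datum 2 ρ F G}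

/-- the hypotheses of the parametrisation of the characters of odd degree -/
structure Good (D : Datum 2 ρ F G) : Prop where
  qs : D.QS
  cz : CZ D
  hn : HN D

theorem Good.oddRat (h : Good D) : OddRat (GF F G) := by
  have := D.amb.finite_GF G
  have := Fintype.ofFinite (GF F G)
  intro χ hχ ho τ hτ g
  exact gal_fix h.qs h.cz h.hn hχ (Odd.not_two_dvd_nat ho) τ
    (fun m z hm hz => hτ m z (Nat.odd_iff.2 (Nat.two_dvd_ne_zero.1 hm)) hz) g

theorem Good.oddRat_sub (h : Good D) {S : Type*} [Group S] (ι : S →* GF F G) (hι : Function.Injective ι)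
    (hn : ι.range.Normal) (ho : Odd ι.range.index) : OddRat S :=
  have := D.amb.finite_GF G
  C2.oddRat_sub ι hι hn ho h.oddRat

theorem Good.oddRat_emb (h : Good D) {S : Type*} [Group S] {T : Subgroup Y} {ι : S →* Y} {d : ℕ}
    (E : Emb F G T ι d) (hd : Odd d) : OddRat S :=
  have := D.amb.finite_GF G
  h.oddRat_sub E.hom E.hom_injective E.normal
    (Nat.coprime_two_left.1 (E.coprime_index (Nat.coprime_two_left.2 hd)))

end gen

namespace Mn

variable {I : Type} [Fintype I] [DecidableEq I] {A : I → I → ℤ} {R N : Type} [Fintype R] [DecidableEq R] [Fintype N]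
  [DecidableEq N] (m : Mn A R N) {k : Type} [Field k] [CharP k 2]
  {W : Type} [Group W] [Finite W] {M : CoxeterMatrix I} {cs : CoxeterSystem M W} {h : IsCartan M A}

variable (k cs h) in
/-- the group generated by the root elements over the field with `2 ^ e` elements -/
noncomputable def G0 (e : ℕ) : Subgroup (GL N k) := RGD.Sup (fun a => m.X k a ⊓ lv N k e) {x | IsRoot cs h x}

theorem x_mem_G0 {a : I → ℤ} (ha : IsRoot cs h a) {e : ℕ} {u : k} (hu : u ^ 2 ^ e = u) :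
    m.x k a u ∈ m.G0 k cs h e :=
  RGD.le_Sup (X := fun a => m.X k a ⊓ lv N k e) (S := {x | IsRoot cs h x}) ha ((m.mem_Xe ha).2 ⟨u, hu, rfl⟩)

theorem G0_le {e : ℕ} {H : Subgroup (GL N k)}
    (hx : ∀ a, IsRoot cs h a → ∀ u : k, u ^ 2 ^ e = u → m.x k a u ∈ H) : m.G0 k cs h e ≤ H :=
  RGD.Sup_le fun a ha y hy => by
    obtain ⟨u, hu, rfl⟩ := (m.mem_Xe ha).1 hy
    exact hx a ha u hu

theorem G0_le_G (e : ℕ) : m.G0 k cs h e ≤ m.G k cs h := m.G0_le fun _ ha u _ => m.x_mem_G ha u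

theorem G0_le_lv (e : ℕ) : m.G0 k cs h e ≤ lv N k e := m.G0_le fun _ ha _ hu => (m.x_mem_lv ha).2 hu

theorem τ_conj_G0 {e : ℕ} {c : R → kˣ} (hc : c ^ 2 ^ e = c) {g : GL N k} (hg : g ∈ m.G0 k cs h e) :
    m.τ k c * g * (m.τ k c)⁻¹ ∈ m.G0 k cs h e := by
  have : m.G0 k cs h e ≤ (m.G0 k cs h e).comap (MulAut.conj (m.τ k c)).toMonoidHom := m.G0_le fun a ha u hu => by
    show m.τ k c * m.x k a u * (m.τ k c)⁻¹ ∈ m.G0 k cs h e
    rw [m.τ_x ha]
    refine m.x_mem_G0 ha ?_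
    rw [mul_pow, hu, ← Units.val_pow_eq_pow_val, ← map_pow, hc]
  exact this hg

theorem fix_frA [IsAlgClosed k] (e : ℕ) : fix (1 * frA N k e) = lv N k e := by
  ext y
  rw [mem_fix, one_mul, frA_apply]
  rfl

theorem GF_frA [IsAlgClosed k] (e : ℕ) (H : Subgroup (GL N k)) : GF (1 * frA N k e) H = H ⊓ lv N k e := by
  rw [GF, fix_frA]

variable [IsAlgClosed k] (hk : ∀ a : k, ∃ j, 0 < j ∧ a ^ 2 ^ j = a) {e : ℕ} (he : 0 < e)
include hk he

theorem G_inf_lv : m.G k cs h ⊓ lv N k e = ((m.τ k).range ⊓ lv N k e) ⊔ m.G0 k cs h e := by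
  refine le_antisymm ?_ (sup_le (inf_le_inf_right _ fun _ ⟨c, hc⟩ => hc ▸ m.τ_mem_G c)
    (le_inf (m.G0_le_G e) (m.G0_le_lv e)))
  let D := m.dat cs h hk he
  have hx : ∀ a, D.Rt a → ∀ u, (1 * frA N k e) (D.x a u) = D.x a (u ^ 2 ^ e) := fun a ha u =>
    (frA_apply e _).trans (m.frob_x ha e u)
  have hS : ∀ {B : Set (I → ℤ)}, (∀ a ∈ B, D.Rt a) → ∀ {y}, y ∈ D.S B → (1 * frA N k e) y ∈ D.S B := by
    intro B hB
    have : D.S B ≤ (D.S B).comap (1 * frA N k e).toMonoidHom := RGD.Sup_le fun a ha y hy => by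
      obtain ⟨u, rfl⟩ := (D.mem_X a (hB a ha) y).1 hy
      show (1 * frA N k e) _ ∈ D.S B
      rw [hx a (hB a ha)]
      exact RGD.le_Sup ha (D.x_mem (hB a ha) _)
    exact fun {_} hy => this hy
  have hU : ∀ {B : Set (I → ℤ)}, D.Uni B → ∀ {y}, y ∈ D.S B → (1 * frA N k e) y = y → y ∈ m.G0 k cs h e := by
    intro B hB y h1 h2
    have h3 : y ∈ D.S B ⊓ fix (1 * frA N k e) := ⟨h1, h2⟩
    rw [S_inf_fix D hx hB, fix_frA] at h3
    exact RGD.Sup_mono (S' := {x | IsRoot cs h x}) (fun a ha => hB.root a ha) h3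
  have hn : Subgroup.closure (Set.range D.n) ≤ ((m.τ k).range ⊓ lv N k e) ⊔ m.G0 k cs h e := by
    rw [Subgroup.closure_le]
    rintro _ ⟨i, rfl⟩
    exact NN_le_GG (m.rgd cs h he) ⟨_, rp_simple _ _ i⟩
  have hl : ((m.τ k).range ⊓ lv N k e) ⊔ m.G0 k cs h e ≤ fix (1 * frA N k e) := by
    rw [fix_frA]
    exact sup_le inf_le_right (m.G0_le_lv e)
  rintro y ⟨h1, h2⟩
  obtain ⟨w, u, hu, n, hn', v, hv, rfl⟩ := D.exists_normal_form h1
  obtain ⟨n', h4, h5⟩ := D.exists_rp w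
  have h6 := h4.unique hn'
  have h7 : D.Rp w ((1 * frA N k e) n) := by
    have e1 : (1 * frA N k e) n = n' * (1 * frA N k e) (n'⁻¹ * n) := by
      rw [map_mul, map_inv, mem_fix.1 (hl (hn h5)), mul_inv_cancel_left]
    obtain ⟨c, hc⟩ := h6
    rw [e1, ← hc, show (1 * frA N k e) (m.τ k c) = _ from D.F_τ c]
    exact h4.mul_mem_right (D.τ_mem _)
  have h3 : (1 * frA N k e) (u * n * v) = u * n * v := by rwa [← fix_frA] at h2
  rw [map_mul, map_mul] at h3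
  obtain ⟨-, e1, e2, e3⟩ := D.normal_form_unique (hS (fun _ h => h.1) hu) hu h7 hn' (hS (fun _ h => h.1) hv) hv h3
  refine mul_mem (mul_mem (Subgroup.mem_sup_right (hU D.uni_pos hu e1)) ?_)
    (Subgroup.mem_sup_right (hU (D.uni_NW w) hv e3))
  rw [← mul_inv_cancel_left n' n]
  refine mul_mem (hn h5) (Subgroup.mem_sup_left ⟨h6, ?_⟩)
  rw [← fix_frA]
  exact (fix _).mul_mem ((fix _).inv_mem (hl (hn h5))) e2

theorem exists_split {y : GL N k} (h1 : y ∈ m.G k cs h) (h2 : y ∈ lv N k e) :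
    ∃ g ∈ m.G0 k cs h e, ∃ c : R → kˣ, c ^ 2 ^ e = c ∧ y = g * m.τ k c := by
  have h3 : y ∈ ((m.τ k).range ⊓ lv N k e) ⊔ m.G0 k cs h e := by
    rw [← m.G_inf_lv hk he]
    exact ⟨h1, h2⟩
  let K : Subgroup (GL N k) :=
    { carrier := {y | ∃ g ∈ m.G0 k cs h e, ∃ c : R → kˣ, c ^ 2 ^ e = c ∧ y = g * m.τ k c}
      one_mem' := ⟨1, one_mem _, 1, one_pow _, by simp⟩
      mul_mem' := by
        rintro _ _ ⟨g, hg, c, hc, rfl⟩ ⟨g', hg', c', hc', rfl⟩
        exact ⟨g * (m.τ k c * g' * (m.τ k c)⁻¹), mul_mem hg (m.τ_conj_G0 hc hg'), c * c', by rw [mul_pow, hc, hc'],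
          by rw [map_mul]; group⟩
      inv_mem' := by
        rintro _ ⟨g, hg, c, hc, rfl⟩
        have hc' : c⁻¹ ^ 2 ^ e = c⁻¹ := by rw [inv_pow, hc]
        exact ⟨_, m.τ_conj_G0 hc' (inv_mem hg), c⁻¹, hc', by rw [map_inv]; group⟩ }
  have h4 : ((m.τ k).range ⊓ lv N k e) ⊔ m.G0 k cs h e ≤ K := sup_le
    (by
      rintro _ ⟨⟨c, rfl⟩, hc⟩
      exact ⟨1, one_mem _, c, m.τ_mem_lv.1 hc, (one_mul _).symm⟩)
    fun g hg => ⟨g, hg, 1, one_pow _, by simp⟩
  exact h4 h3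

theorem conj_G0 {y g : GL N k} (h1 : y ∈ m.G k cs h) (h2 : y ∈ lv N k e) (hg : g ∈ m.G0 k cs h e) :
    y * g * y⁻¹ ∈ m.G0 k cs h e := by
  obtain ⟨g', hg', c, hc, rfl⟩ := m.exists_split hk he h1 h2
  have := mul_mem (mul_mem hg' (m.τ_conj_G0 hc hg)) (inv_mem hg')
  simpa [mul_assoc] using this

theorem pow_mem_G0 {y : GL N k} (h1 : y ∈ m.G k cs h) (h2 : y ∈ lv N k e) : y ^ (2 ^ e - 1) ∈ m.G0 k cs h e := by
  obtain ⟨g, hg, c, hc, rfl⟩ := m.exists_split hk he h1 h2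
  have h3 : ∀ j : ℕ, ∃ g' ∈ m.G0 k cs h e, (g * m.τ k c) ^ j = g' * m.τ k (c ^ j) := by
    intro j
    induction j with
    | zero => exact ⟨1, one_mem _, by simp⟩
    | succ j ih =>
      obtain ⟨g', hg', e1⟩ := ih
      refine ⟨g' * (m.τ k (c ^ j) * g * (m.τ k (c ^ j))⁻¹), mul_mem hg' (m.τ_conj_G0 ?_ hg), ?_⟩
      · rw [← pow_mul, mul_comm, pow_mul, hc]
      · rw [pow_succ, e1, pow_succ, map_mul]; group
  obtain ⟨g', hg', e1⟩ := h3 (2 ^ e - 1)
  have h4 : c ^ (2 ^ e - 1) = 1 := by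
    rw [← mul_left_inj c, ← pow_succ, Nat.sub_add_cancel Nat.one_le_two_pow, hc, one_mul]
  rwa [e1, h4, map_one, mul_one]

/-- a group isomorphic to `G0` is a normal subgroup of odd index of the split finite group -/
theorem emb_split {S : Type*} [Group S] {ι : S →* GL N k} (hι : Function.Injective ι)
    (hr : ι.range = m.G0 k cs h e) : Emb (1 * frA N k e) (m.G k cs h) (m.τ k).range ι (2 ^ e - 1) where
  inj := hι
  mem s := by
    rw [GF_frA]
    have : ι s ∈ m.G0 k cs h e := hr ▸ ⟨s, rfl⟩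
    exact ⟨m.G0_le_G e this, m.G0_le_lv e this⟩
  norm y hy s := by
    rw [GF_frA] at hy
    rw [hr]
    exact m.conj_G0 hk he hy.1 hy.2 (hr ▸ ⟨s, rfl⟩)
  split y hy := by
    rw [GF_frA] at hy
    obtain ⟨g, hg, c, hc, rfl⟩ := m.exists_split hk he hy.1 hy.2
    rw [← hr] at hg
    obtain ⟨s, rfl⟩ := hg
    exact ⟨s, _, by rw [GF_frA]; exact ⟨⟨c, rfl⟩, m.τ_mem_lv.2 hc⟩, rfl⟩
  pow y hy := by
    rw [GF_frA] at hy
    rw [hr]
    exact m.pow_mem_G0 hk he hy.1 hy.2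

omit hk in
theorem odd_two_pow_sub_one : Odd (2 ^ e - 1) :=
  Nat.Even.sub_odd Nat.one_le_two_pow (Nat.even_pow.2 ⟨even_two, he.ne'⟩) odd_one

omit hk he in
/-- the fixed points of a twisted Frobenius map lie in a finite level -/
theorem Sy.fix_le {α : MulAut (GL N k)} {g : (I → ℤ) → I → ℤ} {B : Matrix R R ℤ} (S : m.Sy cs h α g B) {d : ℕ}
    (hd : α ^ d = 1) (e : ℕ) : fix (α * frA N k e) ≤ lv N k (d * e) := by
  intro y hy
  have h1 : ∀ j : ℕ, ((α * frA N k e) ^ j) y = y := by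
    intro j
    induction j with
    | zero => rfl
    | succ j ih => rw [pow_succ, MulAut.mul_apply, mem_fix.1 hy, ih]
  have h2 := h1 d
  rw [(S.commute e).mul_pow, hd, one_mul, frA_pow, frA_apply] at h2
  exact h2

end Mn

end Cfsg.Agent.ODD.C2
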