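import Cfsg.Agent.ODD.C2.HN2Chev
import Cfsg.Agent.DL.Tw.Gr
import Cfsg.Agent.DL.Tw.Suz
import Cfsg.Agent.H636.LieTwoSz

/-!
# `HN` for the Suzuki groups and the groups `²F₄(q)`, `q ≥ 8` (helper46)
-/

set_option autoImplicit false
set_option maxHeartbeats 400000
set_option linter.unusedSectionVars false

namespace Cfsg.Agent.ODD.C2

open CoxeterSystem Cfsg.Agent.ChevalleyStructure.CoxeterGeom Cfsg.Agent.Tits.Roots Cfsg.Agent.Nodes.Reps
  Cfsg.Agent.Nodes.BNOf Cfsg.Agent.DL Cfsg.Agent.DL.PP Cfsg.Agent.DL.St Cfsg.Agent.DL.Ex Cfsg.Agent.DL.Tw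
  Cfsg.Agent.H636.LieTwoSz
open scoped commutatorElement

theorem hn2_ab_le {J : Type*} [Group J] {P : Subgroup J} {ι : Type*} [Finite ι] (s t : ι → J) (hs : ∀ i, s i ∈ P)
    (ht : ∀ i, t i ∈ P) (h : ∀ u ∈ P, ∃ i, ∃ d ∈ ⁅P, P⁆, u = s i * d * t i) :
    Nat.card (Abelianization P) ≤ Nat.card ι := by
  refine Nat.card_le_card_of_surjective
    (fun i => Abelianization.of (⟨s i, hs i⟩ : P) * Abelianization.of (⟨t i, ht i⟩ : P)) fun x => ?_
  obtain ⟨u, rfl⟩ := QuotientGroup.mk_surjective x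
  obtain ⟨i, d, hd, e⟩ := h u u.2
  have hd' : d ∈ P := Subgroup.commutator_le_self P hd
  refine ⟨i, ?_⟩
  have h1 : u = ⟨s i, hs i⟩ * ⟨d, hd'⟩ * ⟨t i, ht i⟩ := Subtype.ext e
  show _ = Abelianization.of u
  rw [h1, map_mul, map_mul, hn2_map_eq_one Abelianization.of ⟨d, hd'⟩ hd, mul_one]

section Gen

variable {p : ℕ} [Fact p.Prime] {k : Type} [Field k] [CharP k p] {Y : Type} [Group Y] {N : Type} [Fintype N]
  [DecidableEq N] {ρ : Y →* GL N k} {F : MulAut Y} {G : Subgroup Y} [IsAlgClosed k] (D : Datum p ρ F G)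

/-- `U^F` is isomorphic to a Sylow subgroup -/
theorem hn2_equiv_sylow (h : D.QS) {J : Type*} [Group J] (e : J ≃* ↥(GF F G)) (P : Sylow p J) :
    Nonempty (↥(D.U ⊓ GF F G) ≃* P) := by
  have := D.amb.finite_GF G
  have : Finite J := Finite.of_equiv _ e.symm.toEquiv
  have e1 := Subgroup.subgroupOfEquivOfLe (inf_le_right : D.U ⊓ GF F G ≤ GF F G)
  let Q : Sylow p ↥(GF F G) := Sylow.ofCard ((D.U ⊓ GF F G).subgroupOf (GF F G)) (by
    rw [Nat.card_congr e1.toEquiv,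
      card_U D.sbn (aut_qs h) (fun _ => mem_GF) D.isPGroup_U (fun _ => eq_one_of_pow D) (move h)])
  exact ⟨e1.symm.trans ((Sylow.equiv Q (P.mapSurjective (f := e.toMonoidHom) e.surjective)).trans
    ((P : Subgroup J).equivMapOfInjective e.toMonoidHom e.injective).symm)⟩

/-- `HN` from a bound for the abelianisation of a Sylow subgroup -/
theorem hn_of_sylow (h : D.QS) {J : Type*} [Group J] (e : J ≃* ↥(GF F G)) (P : Sylow p J) {ι : Type*}
    (b : ι → D.I → k) (hb : Function.Injective b) (hσ : ∀ j i, b j (D.σ i) = b j i ^ p ^ D.ex (sr i))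
    (hc : Nat.card (Abelianization P) ≤ Nat.card ι) : HN D := by
  obtain ⟨f⟩ := hn2_equiv_sylow D h e P
  have := (card_fix_le (p := p) (k := k) D.σ (fun i => D.ex (sr i)) (exists_ex h)).1
  refine hn_of_card D h ?_
  rw [Nat.card_congr f.abelianizationCongr.toEquiv]
  exact hc.trans (Nat.card_le_card_of_injective (fun j => ⟨b j, hσ j⟩) fun _ _ e => hb (congrArg Subtype.val e))

end Gen

open Cfsg.Agent.ThreePrime in
theorem hn2_ab_sz {J : Type*} [Group J] {K : Type*} [Field K] [Finite K] (R : SzRel.Rel J K) {c : K} (hc0 : c ≠ 0)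
    (hc1 : c ≠ 1) : Nat.card (Abelianization R.T) ≤ Nat.card K := by
  refine hn2_ab_le (fun a => R.u a 0) (fun _ => 1) (fun a => R.u_mem a 0) (fun _ => one_mem _) ?_
  rintro _ ⟨a, b, rfl⟩
  obtain ⟨a', c', h2⟩ := suz_comm R.two R.θ R.u R.u_mul (fun b hb => by
    obtain ⟨k, hk⟩ := R.exists_mul_theta (Units.mk0 b hb)
    exact ⟨k, hk⟩) (exists_add_ne R.two R.θ R.sq hc0 hc1) b
  refine ⟨a, R.u 0 b, ?_, by rw [mul_one, R.u_mul, map_zero, mul_zero, add_zero, add_zero, zero_add]⟩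
  rw [h2]
  exact Subgroup.commutator_mem_commutator (R.u_mem _ _) (R.u_mem _ _)

section TwoFFour

open Cfsg.Lie
open Cfsg.Agent.ChevalleyStructure.TwF4.Rel
open Cfsg.Agent.ChevalleyStructure.TwF4.Groups Cfsg.Agent.ChevalleyStructure.TwF4.RankOne
open Cfsg.Agent.ChevalleyStructure.TwF4.Twisted Cfsg.Agent.ChevalleyStructure.TwF4.TwistedFix
open Cfsg.Agent.ChevalleyStructure.TwF4.BN
open Cfsg.Agent.Schreier.TwFFour Cfsg.Agent.Schreier.TwoGen
open Cfsg.Agent.Octagon.KRel (x8)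
open Cfsg.Agent.Octagon.KSys Cfsg.Agent.Octagon.KPar Cfsg.Agent.Octagon.KRoot Cfsg.Agent.Octagon.Pkg
open Cfsg.Agent.ParSys.Fam.TwoFFour Cfsg.Agent.Omega.Lie.End.DeadPhi

theorem hn2_ab_2F4 {K : Type*} [Field K] [Fintype K] [CharP K 2] {φ : K →+* K} {e : ℕ} (hφ : Rln φ e) {c : K}
    (hc0 : c ≠ 0) (hc1 : c ≠ 1) : Nat.card (Abelianization ↥(U0 K e)) ≤ Nat.card (K × K) := by
  have h2 : (2 : K) = 0 := CharTwo.two_eq_zero
  have hsq : ∀ x, φ (φ x) = x ^ 2 := by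
    intro x
    rw [hφ.phi x, map_pow, hφ.phi_pow]
  have hroot : ∀ b : K, b ≠ 0 → ∃ a, a * φ a = b := by
    intro b hb
    have h4 := congrArg (fun x : Kˣ => (x : K)) (exists_root hφ (Units.mk0 b hb))
    simp only [Units.val_pow_eq_pow_val, Units.val_mk0] at h4
    refine ⟨((((Units.mk0 b hb) ^ (2 * e))⁻¹ * (Units.mk0 b hb) ^ 2 : Kˣ) : K) ^ e, ?_⟩
    rw [hφ.phi_pow, ← pow_succ]
    exact h4
  refine hn2_ab_le (fun x : K × K => y8 hφ x.1 0) (fun x => y1 hφ x.2) (fun x => U8 hφ _ _) (fun x => U1 hφ _)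
    fun u hu => ?_
  obtain ⟨v, hv, t, h⟩ := decU_a hφ hu
  obtain ⟨y, hy, d, hd, -, hvy⟩ := dec_ge hφ hc0 hc1 7 1 (by norm_num) le_rfl v hv
  have hy' : y ∈ XX K e 8 := hy
  obtain ⟨a, w, rfl⟩ := (memXX8 hφ y).1 hy'
  have hy1 : (⟨xa e t, xa_mem t⟩ : ↥(twistedF4 K e)) = y1 hφ (t ^ e) := by
    apply Subtype.ext
    rw [coe_y1, xa_eq hφ, hφ.phi_pow]
  obtain ⟨a', c', h3⟩ := suz_comm h2 φ (y8 hφ) (octPar hφ).m8 hroot (exists_add_ne h2 φ hsq hc0 hc1) w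
  refine ⟨(a, t ^ e), y8 hφ 0 w * d, mul_mem ?_ hd, ?_⟩
  · rw [h3]
    exact Subgroup.commutator_mem_commutator (U8 hφ _ _) (U8 hφ _ _)
  · rw [h, hvy, hy1, ← mul_assoc (y8 hφ a 0), (octPar hφ).m8, map_zero, mul_zero, add_zero, add_zero, zero_add]

end TwoFFour

variable {k : Type} [Field k] [CharP k 2] [IsAlgClosed k]

theorem hn2_pow_pow {m : ℕ} (a : ↥(levF 2 k (2 * m + 1))) : ((a : k) ^ 2 ^ (m + 1)) ^ 2 ^ m = a := by
  rw [← pow_mul, ← pow_add, show m + 1 + m = 2 * m + 1 by ring]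
  exact mem_levF.1 a.2

/-- **`HN` for the Suzuki groups** -/
theorem hn_Sz (hk : BpExc.TowChev.LocFin k) {m : ℕ} (hm : 0 < m) : HN (datB2 hk m) := by
  have := finite_levF (p := 2) (k := k) (Nat.succ_pos (2 * m))
  have := Fintype.ofFinite ↥(levF 2 k (2 * m + 1))
  have hK : Fintype.card ↥(levF 2 k (2 * m + 1)) = 2 ^ (2 * m + 1) := by
    rw [← Nat.card_eq_fintype_card, hn2_card_levF (Nat.succ_pos _)]
  let R := ThreePrime.SzRel.ofGood (LieRecognition.SzMatrix.good hK)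
  obtain ⟨-, ho, -⟩ := Omega.EH3.Rank1.arith hm
  obtain ⟨P, hP⟩ := Omega.EH3.Rank1.sz_sylow R (by rw [Nat.card_eq_fintype_card, hK]; exact ho)
  obtain ⟨c, hc0, hc1⟩ := ParSys.Fam.TwoFFour.card_ge hm hK
  refine hn_of_sylow _ (qs_B2 hk m).qs (emb_B2 (levF 2 k (2 * m + 1)).subtype hK).equiv P
    (ι := ↥(levF 2 k (2 * m + 1))) (fun a => (![(a : k), (a : k) ^ 2 ^ (m + 1)] : Fin 2 → k))
    (fun a b e => Subtype.ext (congrFun e 0)) (fun a i => ?_) (by rw [hP]; exact hn2_ab_sz R hc0 hc1)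
  have h1 : (datB2 hk m).ex (sr i) = (![m + 1, m] : Fin 2 → ℕ) i := ex_B2 hk m i
  rw [(qs_B2 hk m).σ_eq, h1]
  clear h1
  revert i
  show ∀ i : Fin 2, _
  intro i
  fin_cases i
  · rfl
  · exact (hn2_pow_pow a).symm

/-- **`HN` for the groups `²F₄(q)`** -/
theorem hn_2F4 (hk : BpExc.TowChev.LocFin k) {m : ℕ} (hm : 0 < m) : HN (datF4 hk m) := by
  have := finite_levF (p := 2) (k := k) (Nat.succ_pos (2 * m))
  have := Fintype.ofFinite ↥(levF 2 k (2 * m + 1))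
  have hK : Fintype.card ↥(levF 2 k (2 * m + 1)) = 2 ^ (2 * m + 1) := by
    rw [← Nat.card_eq_fintype_card, hn2_card_levF (Nat.succ_pos _)]
  obtain ⟨φ, hφ⟩ := ChevalleyStructure.TwF4.TwistedFix.exists_rln hK
  obtain ⟨P, hP⟩ := Omega.Lie.End.DeadPhi.exists_sylow_U0 hK hφ
  obtain ⟨c, hc0, hc1⟩ := ParSys.Fam.TwoFFour.card_ge hm hK
  refine hn_of_sylow _ (qs_F4 hk m).qs (emb_F4 (levF 2 k (2 * m + 1)).subtype hK).equiv P
    (ι := ↥(levF 2 k (2 * m + 1)) × ↥(levF 2 k (2 * m + 1)))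
    (fun a => (![(a.1 : k), a.2, (a.2 : k) ^ 2 ^ (m + 1), (a.1 : k) ^ 2 ^ (m + 1)] : Fin 4 → k))
    (fun a b e => Prod.ext (Subtype.ext (congrFun e 0)) (Subtype.ext (congrFun e 1))) (fun a i => ?_)
    (by rw [hP]; exact hn2_ab_2F4 hφ hc0 hc1)
  have h1 : (datF4 hk m).ex (sr i) = (![m + 1, m + 1, m, m] : Fin 4 → ℕ) i := ex_F4 hk m i
  rw [(qs_F4 hk m).σ_eq, h1]
  clear h1
  revert i
  show ∀ i : Fin 4, _
  intro i
  fin_cases i
  · rfl
  · rfl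
  · exact (hn2_pow_pow a.2).symm
  · exact (hn2_pow_pow a.1).symm

end Cfsg.Agent.ODD.C2
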