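import Cfsg.Agent.ODD.C2.SpC
import Cfsg.Agent.ODD.C2.HN2Tw
import Cfsg.Agent.H97.DG.SpClo
import Cfsg.Agent.H292.SpCen
import Cfsg.Agent.S0269
import Cfsg.Agent.S0814

/-!
# `Sp_{2n}(q)`, `q` even, is the group of fixed points of the datum of type `C_n` (helper4)

`ioC f`, `embC` (`d = 2 ^ e - 1`), `embC1` (`d = 1`), `center_spC`, `perfect_spC`, `card_aut_psp`, `card_aut_psp_two`;
on the tabulated group of type `B₂` : `hn_B2`, `over_B2`, `emb_B2C`.
-/

set_option autoImplicit false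
set_option maxHeartbeats 400000
set_option linter.unusedSectionVars false

namespace Cfsg.Agent.ODD.C2

section Cl

open CoxeterSystem Cfsg.Agent.ChevalleyStructure.CoxeterGeom Cfsg.Agent.Tits.Roots Matrix
  Cfsg.Agent.Nodes.Reps Cfsg.Agent.Nodes.BNOf Cfsg.Agent.DL Cfsg.Agent.Nodes Cfsg.Agent.Nodes.TypeC
  Cfsg.Agent.ClassicalGeometry.SympBasic Cfsg.Agent.ClassicalGeometry.SympAutSemi

variable {n : ℕ} {F : Type} [Field F] {k : Type} [Field k]

/-- signed indices -/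
def kaC (n : ℕ) : Fin n × Bool ≃ Fin n ⊕ Fin n where
  toFun a := if a.2 then Sum.inl a.1 else Sum.inr a.1
  invFun := Sum.elim (fun i => (i, true)) fun i => (i, false)
  left_inv := by rintro ⟨i, _ | _⟩ <;> rfl
  right_inv := by rintro (i | i) <;> rfl

theorem kaC_ng (a : Fin n × Bool) : kaC n (ng a) = (kaC n a).swap := by obtain ⟨i, _ | _⟩ := a <;> rfl

/-- the embedding of the symplectic group -/
noncomputable def ioC (f : F →+* k) : symplecticGroup (Fin n) F →* GL (Fin n × Bool) k :=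
  ((f.mapMatrix.toMonoidHom.comp (reindexAlgEquiv F F (kaC n).symm).toMulEquiv.toMonoidHom).comp
    (symplecticGroup (Fin n) F).subtype).toHomUnits

theorem ioC_apply (f : F →+* k) (g : symplecticGroup (Fin n) F) (a c : Fin n × Bool) :
    (ioC f g : Matrix _ _ k) a c = f (g.1 (kaC n a) (kaC n c)) := rfl

theorem ioC_inj (f : F →+* k) : Function.Injective (ioC (n := n) f) := fun g g' h => by
  ext a c
  obtain ⟨a, rfl⟩ := (kaC n).surjective a
  obtain ⟨c, rfl⟩ := (kaC n).surjective c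
  apply f.injective
  rw [← ioC_apply, ← ioC_apply, h]

theorem entry_rho (g : symplecticGroup (Fin n) F) (a c : Fin n ⊕ Fin n) : g.1 a c = rho n F g (H97.DG.bv F c) a := by
  show _ = (g.1 *ᵥ Pi.single c 1) a
  rw [mulVec_single_one]
  rfl

theorem form_bvC [CharP F 2] (a c : Fin n × Bool) :
    sympForm n F (H97.DG.bv F (kaC n c)) (H97.DG.bv F (kaC n a)) = if c = ng a then 1 else 0 := by
  rw [H97.DG.form_bv', H97.DG.bv_apply, show H97.DG.op (kaC n a) = kaC n (ng a) from (kaC_ng a).symm]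
  simp only [(kaC n).injective.eq_iff, @eq_comm _ (ng a) c]
  split_ifs
  · obtain ⟨i, _ | _⟩ := a
    · show -((1 : F) * 1) = 1
      rw [mul_one, CharTwo.neg_eq]
    · show -((-1 : F) * 1) = 1
      rw [mul_one, neg_neg]
  · rw [mul_zero, neg_zero]

variable [CharP F 2] [CharP k 2] (f : F →+* k)

theorem ioC_transv {x : Fin n → ℤ} (hx : IsRoot (csC n) (isCartan n) x) {a : Fin n × Bool} (e : ee x = wt a + wt a)
    (s : F) : ioC f (transv (H97.DG.bv F (kaC n a)) s) = (mnC n).x k x (f s) := by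
  ext b c
  rw [ioC_apply, entry_rho, rho_transv, form_bvC, (mnC n).x_apply hx, Pi.add_apply, Pi.smul_apply,
    H97.DG.bv_apply, H97.DG.bv_apply]
  simp only [(kaC n).injective.eq_iff, st_iffC (Or.inr rfl) e, or_self, map_add, smul_eq_mul, map_mul, apply_ite f,
    map_one, map_zero, add_right_inj]
  by_cases h1 : b = a <;> by_cases h2 : c = ng a <;> simp [h1, h2]

theorem ioC_et {x : Fin n → ℤ} (hx : IsRoot (csC n) (isCartan n) x) {a b : Fin n × Bool} (hab : a.1 ≠ b.1)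
    (e : ee x = wt a + wt b) (s : F) :
    ioC f (H97.DG.et (H97.DG.bv F (kaC n a)) (H97.DG.bv F (kaC n b)) s) = (mnC n).x k x (f s) := by
  have h0 : a ≠ ng b := fun h => hab (by rw [h]; rfl)
  have h1 : a ≠ b := fun h => hab (congrArg Prod.fst h)
  ext c d
  rw [ioC_apply, entry_rho, H97.DG.rho_et (by rw [form_bvC, if_neg h0]), form_bvC, form_bvC, (mnC n).x_apply hx,
    Pi.add_apply, Pi.add_apply, Pi.smul_apply, Pi.smul_apply, H97.DG.bv_apply, H97.DG.bv_apply, H97.DG.bv_apply]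
  simp only [(kaC n).injective.eq_iff, st_iffC (Or.inl hab) e, map_add, smul_eq_mul, map_mul, apply_ite f, map_one,
    map_zero, add_assoc, add_right_inj]
  by_cases h2 : c = a
  · have h3 : c ≠ b := h2 ▸ h1
    simp [h2, h1]
  · simp only [h2, if_false, false_and, false_or, mul_zero, add_zero]
    by_cases h3 : c = b <;> simp [h3]

variable [Fintype F] {e : ℕ} (hF : Fintype.card F = 2 ^ e)

include hF in
theorem range_ioC : (ioC (n := n) f).range = (mnC n).G0 k (csC n) (isCartan n) e := by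
  have hs : ∀ s : F, f s ^ 2 ^ e = f s := fun s => by rw [← map_pow, ← hF, FiniteField.pow_card]
  apply le_antisymm
  · rw [MonoidHom.range_eq_map, Subgroup.map_le_iff_le_comap, top_le_iff]
    refine H97.DG.eq_top_of_roots _ (fun a b h1 h2 s => ?_) fun a s => ?_
    · obtain ⟨a, rfl⟩ := (kaC n).surjective a
      obtain ⟨b, rfl⟩ := (kaC n).surjective b
      have hab : a.1 ≠ b.1 := fun h => by
        obtain ⟨i, s1⟩ := a
        obtain ⟨j, s2⟩ := b
        obtain rfl : i = j := h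
        cases s1 <;> cases s2 <;> first | exact h2 rfl | exact h1 rfl
      obtain ⟨x, hx, ex⟩ := rt_of_ok (cs := csC n) (Or.inl hab)
      rw [Subgroup.mem_comap, ioC_et f hx hab ex]
      exact (mnC n).x_mem_G0 hx (hs s)
    · obtain ⟨a, rfl⟩ := (kaC n).surjective a
      obtain ⟨x, hx, ex⟩ := rt_of_ok (cs := csC n) (a := a) (b := a) (Or.inr rfl)
      rw [Subgroup.mem_comap, ioC_transv f hx ex]
      exact (mnC n).x_mem_G0 hx (hs s)
  · refine (mnC n).G0_le fun x hx u hu => ?_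
    obtain ⟨s, rfl⟩ := BpExc.Emb.mem_range_of_pow f (hF ▸ hu)
    obtain ⟨a, b, hab | rfl, ex⟩ := exists_of_isRoot (csC n) hx
    · exact ⟨_, ioC_et f hx hab ex s⟩
    · exact ⟨_, ioC_transv f hx ex s⟩

include hF in
theorem τ_mem_range_ioC {c : Fin n → kˣ} (hc : c ^ 2 ^ e = c) : (mnC n).τ k c ∈ (ioC (n := n) f).range := by
  choose b hb using fun i => DL.Ex.exists_unit (p := 2) f hF (congrFun hc i)
  refine ⟨⟨diagonal (Sum.elim (fun i => (b i : F)) fun i => ((b i)⁻¹ : Fˣ)), ?_⟩, ?_⟩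
  · rw [mem_symplecticGroup_iff]
    intro u v
    rw [sympForm_eq_sum, sympForm_eq_sum]
    refine Finset.sum_congr rfl fun i _ => ?_
    simp only [mulVec_diagonal, Sum.elim_inl, Sum.elim_inr]
    linear_combination (u (Sum.inr i) * v (Sum.inl i) - u (Sum.inl i) * v (Sum.inr i)) * (b i).mul_inv
  · ext a d
    rw [ioC_apply, Mn.coe_τ, diagonal_apply, Subtype.coe_mk, diagonal_apply, apply_ite f, map_zero]
    simp only [(kaC n).injective.eq_iff]
    congr 1
    obtain ⟨i, _ | _⟩ := a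
    · show f ((b i)⁻¹ : Fˣ) = (chr (Pi.single i (-1)) c : kˣ)
      rw [Pi.single_neg, chr_neg, show (Pi.single i 1 : Fin n → ℤ) = sr i from rfl, DL.Ex.chr_sr, ← hb, ← map_inv]
      rfl
    · show f (b i) = (chr (sr i) c : kˣ)
      rw [DL.Ex.chr_sr, ← hb]
      rfl

variable [IsAlgClosed k] (hk : ∀ a : k, ∃ j, 0 < j ∧ a ^ 2 ^ j = a) (he : 0 < e)

include hF hk he in
theorem embC' : Emb (1 * frA (Fin n × Bool) k e) ((mnC n).G k (csC n) (isCartan n)) ((mnC n).τ k).range (ioC f)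
    (2 ^ e - 1) := (mnC n).emb_split hk he (ioC_inj f) (range_ioC f hF)

include hF hk he in
/-- **`Sp_{2n}(q) = G^F`** -/
theorem embC1 : Emb (1 * frA (Fin n × Bool) k e) ((mnC n).G k (csC n) (isCartan n)) ((mnC n).τ k).range (ioC f) 1 := by
  refine Emb.of_surj (ioC_inj f) (embC' f hF hk he).mem fun y hy => ?_
  rw [Mn.GF_frA] at hy
  obtain ⟨g, hg, c, hc, rfl⟩ := (mnC n).exists_split hk he hy.1 hy.2
  exact mul_mem (range_ioC f hF ▸ hg) (τ_mem_range_ioC f hF hc)

include f hF hk he in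
theorem embC : ∃ ι : symplecticGroup (Fin n) F →* GL (Fin n × Bool) k,
    Emb (1 * frA (Fin n × Bool) k e) ((mnC n).G k (csC n) (isCartan n)) ((mnC n).τ k).range ι (2 ^ e - 1) :=
  ⟨_, embC' f hF hk he⟩

omit [Fintype F] in
theorem center_spC : Subgroup.center (symplecticGroup (Fin n) F) = ⊥ := H292.SpCen.center_eq_bot n

omit [Fintype F] in
/-- `Sp ≃* PSp` in characteristic two -/
noncomputable def spEquivC (n : ℕ) (F : Type) [Field F] [CharP F 2] : PSp n F ≃* symplecticGroup (Fin n) F :=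
  (QuotientGroup.quotientMulEquivOfEq center_spC).trans QuotientGroup.quotientBot

omit [CharP F 2] in
include hF in
theorem perfect_spC (he2 : 2 ≤ e) : commutator (symplecticGroup (Fin n) F) = ⊤ :=
  S0269.result n (Or.inr (Or.inr (hF ▸ Nat.pow_le_pow_right two_pos he2)))

omit [CharP F 2] in
include hF he in
theorem card_aut_psp (hn : 3 ≤ n) : Nat.card (MulAut (PSp n F)) = Nat.card (PSp n F) * e := by
  have : Fact (Nat.Prime 2) := ⟨Nat.prime_two⟩
  rw [S0814.result 2 e he hF n (by omega) (by omega), if_neg (by omega),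
    Nat.coprime_two_left.2 (Mn.odd_two_pow_sub_one he)]
  ring

omit [CharP F 2] in
include hF in
theorem card_aut_psp_two (he2 : 2 ≤ e) : Nat.card (MulAut (PSp 2 F)) = Nat.card (PSp 2 F) * (2 * e) := by
  have : Fact (Nat.Prime 2) := ⟨Nat.prime_two⟩
  have h4 : 2 ^ 2 ≤ 2 ^ e := Nat.pow_le_pow_right two_pos he2
  rw [S0814.result 2 e (by omega) hF 2 le_rfl (fun _ => by omega), if_pos ⟨rfl, rfl⟩,
    Nat.coprime_two_left.2 (Mn.odd_two_pow_sub_one (by omega))]
  ring

omit [CharP F 2] in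
include hF he in
theorem card_aut_psp' (hn : 3 ≤ n) : ∃ m, Odd m ∧ Nat.card (MulAut (PSp n F)) = Nat.card (PSp n F) * e * m :=
  ⟨1, odd_one, by rw [mul_one, card_aut_psp hF he hn]⟩

omit [CharP F 2] in
include hF in
theorem card_aut_psp_two' (he2 : 2 ≤ e) :
    ∃ m, Odd m ∧ Nat.card (MulAut (PSp 2 F)) = Nat.card (PSp 2 F) * (2 * e) * m :=
  ⟨1, odd_one, by rw [mul_one, card_aut_psp_two hF he2]⟩

end Cl

section Tab

open CoxeterSystem Cfsg Cfsg.Lie Cfsg.Lie.ChevalleyDatum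
open Cfsg.Agent.ChevalleyStructure Cfsg.Agent.ChevalleyStructure.Elts Cfsg.Agent.ChevalleyStructure.CoxeterGeom
  Cfsg.Agent.ChevalleyStructure.CoxeterGeomTypes Cfsg.Agent.ChevalleyStructure.NPerm
  Cfsg.Agent.ChevalleyStructure.RootVec
open Cfsg.Agent.Tits.Roots Cfsg.Agent.Nodes Cfsg.Agent.Nodes.Reps Cfsg.Agent.Nodes.BNOf Cfsg.Agent.Nodes.RGDChev
open Cfsg.Agent.KFacts.RgdField Cfsg.Agent.KFacts.RgdChevCoord Cfsg.Agent.BpExc.TorChev
open Cfsg.Agent.GpExc.Field Cfsg.Agent.BpExc.Tow Cfsg.Agent.BpExc.TowChev Cfsg.Agent.BpExc.Fr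
  Cfsg.Agent.BpExc.LangFr Cfsg.Agent.BpExc
open Cfsg.Agent.DL Cfsg.Agent.DL.PP Cfsg.Agent.DL.Ex Cfsg.Agent.DL.Tw
open Cfsg.Agent.Omega.ML.Ex.Lie2.DatF4 (good le_of_good)

theorem tab_B2C : ∀ q : Fin 8, (∀ i : Fin 2, 0 ≤ rt chevB2 q i) → (∀ i : Fin 2, (q : ℕ) ≠ chevB2.simple i) →
    good chevB2 q 5 4 = true := by decide +kernel

theorem pos_B2C : (∀ i : Fin 2, 0 ≤ rt chevB2 5 i) ∧ ∀ i : Fin 2, 0 ≤ rt chevB2 4 i := by decide +kernel

theorem commGen_B2 {K : Type*} [Field K] (hK : ∃ c : K, c ≠ 0 ∧ c ≠ 1) :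
    Omega.EH3.Kf.Lev.CommGen (CoxeterMatrix.B 2).toCoxeterSystem tyB2.isCartan
      (fun x => (XV chevB2 2 K x).subgroupOf (chevB2.group K)) := by
  have hp := tyB2
  set cs := (CoxeterMatrix.B 2).toCoxeterSystem with hcs
  set Xr : (Fin 2 → ℤ) → Subgroup ↥(chevB2.group K) := fun x => (XV chevB2 2 K x).subgroupOf (chevB2.group K) with hXr
  set U := RGD.Sup Xr (RGD.Pos cs hp.isCartan) with hU
  have hpos : ∀ r, r < chevB2.nroots → (∀ i : Fin 2, 0 ≤ rt chevB2 r i) →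
      chevB2.rootSubgroup K r ≤ U.map (chevB2.group K).subtype := by
    intro r hr h0
    have h1 : Xr (vec chevB2 2 r) ≤ U := RGD.le_Sup ⟨isRoot_vec hp cs hr, fun i => h0 i⟩
    have h2 := Subgroup.map_mono (f := (chevB2.group K).subtype) h1
    rw [hXr] at h2
    simp only [Subgroup.subgroupOf_map_subtype] at h2
    rwa [inf_eq_left.2 (XV_le_group hp _), XV_vec hp K hr] at h2
  intro x hx h0 hns
  obtain ⟨q, hq, rfl⟩ := (isRoot_iff hp cs x).1 hx
  have h5 := tab_B2C ⟨q, hq⟩ (fun i => h0 i) (fun i he => hns i (by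
    rw [← vec_simple hp i]
    exact congrArg (vec chevB2 2) he))
  have h1' : 5 < chevB2.nroots := by decide
  have h2' : 4 < chevB2.nroots := by decide
  have h6 := le_of_good hp h5 h1' h2' hK (hpos _ h1' pos_B2C.1) (hpos _ h2' pos_B2C.2)
  rintro ⟨g, hgG⟩ hg
  have h8 := h6 (show g ∈ chevB2.rootSubgroup K q by rw [← XV_vec hp K hq]; exact hg)
  rw [← Subgroup.map_commutator] at h8
  obtain ⟨y, hy, e⟩ := h8
  rwa [← show y = ⟨g, hgG⟩ from Subtype.ext e]

variable {k : Type} [Field k] [IsAlgClosed k]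

/-- **`HN` for `B₂(q)`**, `q = p ^ e ≥ 4` -/
theorem hn_B2' {p : ℕ} [Fact p.Prime] [CharP k p] (hk : LocFin k) {e : ℕ} (he : 0 < e) (h2 : 2 ≤ e) :
    HN (chev (p := p) tyB2 hk he) := by
  obtain ⟨a, -, h1, h3, -⟩ := hn2_exists_two (K := ↥(levF p k e)) (by rw [hn2_card_levF he]; exact hn2_four_le h2)
  exact hn_chev_of_commGen tyB2 hk he (commGen_B2 ⟨a, h1, h3⟩)

variable [CharP k 2]

theorem hn_B2 (hk : LocFin k) {e : ℕ} (he : 0 < e) (h2 : 2 ≤ e) : HN (chev (p := 2) tyB2 hk he) := hn_B2' hk he h2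

variable {F : Type} [Field F] [Fintype F] (f : F →+* k) {e : ℕ} (hF : Fintype.card F = 2 ^ e) (he : 0 < e)

include hF he in
theorem over_B2 : Over (frobA tyB2.inList 2 e) ⊤ (TT chevB2 k) (emb tyB2.inList f) 1 := by
  have h := over_split (p := 2) tyB2 f hF invC_B2
  rwa [Nat.coprime_two_left.2 (Mn.odd_two_pow_sub_one he)] at h

include hF he in
/-- **`Sp₄(q) = G^F`** for the tabulated group -/
theorem emb_B2C [CharP F 2] :
    Emb (frobA tyB2.inList 2 e) ⊤ (TT chevB2 k) ((emb tyB2.inList f).comp (toCh F)) 1 := by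
  have O := over_B2 f hF he
  refine Emb.of_surj (O.inj.comp toCh_inj) (fun s => O.mem _) fun y hy => ?_
  rw [← O.range_eq] at hy
  obtain ⟨s, rfl⟩ := hy
  obtain ⟨t, rfl⟩ := toCh_surj s
  exact ⟨t, rfl⟩

end Tab

end Cfsg.Agent.ODD.C2
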