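import Cfsg.Agent.ODD.C2.OmE
import Cfsg.Agent.ODD.C2.OmD
import Cfsg.Agent.DL.Tw.Gr
import Cfsg.Agent.ODD.Cov.Basic

/-!
# `OddRat` for `PΩ^±_{2m}(q)`, `q` even (helper1)

**`embP`**, **`embM`** (`Ω^± = G^F` exactly), **`oddRat_plus`**, **`oddRat_minus`**.
-/

set_option autoImplicit false
set_option linter.unusedSectionVars false

namespace Cfsg.Agent.ODD.C2

open Cfsg.Agent.Nodes Cfsg.Agent.DL

theorem isD (n : ℕ) : Om.IsD (mnD n) := ⟨mnD_μ, mnD_wt⟩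

section Emb

variable {n : ℕ} {W : Type} [Group W] [Finite W] (cs : CoxeterSystem (TypeD.M n) W) {k : Type} [Field k] [CharP k 2]
  [IsAlgClosed k] {F : Type} [Field F] [Fintype F] (f : F →+* k) {e : ℕ}

include f

theorem embP (hF : Fintype.card F = 2 ^ e) (hn : 1 ≤ n) :
    ∃ ι : Omega F (quadFormPlus (n + 2) F) →* GL (Fin (n + 2) × Bool) k,
      Emb (1 * frA _ k e) ((mnD n).G k cs (TypeD.isCartan n)) ((mnD n).τ k).range ι 1 :=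
  (isD n).embP syD hF f hn

theorem embM (hF : Fintype.card F = 2 ^ e) (hn : 1 ≤ n) {a b : F}
    (hab : ∀ z₁ z₂ : F, z₁ ^ 2 + a * z₁ * z₂ + b * z₂ ^ 2 = 0 → z₁ = 0 ∧ z₂ = 0) :
    ∃ ι : Omega F (quadFormMinus (n + 1) F a b) →* GL (Fin (n + 2) × Bool) k,
      Emb (MulAut.conj (pm k (swD n)) * frA _ k e) ((mnD n).G k cs (TypeD.isCartan n)) ((mnD n).τ k).range ι 1 :=
  (isD n).embM hF syD f hn hab

end Emb

variable (F : Type) [Field F] [Fintype F] [CharP F 2]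

theorem oddRat_omP (n : ℕ) (hn : 1 ≤ n) : OddRat (Omega F (quadFormPlus (n + 2) F)) := by
  obtain ⟨e, -, hF⟩ := FiniteField.card F 2
  obtain ⟨-, _, hk⟩ := Tw.setup' Nat.prime_two e.ne_zero hF
  have := finD n
  obtain ⟨ι, E⟩ := embP (csD n) (algebraMap F (AlgebraicClosure F)) hF hn
  exact (goodP (Ex.lf_of_locFin hk) e.2).oddRat_emb E odd_one

theorem oddRat_omM (n : ℕ) (hn : 1 ≤ n) {a b : F}
    (hab : ∀ z₁ z₂ : F, z₁ ^ 2 + a * z₁ * z₂ + b * z₂ ^ 2 = 0 → z₁ = 0 ∧ z₂ = 0) :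
    OddRat (Omega F (quadFormMinus (n + 1) F a b)) := by
  obtain ⟨e, -, hF⟩ := FiniteField.card F 2
  obtain ⟨-, _, hk⟩ := Tw.setup' Nat.prime_two e.ne_zero hF
  have := finD n
  obtain ⟨ι, E⟩ := embM (csD n) (algebraMap F (AlgebraicClosure F)) hF hn hab
  exact (goodM (Ex.lf_of_locFin hk) e.2).oddRat_emb E odd_one

/-- **`PΩ⁺_{2m}(q)`, `q` even** -/
theorem oddRat_plus (m : ℕ) (hm : 4 ≤ m) : OddRat (POmega F (quadFormPlus m F)) := by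
  obtain ⟨n, rfl⟩ : ∃ n, m = n + 2 := ⟨m - 2, by omega⟩
  exact Cv.oddRat_of_surj (QuotientGroup.mk' _) (QuotientGroup.mk'_surjective _) (oddRat_omP F n (by omega))

/-- **`PΩ⁻_{2m}(q)`, `q` even** -/
theorem oddRat_minus (m : ℕ) (a b : F) (hm : 4 ≤ m)
    (hab : ∀ z₁ z₂ : F, z₁ ^ 2 + a * z₁ * z₂ + b * z₂ ^ 2 = 0 → z₁ = 0 ∧ z₂ = 0) :
    OddRat (POmega F (quadFormMinus (m - 1) F a b)) := by
  obtain ⟨n, rfl⟩ : ∃ n, m = n + 2 := ⟨m - 2, by omega⟩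
  exact Cv.oddRat_of_surj (QuotientGroup.mk' _) (QuotientGroup.mk'_surjective _) (oddRat_omM F n (by omega) hab)

end Cfsg.Agent.ODD.C2
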