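import Cfsg.Agent.ODD.C2.E6cSt
import Cfsg.Agent.ODD.Cov.Two
import Cfsg.Agent.DL.Ex.Fin

/-!
# The triple covers of `E₆(q)` and `²E₆(q)`, `q` even (helper22)

`h6_two`, `ht_two` : the hypotheses `h6`, `ht` of `ODD.Cv.rowO_two`.
-/

set_option autoImplicit false
set_option maxHeartbeats 400000
set_option linter.unusedSectionVars false

namespace Cfsg.Agent.ODD.C2

open CoxeterSystem Cfsg.Lie Cfsg.Agent.ChevalleyStructure Cfsg.Agent.ChevalleyStructure.CoxeterGeom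
  Cfsg.Agent.ChevalleyStructure.CoxeterGeomTypes Cfsg.Agent.Tits.Roots Cfsg.Agent.Nodes Cfsg.Agent.Nodes.RGDChev
  Cfsg.Agent.Nodes.Coroot Cfsg.Agent.DL Cfsg.Agent.KFacts.RgdChevCoord Cfsg.Agent.GpExc.Field
open Cfsg.Agent.H493.TwE6Alg (dua isRoot_dua dua_sr dua_two dua_vec tau coe_tau embT coe_embT)

namespace E6c

attribute [local instance] finW6

variable {k : Type} [Field k] [CharP k 2]

/-- the scalar matrices -/
noncomputable def om (w : kˣ) : GL (Fin 27) k := mn6.τ k (coch ![0, 0, 0, 0, 0, 0, 1] w)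

theorem mu_last : ∀ a : Fin 27, ∑ j, mn6.μ a j * (![0, 0, 0, 0, 0, 0, 1] : Fin 7 → ℤ) j = 1 := by decide +kernel

theorem om_comm (w : kˣ) (y : GL (Fin 27) k) : y * om w = om w * y := by
  refine Units.ext (Matrix.ext fun a b => ?_)
  rw [Units.val_mul, Units.val_mul, om, mn6.coe_τ, Matrix.mul_diagonal, Matrix.diagonal_mul, Ex.chr_coch, Ex.chr_coch,
    mu_last, mu_last, mul_comm]

theorem om_order {w : kˣ} (hw : orderOf w = 3) : orderOf (om w) = 3 := by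
  rw [om, ← MonoidHom.comp_apply, orderOf_injective _ fun a b h => ?_, hw]
  simpa [coch_apply] using congrFun (mn6.τ_inj k h) 6

theorem om_eq {w : kˣ} (hw : orderOf w = 3) : om w = mn6.τ k (coch (mn6.cw 0) w) * mn6.τ k (coch (mn6.cw 5) (w ^ 2)) *
    (mn6.τ k (coch (mn6.cw 2) (w ^ 2)) * mn6.τ k (coch (mn6.cw 4) w)) := by
  rw [om, ← map_mul, ← map_mul, ← map_mul]
  refine congrArg _ (funext fun j => ?_)
  simp only [Pi.mul_apply, coch_apply, ← zpow_natCast, ← zpow_mul, ← zpow_add]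
  rw [zpow_eq_zpow_iff_modEq, hw]
  revert j
  decide +kernel

variable [IsAlgClosed k] {α : MulAut (GL (Fin 27) k)} {g : (Fin 6 → ℤ) → Fin 6 → ℤ} {B : Matrix (Fin 7) (Fin 7) ℤ}
  {e : ℕ} {θ : chevE6.SteinbergGroup k →* chevE6.group k}

variable (k) in
theorem exists_om : ∃ w : kˣ, orderOf w = 3 := by
  have : NeZero ((3 : ℕ) : k) := ⟨by rw [Ne, CharP.cast_eq_zero_iff k 2]; norm_num⟩
  obtain ⟨z, hz⟩ := HasEnoughRootsOfUnity.exists_primitiveRoot k 3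
  exact ⟨(hz.isUnit three_ne_zero).unit, by rw [← orderOf_units, IsUnit.unit_spec, ← hz.eq_orderOf]⟩

theorem F_x (S : mn6.Sy cs6 hc6 α g B) {a : Fin 6 → ℤ} (ha : IsRoot cs6 hc6 a) (u : k) :
    (α * frA (Fin 27) k e) (mn6.x k a u) = mn6.x k (g a) (u ^ 2 ^ e) := by
  rw [MulAut.mul_apply, frA_apply, mn6.frob_x ha, S.x a ha]

theorem compat (S : mn6.Sy cs6 hc6 α g B) (T : Th k θ) {F' : MulAut (chevE6.group k)}
    (h : ∀ r < chevE6.nroots, ∀ u, F' (xc hp6 (vec chevE6 6 r) u) = xc hp6 (g (vec chevE6 6 r)) (u ^ 2 ^ e))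
    (s : chevE6.SteinbergGroup k) : ∃ s', psi6 k s' = (α * frA (Fin 27) k e) (psi6 k s) ∧ θ s' = F' (θ s) := by
  let H : Subgroup (chevE6.SteinbergGroup k) :=
    { carrier := {s | ∃ s', psi6 k s' = (α * frA (Fin 27) k e) (psi6 k s) ∧ θ s' = F' (θ s)}
      one_mem' := ⟨1, by simp only [map_one], by simp only [map_one]⟩
      mul_mem' := fun ⟨a, h1, h2⟩ ⟨b, h3, h4⟩ => ⟨a * b, by simp only [map_mul, h1, h3], by simp only [map_mul, h2, h4]⟩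
      inv_mem' := fun ⟨a, h1, h2⟩ => ⟨a⁻¹, by simp only [map_inv, h1], by simp only [map_inv, h2]⟩ }
  refine st_ind (H := H) (fun r hr t => ?_) s
  obtain ⟨r', hr', h1⟩ := (isRoot_iff hp6 cs6 _).1 (S.root _ (root6 hr))
  exact ⟨chevE6.stGen k r' (t ^ 2 ^ e), by rw [psi6_gen hr, psi6_gen hr', F_x S (root6 hr), h1],
    by rw [T.gen r hr, T.gen r' hr', h r hr, h1]⟩

theorem Th.odd (T : Th k θ) (hk : ∀ a : k, ∃ j, 0 < j ∧ a ^ 2 ^ j = a) (s : chevE6.SteinbergGroup k) (hs : θ s = 1) :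
    ∃ n, Odd n ∧ psi6 k s ^ n = 1 := by
  obtain ⟨c, hc⟩ := T.tor s hs
  obtain ⟨n, hn, h⟩ := odd_tor hk c
  exact ⟨n, hn, by rw [← hc, ← map_pow, h, map_one]⟩

theorem single (S : mn6.Sy cs6 hc6 α g B) {a : Fin 6 → ℤ} (ha : IsRoot cs6 hc6 a) (hg : g a = a) {u : k}
    (hu : u ^ 2 ^ e = u) : mn6.x k a u ∈ mn6.G k cs6 hc6 ∧ (α * frA (Fin 27) k e) (mn6.x k a u) = mn6.x k a u ∧
      mn6.x k a u ^ 2 = 1 :=
  ⟨mn6.x_mem_G ha u, by rw [F_x S ha, hg, hu], by rw [sq, x_sq mn6 ha]⟩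

theorem pair {a : Fin 6 → ℤ} (ha : IsRoot cs6 hc6 a) (h0 : 0 ≤ cpr cs6 hc6 a (dua a)) {u : k}
    (hu : (u ^ 2 ^ e) ^ 2 ^ e = u) {y : GL (Fin 27) k} (hy : y = mn6.x k a u * mn6.x k (dua a) (u ^ 2 ^ e)) :
    y ∈ mn6.G k cs6 hc6 ∧ (gm6 k * frA (Fin 27) k e) y = y ∧ y ^ 2 = 1 := by
  have hb := isRoot_dua cs6 a ha
  have hc : Commute (mn6.x k a u) (mn6.x k (dua a) (u ^ 2 ^ e)) :=
    commutatorElement_eq_one_iff_commute.1 (mn6.comm_nonneg ha hb h0 _ _)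
  subst hy
  exact ⟨mul_mem (mn6.x_mem_G ha _) (mn6.x_mem_G hb _),
    by rw [map_mul, F_x (sy6 k) ha, F_x (sy6 k) hb, dua_two, hu, hc.eq],
    by rw [hc.mul_pow, sq, sq, x_sq mn6 ha, x_sq mn6 hb, one_mul]⟩

theorem hw_mem {H : Subgroup (GL (Fin 27) k)} {P : Subfield k} {i : Fin 6}
    (h : ∀ a, a = sr i ∨ a = -sr i → ∀ u ∈ P, mn6.x k a u ∈ H) {s : kˣ} (hs : (s : k) ∈ P) :
    mn6.τ k (coch (mn6.cw i) s) ∈ H := by
  rw [← hw_sr mn6 cs6 hc6]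
  exact mul_mem (mul_mem (mul_mem (h _ (.inl rfl) _ hs) (h _ (.inr rfl) _ (by simpa using hs))) (h _ (.inl rfl) _ hs))
    (mul_mem (mul_mem (h _ (.inl rfl) _ P.one_mem) (h _ (.inr rfl) _ P.one_mem)) (h _ (.inl rfl) _ P.one_mem))

theorem root_pm {i : Fin 6} {a : Fin 6 → ℤ} (h : a = sr i ∨ a = -sr i) : IsRoot cs6 hc6 a := by
  rcases h with rfl | rfl
  exacts [isRoot_sr _ _ i, (isRoot_sr _ _ i).neg]

theorem om_split {H : Subgroup (GL (Fin 27) k)}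
    (hH : ∀ y ∈ mn6.G k cs6 hc6, (1 * frA (Fin 27) k e) y = y → y ^ 2 = 1 → y ∈ H) {w : kˣ} (hw : orderOf w = 3)
    (h3 : 3 ∣ 2 ^ e - 1) : om w ∈ H := by
  have h1 : (w : k) ∈ Ex.levF 2 k e := by
    obtain ⟨c, hc⟩ := h3
    rw [Ex.mem_levF, ← Nat.sub_add_cancel (Nat.one_le_two_pow (n := e)), hc, ← Units.val_pow_eq_pow_val, pow_succ,
      pow_mul, ← hw, pow_orderOf_eq_one, one_pow, one_mul]
  have h2 : ∀ i (s : kˣ), (s : k) ∈ Ex.levF 2 k e → mn6.τ k (coch (mn6.cw i) s) ∈ H := fun i s hs =>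
    hw_mem (fun a ha u hu =>
      have h := single mn6.sy_one (root_pm ha) rfl (Ex.mem_levF.1 hu)
      hH _ h.1 h.2.1 h.2.2) hs
  have h4 : ((w ^ 2 : kˣ) : k) ∈ Ex.levF 2 k e := pow_mem h1 2
  rw [om_eq hw]
  exact mul_mem (mul_mem (h2 _ _ h1) (h2 _ _ h4)) (mul_mem (h2 _ _ h4) (h2 _ _ h1))

theorem tw_mem {H : Subgroup (GL (Fin 27) k)}
    (hH : ∀ y ∈ mn6.G k cs6 hc6, (gm6 k * frA (Fin 27) k e) y = y → y ^ 2 = 1 → y ∈ H) {i j : Fin 6}
    (hij : dua (sr i) = sr j) (h0 : cartanOf chevE6 6 j i = 0) {s : kˣ} (hs : (s ^ 2 ^ e) ^ 2 ^ e = s) :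
    mn6.τ k (coch (mn6.cw i) s) * mn6.τ k (coch (mn6.cw j) (s ^ 2 ^ e)) ∈ H := by
  have hl : ∀ u : k, u ∈ Ex.levF 2 k (e + e) ↔ (u ^ 2 ^ e) ^ 2 ^ e = u := fun u => by
    rw [Ex.mem_levF, pow_add, pow_mul]
  have hc : ∀ a, a = sr i ∨ a = -sr i → ∀ b, b = sr i ∨ b = -sr i → 0 ≤ cpr cs6 hc6 a (dua b) := by
    have h1 : cpr cs6 hc6 (sr i) (sr j) = 0 := by rw [cpr_sr, Ex.pairing_sr', h0]
    have h2 := isRoot_sr cs6 hc6 j
    rintro _ (rfl | rfl) _ (rfl | rfl) <;>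
      simp only [map_neg, hij, cpr_neg_right cs6 hc6 _ h2, cpr_neg cs6 hc6 _ h2, h1, neg_zero, le_refl]
  have h1 := mul_map_mem (gm6 k * frA (Fin 27) k e) (H := H)
    (A := {y | ∃ a, (a = sr i ∨ a = -sr i) ∧ ∃ u ∈ Ex.levF 2 k (e + e), y = mn6.x k a u}) (by
      rintro _ ⟨a, ha, u, -, rfl⟩ _ ⟨b, hb, v, -, rfl⟩
      rw [F_x (sy6 k) (root_pm hb)]
      exact commutatorElement_eq_one_iff_commute.1
        (mn6.comm_nonneg (root_pm ha) (isRoot_dua cs6 b (root_pm hb)) (hc a ha b hb) _ _)) (by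
      rintro _ ⟨a, ha, u, hu, rfl⟩
      have h := pair (root_pm ha) (hc a ha a ha) ((hl u).1 hu) rfl
      rw [F_x (sy6 k) (root_pm ha)]
      exact hH _ h.1 h.2.1 h.2.2)
    (hw_mem (i := i) (fun a ha u hu => Subgroup.subset_closure (by exact ⟨a, ha, u, hu, rfl⟩))
      ((hl s).2 (congrArg Units.val hs)))
  have hr := isRoot_sr cs6 hc6 i
  have h2 : (gm6 k * frA (Fin 27) k e) (mn6.τ k (coch (mn6.cw i) s)) = mn6.τ k (coch (mn6.cw j) (s ^ 2 ^ e)) := by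
    rw [← hw_sr mn6 cs6 hc6, ← hw_sr mn6 cs6 hc6, hw, hw]
    simp only [map_mul, F_x (sy6 k) hr, F_x (sy6 k) hr.neg, map_neg, hij, one_pow, Units.val_pow_eq_pow_val, ← inv_pow]
  rwa [h2] at h1

theorem om_tw {H : Subgroup (GL (Fin 27) k)}
    (hH : ∀ y ∈ mn6.G k cs6 hc6, (gm6 k * frA (Fin 27) k e) y = y → y ^ 2 = 1 → y ∈ H) {w : kˣ} (hw : orderOf w = 3)
    (h3 : 3 ∣ 2 ^ e + 1) : om w ∈ H := by
  have h1 : w ^ 2 ^ e = w ^ 2 := by
    rw [pow_eq_pow_iff_modEq, hw]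
    unfold Nat.ModEq
    omega
  have h2 : (w ^ 2) ^ 2 ^ e = w := by
    rw [← pow_mul, mul_comm, pow_mul, h1, ← pow_mul, show 2 * 2 = orderOf w + 1 by omega, pow_succ, pow_orderOf_eq_one,
      one_mul]
  have h4 := tw_mem hH (dua_sr 0) (by decide +kernel) (s := w) (by rw [h1, h2])
  have h5 := tw_mem hH (dua_sr 2) (by decide +kernel) (s := w ^ 2) (by rw [h2, h1])
  rw [h1] at h4
  rw [h2] at h5
  rw [om_eq hw]
  exact mul_mem h4 h5

theorem tau_xc {r : ℕ} (hr : r < chevE6.nroots) (u : k) :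
    tau k 2 e (xc hp6 (vec chevE6 6 r) u) = xc hp6 (dua (vec chevE6 6 r)) (u ^ 2 ^ e) := by
  have hr' : r < 72 := hr
  have h1 : ((BpExc.EmbInst.ep ⟨r, hr'⟩ : ℤ) : k) = 1 := by
    rcases Int.eq_one_or_neg_one_of_mul_eq_one (BpExc.EmbInst.eps_sq ⟨r, hr'⟩) with h | h <;> rw [h] <;>
      simp [CharTwo.neg_eq]
  apply Subtype.ext
  rw [coe_tau, coe_xc hp6 hr, dua_vec ⟨r, hr'⟩, coe_xc hp6 (TwE6Basic.rho ⟨r, hr'⟩).2]
  refine (BpExc.EmbInst.sg_ep _ ⟨r, hr'⟩ u).trans ?_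
  rw [h1, one_mul, iterateFrobenius_def]

theorem odd_gcd (m : ℕ) : Odd (Nat.gcd 3 m) := Odd.of_dvd_nat (by decide) (Nat.gcd_dvd_left 3 m)

theorem tw_single : ∀ r ∈ [46, 25, 39, 32], r < chevE6.nroots ∧ dua (vec chevE6 6 r) = vec chevE6 6 r := by
  decide +kernel

theorem tw_pair : ∀ rs ∈ [(56, 36), (15, 35), (42, 37), (29, 34)], rs.1 < chevE6.nroots ∧ rs.2 < chevE6.nroots ∧
    dua (vec chevE6 6 rs.1) = vec chevE6 6 rs.2 ∧ cn6 rs.2 rs.1 = 0 := by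
  decide +kernel

end E6c

open E6c

attribute [local instance] finW6

/-- **The triple cover of `E₆(q)`, `q` even.** -/
theorem h6_two (X : Type) [Group X] [Finite X] (F : Type) [Field F] [Fintype F] [CharP F 2] (hX : IsQuasisimple X)
    (h3 : 3 ∣ Fintype.card F - 1) (hZ : Nat.card (Subgroup.center X) = 3)
    (φ : X ⧸ Subgroup.center X ≃* Lie.chevE6.group F) : OddRat X := by
  obtain ⟨e, -, hF⟩ := FiniteField.card F 2
  obtain ⟨-, _, hl⟩ := Tw.setup' Nat.prime_two e.pos.ne' hF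
  have hk := Ex.lf_of_locFin (p := 2) hl
  obtain ⟨θ, T⟩ := exists_th (AlgebraicClosure F)
  obtain ⟨w, hw⟩ := exists_om (AlgebraicClosure F)
  have O := Ex.over_E6 (algebraMap F (AlgebraicClosure F)) hF hp6
  have := (mn6.dat cs6 hc6 hk e.pos).amb.finite_GF (mn6.G _ cs6 hc6)
  refine oddRat_cover (good6 hk e.pos).oddRat (psi6 _) θ _ O.inj (odd_gcd _)
    (fun y hy => O.mem_range.1 (O.pow_mem ⟨y, trivial, hy⟩)) T.ker T.cen (T.odd hk) (fun _ => pow_mem_range hk)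
    (compat mn6.sy_one T fun r _ u => Ex.frobA_xc hp6 e _ u) (fun H hH => ?_) (om_order hw) (om_comm w)
    (fun H hH => om_split hH hw (hF ▸ h3)) (j := 0) (Cv.mb_e6.mono (Nat.gcd_dvd_left _ _)) hX (hZ ▸ by decide) φ
  have h1 : chevE6.group F ≤ H.map (chevE6.group F).subtype := by
    rw [Elts.group_le_iff hp6.inList]
    intro r hr t
    have h := single (e := e) mn6.sy_one (root6 hr) rfl (u := algebraMap F (AlgebraicClosure F) t)
      (by rw [← map_pow, ← hF, FiniteField.pow_card])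
    rw [← psi6_gen hr] at h
    exact ⟨xc hp6 (vec chevE6 6 r) t, hH _ _ h.1 h.2.1 h.2.2 (by rw [T.gen r hr, BpExc.TowChev.emb_xc]),
      coe_xc hp6 hr t⟩
  refine eq_top_iff.2 fun y _ => ?_
  obtain ⟨z, hz, h2⟩ := h1 y.2
  rwa [← Subtype.ext h2]

/-- **The triple cover of `²E₆(q)`, `q` even.** -/
theorem ht_two (X : Type) [Group X] [Finite X] (F : Type) [Field F] [Fintype F] [hc : CharP F 2] (q : ℕ)
    (hX : IsQuasisimple X) (hq : IsPrimePow q) (hF : Fintype.card F = q ^ 2) (h3 : 3 ∣ q + 1)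
    (hZ : Nat.card (Subgroup.center X) = 3) (φ : X ⧸ Subgroup.center X ≃* Lie.twistedE6 F q) : OddRat X := by
  obtain ⟨p, e, _, hp, _, he, hqe, hl⟩ := Tw.setup hq two_ne_zero hF
  obtain rfl : 2 = p := CharP.eq F hc hp
  have hk := Ex.lf_of_locFin (p := 2) hl
  obtain ⟨θ, T⟩ := exists_th (AlgebraicClosure F)
  obtain ⟨w, hw⟩ := exists_om (AlgebraicClosure F)
  have O := Tw.emb_E6 (algebraMap F (AlgebraicClosure F)) hqe hq hF
  have := (mn6.datT hk he (sy6 _) (Mn.fin_pm_it _)).amb.finite_GF (mn6.G _ cs6 hc6)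
  refine oddRat_cover (goodT6 hk he).oddRat (psi6 _) θ _ O.inj (odd_gcd _)
    (fun y hy => O.pow y ⟨trivial, hy⟩) T.ker T.cen (T.odd hk) (fun _ => pow_mem_range hk)
    (compat (sy6 _) T fun r hr u => tau_xc hr u) (fun H hH => ?_) (om_order hw) (om_comm w)
    (fun H hH => om_tw hH hw (hqe ▸ h3)) (j := 2)
    ((Cv.mb_tw hq hF).mono (Nat.mul_dvd_mul_right (Nat.gcd_dvd_left _ _) _)) hX (hZ ▸ by decide) φ
  have h1 : twistedE6 F q ≤ H.map (twistedE6 F q).subtype := by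
    rw [TwE6Basic.twisted_le_iff]
    refine ⟨fun t ht r hr => ?_, fun t rs hr => ?_⟩
    · obtain ⟨h2, h4⟩ := tw_single r hr
      have h := single (e := e) (sy6 _) (root6 h2) h4 (u := algebraMap F (AlgebraicClosure F) t)
        (by rw [← map_pow, ← hqe, ht])
      rw [← psi6_gen h2] at h
      exact ⟨⟨_, TwE6Basic.single_mem ht hr⟩, hH _ _ h.1 h.2.1 h.2.2 (Subtype.ext (by
        rw [T.gen r h2, coe_xc hp6 h2, coe_embT]
        exact (glMap_xG _ _ r t).symm)), rfl⟩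
    · obtain ⟨h2, h4, h5, h6⟩ := tw_pair rs hr
      have h := pair (e := e) (root6 h2) (by rw [h5, cpr6 h4, h6]) (u := algebraMap F (AlgebraicClosure F) t)
        (by rw [← map_pow, ← map_pow, ← pow_mul, ← hqe, ← sq, ← hF, FiniteField.pow_card]) rfl
      rw [h5, ← psi6_gen h2, ← psi6_gen h4, ← map_mul] at h
      exact ⟨⟨_, TwE6Basic.pair_mem t hr⟩, hH _ _ h.1 h.2.1 h.2.2 (Subtype.ext (by
        rw [map_mul, T.gen _ h2, T.gen _ h4, Subgroup.coe_mul, coe_xc hp6 h2, coe_xc hp6 h4, coe_embT, map_mul,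
          glMap_xG, glMap_xG, map_pow, hqe])), rfl⟩
  refine eq_top_iff.2 fun y _ => ?_
  obtain ⟨z, hz, h2⟩ := h1 y.2
  rwa [← Subtype.ext h2]

end Cfsg.Agent.ODD.C2
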