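import Cfsg.Agent.ODD.C2.HN2Gen
import Cfsg.Agent.DL.Ex.Fin
import Cfsg.Agent.H969.TT.DichIso
import Cfsg.Agent.H396.CommTab2
import Cfsg.Agent.Mrg.Omega.ML.Ex.Lie2.Main

/-!
# `HN` for the split groups `F₄(q)` and `G₂(q)` (helper46)
-/

set_option autoImplicit false
set_option maxHeartbeats 400000
set_option linter.unusedSectionVars false

namespace Cfsg.Agent.ODD.C2

open CoxeterSystem Cfsg Cfsg.Lie Cfsg.Lie.ChevalleyDatum
open Cfsg.Agent.ChevalleyStructure Cfsg.Agent.ChevalleyStructure.Elts Cfsg.Agent.ChevalleyStructure.CoxeterGeom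
  Cfsg.Agent.ChevalleyStructure.CoxeterGeomTypes Cfsg.Agent.ChevalleyStructure.NPerm
open Cfsg.Agent.Tits.Roots Cfsg.Agent.Tits.Core Cfsg.Agent.Nodes Cfsg.Agent.Nodes.Reps Cfsg.Agent.Nodes.BNOf
  Cfsg.Agent.Nodes.RGDChev Cfsg.Agent.Nodes.Bruhat
open Cfsg.Agent.KFacts.RgdField Cfsg.Agent.KFacts.RgdChevCoord Cfsg.Agent.BpExc.TorChev
open Cfsg.Agent.GpExc.Field Cfsg.Agent.BpExc.Tow Cfsg.Agent.BpExc.TowChev Cfsg.Agent.BpExc.Fr
  Cfsg.Agent.BpExc.LangFr Cfsg.Agent.LangThm Cfsg.Agent.BpExc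
open Cfsg.Agent.DL Cfsg.Agent.DL.PP Cfsg.Agent.DL.Ex

variable {p : ℕ} [Fact p.Prime] {k : Type} [Field k] [CharP k p] [IsAlgClosed k]

/-- `HN` for a split tabulated Chevalley group from `CommGen` over the finite field -/
theorem hn_chev_of_commGen {D : ChevalleyDatum} {l : ℕ} {M : CoxeterMatrix (Fin l)} (hp : IsType D l M)
    (hk : LocFin k) {e : ℕ} (he : 0 < e)
    (hC : Omega.EH3.Kf.Lev.CommGen M.toCoxeterSystem hp.isCartan (XX D l ↥(levF p k e))) :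
    HN (chev (p := p) hp hk he) := by
  refine hn_of_gen (chev (p := p) hp hk he) (fun _ u => u ^ p ^ e) (fun a _ u => frobA_xc hp e a u) _
    (fun a ha => ?_) (H969.TT.DichIso.map_commGen (emb hp.inList (levF p k e).subtype) hC)
  obtain ⟨r, hr, rfl⟩ := (isRoot_iff hp _ a).1 ha
  show (XX D l ↥(levF p k e) _).map _ = XX D l k _ ⊓ fix (frobA hp.inList p e)
  apply le_antisymm
  · rintro _ ⟨y, hy, rfl⟩
    obtain ⟨u, rfl⟩ := (HX.mem_XX_xc hp hr).1 hy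
    rw [emb_xc]
    refine ⟨(HX.mem_XX_xc hp hr).2 ⟨_, rfl⟩, mem_fix.2 ?_⟩
    rw [frobA_xc]
    exact congrArg _ (mem_levF.1 u.2)
  · rintro y ⟨h1, h2⟩
    obtain ⟨u, rfl⟩ := (HX.mem_XX_xc hp hr).1 h1
    have h3 : u ∈ levF p k e := mem_levF.2 (xc_inj hp hr ((frobA_xc hp e _ u).symm.trans (mem_fix.1 h2)))
    exact ⟨xc hp _ ⟨u, h3⟩, (HX.mem_XX_xc hp hr).2 ⟨_, rfl⟩, emb_xc _ _ _ _⟩

theorem hn2_card_levF {e : ℕ} (he : 0 < e) : Nat.card ↥(levF p k e) = p ^ e := by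
  rw [← card_pow_eq (k := k) he]
  exact Nat.card_congr (Equiv.subtypeEquivRight fun _ => mem_levF)

theorem hn2_exists_two {K : Type} [Field K] (h : 4 ≤ Nat.card K) :
    ∃ a a' : K, a ≠ 0 ∧ a ≠ 1 ∧ a' ≠ 0 ∧ a' ≠ 1 ∧ a ≠ a' := by
  classical
  have : Finite K := Nat.finite_of_card_ne_zero (by omega)
  have := Fintype.ofFinite K
  have h1 : 1 < (Finset.univ \ ({0, 1} : Finset K)).card := by
    have h2 := Finset.card_le_two (a := (0 : K)) (b := 1)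
    rw [Finset.card_univ_sdiff, ← Nat.card_eq_fintype_card]
    omega
  obtain ⟨a, ha, b, hb, h3⟩ := Finset.one_lt_card.1 h1
  simp only [Finset.mem_sdiff, Finset.mem_univ, Finset.mem_insert, Finset.mem_singleton, true_and, not_or] at ha hb
  exact ⟨a, b, ha.1, ha.2, hb.1, hb.2, h3⟩

/-- **`HN` for `F₄(q)`**, `q = p ^ e ≥ 4` -/
theorem hn_F4' (hp : IsType chevF4 4 CoxeterMatrix.F₄) (hk : LocFin k) {e : ℕ} (he : 0 < e) (h4 : 4 ≤ p ^ e) :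
    HN (chev (p := p) hp hk he) := by
  obtain ⟨a, -, h1, h2, -⟩ := hn2_exists_two (K := ↥(levF p k e)) (by rwa [hn2_card_levF he])
  exact hn_chev_of_commGen hp hk he (Omega.ML.Ex.Lie2.DatF4.commGen_F4 ⟨a, h1, h2⟩)

/-- **`HN` for `G₂(q)`**, `q = p ^ e ≥ 4` -/
theorem hn_G2' (hp : IsType chevG2 2 CoxeterMatrix.G₂) (hk : LocFin k) {e : ℕ} (he : 0 < e) (h4 : 4 ≤ p ^ e) :
    HN (chev (p := p) hp hk he) :=
  hn_chev_of_commGen hp hk he (H396.CommTab.commGen_G2 _ (hn2_exists_two (by rwa [hn2_card_levF he])))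

theorem hn2_four_le {e : ℕ} (h : 2 ≤ e) : 4 ≤ p ^ e :=
  calc 4 = 2 ^ 2 := rfl
    _ ≤ p ^ 2 := Nat.pow_le_pow_left (Fact.out : p.Prime).two_le 2
    _ ≤ p ^ e := Nat.pow_le_pow_right (Fact.out : p.Prime).pos h

theorem hn_F4 (hp : IsType chevF4 4 CoxeterMatrix.F₄) (hk : LocFin k) {e : ℕ} (he : 0 < e) (h2 : 2 ≤ e) :
    HN (chev (p := p) hp hk he) := hn_F4' hp hk he (hn2_four_le h2)

theorem hn_G2 (hp : IsType chevG2 2 CoxeterMatrix.G₂) (hk : LocFin k) {e : ℕ} (he : 0 < e) (h2 : 2 ≤ e) :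
    HN (chev (p := p) hp hk he) := hn_G2' hp hk he (hn2_four_le h2)

end Cfsg.Agent.ODD.C2
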