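import Cfsg.Agent.ODD.C2.MnFin
import Cfsg.Agent.ODD.C2.Cls
import Cfsg.Agent.ODD.C2.HN1
import Cfsg.Agent.ODD.C2.HN2Tw
import Cfsg.Agent.ODD.C2.HN2Chev
import Cfsg.Agent.ODD.Cov.Two

/-!
# ODD, characteristic two: the exceptional groups and the assembly (helper89)

`good_*` : the data of the exceptional groups are `Good`; `oddRat_*` : the rows; `two_of` : `BoxO.two` from the rows
of the orthogonal groups, of `F₄(2)` and of the covers of `E₆(q)`, `²E₆(q)`.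
-/

set_option autoImplicit false
set_option maxHeartbeats 400000

namespace Cfsg.Agent.ODD.C2

open CoxeterSystem Cfsg Cfsg.Lie Cfsg.Lie.ChevalleyDatum
open Cfsg.Agent.ChevalleyStructure Cfsg.Agent.ChevalleyStructure.Elts Cfsg.Agent.ChevalleyStructure.CoxeterGeom
  Cfsg.Agent.ChevalleyStructure.CoxeterGeomTypes Cfsg.Agent.ChevalleyStructure.NPerm
open Cfsg.Agent.Tits.Roots Cfsg.Agent.Tits.Core Cfsg.Agent.Nodes Cfsg.Agent.Nodes.Reps Cfsg.Agent.Nodes.BNOf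
  Cfsg.Agent.Nodes.RGDChev Cfsg.Agent.Nodes.Bruhat
open Cfsg.Agent.KFacts.RgdField Cfsg.Agent.KFacts.RgdChevCoord Cfsg.Agent.BpExc.TorChev
open Cfsg.Agent.GpExc.Field Cfsg.Agent.BpExc.Tow Cfsg.Agent.BpExc.TowChev Cfsg.Agent.BpExc.Fr
  Cfsg.Agent.BpExc.LangFr Cfsg.Agent.LangThm Cfsg.Agent.BpExc
open Cfsg.Agent.DL Cfsg.Agent.DL.PP Cfsg.Agent.DL.Ex Cfsg.Agent.DL.Tw

theorem tyG2 : IsType chevG2 2 CoxeterMatrix.G₂ := by simp [IsType, typeList]
theorem tyF4 : IsType chevF4 4 CoxeterMatrix.F₄ := by simp [IsType, typeList]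
theorem tyE6 : IsType chevE6 6 CoxeterMatrix.E₆ := by simp [IsType, typeList]
theorem tyE7 : IsType chevE7 7 CoxeterMatrix.E₇ := by simp [IsType, typeList]
theorem tyE8 : IsType chevE8 8 CoxeterMatrix.E₈ := by simp [IsType, typeList]

set_option backward.isDefEq.respectTransparency false in
theorem slE6 : ∀ i j : Fin 6, CoxeterMatrix.E₆ i j ≠ 4 ∧ CoxeterMatrix.E₆ i j ≠ 6 := by
  decide +kernel

set_option backward.isDefEq.respectTransparency false in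
theorem slE7 : ∀ i j : Fin 7, CoxeterMatrix.E₇ i j ≠ 4 ∧ CoxeterMatrix.E₇ i j ≠ 6 := by
  decide +kernel

set_option backward.isDefEq.respectTransparency false in
theorem slE8 : ∀ i j : Fin 8, CoxeterMatrix.E₈ i j ≠ 4 ∧ CoxeterMatrix.E₈ i j ≠ 6 := by
  decide +kernel

set_option backward.isDefEq.respectTransparency false in
theorem slD4 : ∀ i j : Fin 4, coxeterD4 i j ≠ 4 ∧ coxeterD4 i j ≠ 6 := by
  decide +kernel


theorem dot_single {l : ℕ} (b : Fin l → ℤ) (i : Fin l) : b ⬝ᵥ Pi.single i 1 = ((2 : ℕ) : ℤ) ^ 0 * b i := by simp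

section

variable {k : Type} [Field k] [CharP k 2] [IsAlgClosed k] (hk : LocFin k) {e : ℕ} (he : 0 < e)

theorem good_chev {D : ChevalleyDatum} {l : ℕ} {M : CoxeterMatrix (Fin l)} (hp : IsType D l M)
    (h : HN (chev (p := 2) hp hk he)) : Good (chev (p := 2) hp hk he) :=
  ⟨fun _ _ h => h, ⟨0, fun i => Pi.single i 1, dot_single⟩, h⟩

theorem good_sl {D : ChevalleyDatum} {l : ℕ} {M : CoxeterMatrix (Fin l)} (hp : IsType D l M)
    (h : ∀ i j, M i j ≠ 4 ∧ M i j ≠ 6) : Good (chev (p := 2) hp hk he) :=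
  good_chev hk he hp (hn_of_sl _ (fun _ _ h => h) h (e := e) fun _ _ => rfl)

theorem good_G2 (h2 : 2 ≤ e) : Good (chev (p := 2) tyG2 hk he) := good_chev hk he _ (hn_G2 _ hk he h2)
theorem good_F4 (h2 : 2 ≤ e) : Good (chev (p := 2) tyF4 hk he) := good_chev hk he _ (hn_F4 _ hk he h2)
theorem good_E6 : Good (chev (p := 2) tyE6 hk he) := good_sl hk he _ slE6
theorem good_E7 : Good (chev (p := 2) tyE7 hk he) := good_sl hk he _ slE7
theorem good_E8 : Good (chev (p := 2) tyE8 hk he) := good_sl hk he _ slE8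

theorem good_tE6 : Good (datE6 (p := 2) hk he) :=
  ⟨(qs_E6 hk he).qs, ⟨0, fun i => Pi.single i 1, dot_single⟩,
    hn_of_sl _ (qs_E6 hk he).qs slE6
      (e := e) fun _ _ => rfl⟩

theorem good_tD4 : Good (datD4 (p := 2) hk he) :=
  ⟨(qs_D4 hk he).qs, ⟨0, fun i => Pi.single i 1, dot_single⟩,
    hn_of_sl _ (qs_D4 hk he).qs slD4
      (e := e) fun _ _ => rfl⟩

theorem good_Sz {m : ℕ} (hm : 0 < m) : Good (datB2 hk m) :=
  ⟨(qs_B2 hk m).qs, ⟨0, fun i => Pi.single i 1, dot_single⟩, hn_Sz hk hm⟩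

theorem good_tF4 {m : ℕ} (hm : 0 < m) : Good (datF4 hk m) :=
  ⟨(qs_F4 hk m).qs, ⟨0, fun i => Pi.single i 1, dot_single⟩, hn_2F4 hk hm⟩

end

theorem Good.oddRat_over {k : Type} [Field k] [CharP k 2] {Y : Type} [Group Y] {N : Type} [Fintype N]
    [DecidableEq N] {ρ : Y →* GL N k} {F : MulAut Y} {G : Subgroup Y} [IsAlgClosed k] {D : Datum 2 ρ F G}
    (h : Good D) {S : Type*} [Group S] {T : Subgroup Y} {ι : S →* Y} {d : ℕ} (O : Over F G T ι d) (hd : Odd d) :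
    OddRat S :=
  have := D.amb.finite_GF G
  h.oddRat_sub O.hom O.hom_inj O.normal (odd_of_primes fun _ hr h1 h2 =>
    Odd.not_two_dvd_nat hd (h2 ▸ O.prime_dvd hr h1))

theorem exists_setup (F : Type) [Field F] [Fintype F] [CharP F 2] :
    ∃ e, 0 < e ∧ Fintype.card F = 2 ^ e ∧ CharP (AlgebraicClosure F) 2 ∧ LocFin (AlgebraicClosure F) := by
  obtain ⟨n, -, hn⟩ := FiniteField.card F 2
  obtain ⟨-, h1, h2⟩ := setup' Nat.prime_two n.ne_zero hn
  exact ⟨n, n.pos, hn, h1, h2⟩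

theorem exists_setup' (F : Type) [Field F] [Fintype F] [CharP F 2] {q j : ℕ} (hj : j ≠ 0)
    (hq : Fintype.card F = q ^ j) :
    ∃ e, 0 < e ∧ q = 2 ^ e ∧ CharP (AlgebraicClosure F) 2 ∧ LocFin (AlgebraicClosure F) := by
  obtain ⟨n, h0, hn, h1, h2⟩ := exists_setup F
  obtain ⟨e, -, rfl⟩ := (Nat.dvd_prime_pow Nat.prime_two).1 (show q ∣ 2 ^ n from hn ▸ hq ▸ dvd_pow_self q hj)
  refine ⟨e, Nat.pos_of_ne_zero ?_, rfl, h1, h2⟩
  rintro rfl
  have := Fintype.one_lt_card (α := F)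
  simp [hq] at this

theorem odd_gcd_left {a : ℕ} (ha : Odd a) (b : ℕ) : Odd (Nat.gcd a b) := ha.of_dvd_nat (Nat.gcd_dvd_left a b)

section rows

variable (F : Type) [Field F] [Fintype F] [CharP F 2]

omit [Field F] [CharP F 2] in
theorem two_le_of {e : ℕ} (he : 0 < e) (hF : Fintype.card F = 2 ^ e) (h : Fintype.card F ≠ 2) : 2 ≤ e := by
  by_contra h1
  obtain rfl : e = 1 := by omega
  exact h hF

theorem oddRat_G2 (h : 3 ≤ Fintype.card F) : OddRat (chevG2.group F) := by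
  obtain ⟨e, he, hF, _, hk⟩ := exists_setup F
  exact (good_G2 hk he (two_le_of F he hF (by omega))).oddRat_over (over_G2 (algebraMap F _) hF tyG2) odd_one

theorem oddRat_F4 (h : Fintype.card F ≠ 2) : OddRat (chevF4.group F) := by
  obtain ⟨e, he, hF, _, hk⟩ := exists_setup F
  exact (good_F4 hk he (two_le_of F he hF h)).oddRat_over (over_F4 (algebraMap F _) hF tyF4) odd_one

theorem oddRat_E6 : OddRat (chevE6.group F) := by
  obtain ⟨e, he, hF, _, hk⟩ := exists_setup F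
  exact (good_E6 hk he).oddRat_over (over_E6 (algebraMap F _) hF tyE6) (odd_gcd_left (by decide) _)

theorem oddRat_E7 : OddRat (chevE7.group F) := by
  obtain ⟨e, he, hF, _, hk⟩ := exists_setup F
  exact (good_E7 hk he).oddRat_over (over_E7 (algebraMap F _) hF tyE7)
    ((Mn.odd_two_pow_sub_one he).of_dvd_nat (Nat.gcd_dvd_right _ _))

theorem oddRat_E8 : OddRat (chevE8.group F) := by
  obtain ⟨e, he, hF, _, hk⟩ := exists_setup F
  exact (good_E8 hk he).oddRat_over (over_E8 (algebraMap F _) hF tyE8) odd_one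

theorem oddRat_tE6 {q : ℕ} (hq : IsPrimePow q) (hF : Fintype.card F = q ^ 2) : OddRat (twistedE6 F q) := by
  obtain ⟨e, he, hqe, _, hk⟩ := exists_setup' F two_ne_zero hF
  exact (good_tE6 hk he).oddRat_emb (emb_E6 (algebraMap F _) hqe hq hF) (odd_gcd_left (by decide) _)

theorem oddRat_tD4 {q : ℕ} (hq : IsPrimePow q) (hF : Fintype.card F = q ^ 3) : OddRat (twistedD4 F q) := by
  obtain ⟨e, he, hqe, _, hk⟩ := exists_setup' F three_ne_zero hF
  exact (good_tD4 hk he).oddRat_emb (emb_D4 (algebraMap F _) hqe hq hF) odd_one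

end rows

theorem oddRat_Sz {S : Type} [Group S] (h : Lie.IsoSuzuki S) : OddRat S := by
  obtain ⟨F, _, _, m, hm, hF, ⟨e⟩⟩ := h
  obtain ⟨_, _, hk⟩ := setup' Nat.prime_two (by omega) hF
  exact Cv.oddRat_congr e ((good_Sz hk hm).oddRat_emb (emb_B2 (algebraMap F _) hF) odd_one)

theorem oddRat_tF4 {S : Type} [Group S] (h : Lie.Iso2F4 S) : OddRat S := by
  obtain ⟨F, _, _, m, hm, hF, ⟨e⟩⟩ := h
  obtain ⟨_, _, hk⟩ := setup' Nat.prime_two (by omega) hF
  exact Cv.oddRat_congr e ((good_tF4 hk hm).oddRat_emb (emb_F4 (algebraMap F _) hF) odd_one)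

/-- the simple groups -/
theorem rowS_of
    (hP : ∀ (F : Type) [Field F] [Fintype F] [CharP F 2] (m : ℕ), 4 ≤ m → OddRat (POmega F (quadFormPlus m F)))
    (hM : ∀ (F : Type) [Field F] [Fintype F] [CharP F 2] (m : ℕ) (a b : F), 4 ≤ m →
      (∀ z₁ z₂ : F, z₁ ^ 2 + a * z₁ * z₂ + b * z₂ ^ 2 = 0 → z₁ = 0 ∧ z₂ = 0) →
      OddRat (POmega F (quadFormMinus (m - 1) F a b)))
    (h4 : ∀ (F : Type) [Field F] [Fintype F], Fintype.card F = 2 → OddRat (chevF4.group F)) :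
    RowS fun S _ => IsLieTypeChar 2 S := by
  intro S _ _ _ h
  rcases h with h | h | h | h | h | h | h | h | h | h | h
  · obtain ⟨F, _, _, _, n, -, -, ⟨e⟩⟩ := h
    exact Cv.oddRat_congr e (oddRat_of_allR (allR_psl CharTwo.two_eq_zero))
  · obtain ⟨F, _, _, _, n, -, -, ⟨e⟩⟩ := h
    exact Cv.oddRat_congr e (oddRat_of_allR (allR_psp CharTwo.two_eq_zero n))
  · obtain ⟨F, _, _, _, n, q, hq, -, -, ⟨e⟩⟩ := h
    exact Cv.oddRat_congr e (oddRat_of_allR (allR_psu CharTwo.two_eq_zero n hq))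
  · obtain ⟨F, _, _, _, n, -, ho, -⟩ := h
    exact absurd ho (Nat.not_odd_iff_even.2 (Cv.even_card F))
  · obtain ⟨F, _, _, _, n, hn, ⟨e⟩⟩ := h
    exact Cv.oddRat_congr e (hP F n hn)
  · obtain ⟨F, _, _, _, n, a, b, hn, hab, ⟨e⟩⟩ := h
    exact Cv.oddRat_congr e (hM F n a b hn hab)
  · obtain ⟨F, _, _, _, ⟨h, ⟨e⟩⟩ | ⟨⟨e⟩⟩ | ⟨⟨e⟩⟩ | ⟨⟨e⟩⟩ | ⟨⟨e⟩⟩⟩ := h
    · exact Cv.oddRat_congr e (oddRat_G2 F h)
    · by_cases h2 : Fintype.card F = 2
      · exact Cv.oddRat_congr e (h4 F h2)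
      · exact Cv.oddRat_congr e (oddRat_F4 F h2)
    · exact Cv.oddRat_congr e (oddRat_E6 F)
    · exact Cv.oddRat_congr e (oddRat_E7 F)
    · exact Cv.oddRat_congr e (oddRat_E8 F)
  · obtain ⟨F, _, _, _, q, hq, ⟨h, ⟨e⟩⟩ | ⟨h, ⟨e⟩⟩⟩ := h
    · exact Cv.oddRat_congr e (oddRat_tE6 F hq h)
    · exact Cv.oddRat_congr e (oddRat_tD4 F hq h)
  · exact oddRat_Sz h.2
  · exact oddRat_tF4 h.2
  · exact absurd h.1 (by decide)

/-- `BoxO.two` from the open rows -/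
theorem two_of
    (hP : ∀ (F : Type) [Field F] [Fintype F] [CharP F 2] (m : ℕ), 4 ≤ m → OddRat (POmega F (quadFormPlus m F)))
    (hM : ∀ (F : Type) [Field F] [Fintype F] [CharP F 2] (m : ℕ) (a b : F), 4 ≤ m →
      (∀ z₁ z₂ : F, z₁ ^ 2 + a * z₁ * z₂ + b * z₂ ^ 2 = 0 → z₁ = 0 ∧ z₂ = 0) →
      OddRat (POmega F (quadFormMinus (m - 1) F a b)))
    (h4 : ∀ (F : Type) [Field F] [Fintype F], Fintype.card F = 2 → OddRat (chevF4.group F))
    (h6 : ∀ (X : Type) [Group X] [Finite X] (F : Type) [Field F] [Fintype F] [CharP F 2], IsQuasisimple X →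
      3 ∣ Fintype.card F - 1 → Nat.card (Subgroup.center X) = 3 →
      (X ⧸ Subgroup.center X ≃* Lie.chevE6.group F) → OddRat X)
    (ht : ∀ (X : Type) [Group X] [Finite X] (F : Type) [Field F] [Fintype F] [CharP F 2] (q : ℕ), IsQuasisimple X →
      IsPrimePow q → Fintype.card F = q ^ 2 → 3 ∣ q + 1 → Nat.card (Subgroup.center X) = 3 →
      (X ⧸ Subgroup.center X ≃* Lie.twistedE6 F q) → OddRat X) :
    RowO fun S _ => IsLieTypeChar 2 S :=
  Cv.rowO_two (rowS_of hP hM h4) (fun _ _ _ _ _ _ _ => oddRat_of_allR (allR_sl CharTwo.two_eq_zero))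
    (fun _ _ _ _ n _ hq _ _ => oddRat_of_allR (allR_su CharTwo.two_eq_zero n hq)) h6 ht

end Cfsg.Agent.ODD.C2
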