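import Cfsg.Agent.DL.PP.Cor
import Cfsg.Agent.Mrg.KFacts.RgdPerf

/-!
# Criteria for `HN` (helper46)

`hn_of_le`: `HN` holds when the fixed elements with trivial simple coordinates are in `[U^F, U^F]`.
`hn_of_gen`, `hn_of_commGen`: split case, from `CommGen`.  `hn_of_card`: by counting.
-/

set_option autoImplicit false
set_option maxHeartbeats 400000
set_option linter.unusedSectionVars false

namespace Cfsg.Agent.ODD.C2

open CoxeterSystem Cfsg.Agent.ChevalleyStructure.CoxeterGeom Cfsg.Agent.Tits.Roots Cfsg.Agent.Nodes.Reps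
  Cfsg.Agent.Nodes.BNOf Cfsg.Agent.DL Cfsg.Agent.DL.PP Cfsg.Agent.DL.St
open scoped commutatorElement

theorem hn2_map_eq_one {Y A : Type*} [Group Y] [CommGroup A] {P : Subgroup Y} (f : P →* A) (u : P)
    (h : (u : Y) ∈ ⁅P, P⁆) : f u = 1 := by
  have h1 : ⁅P, P⁆ = (commutator P).map P.subtype := by
    rw [commutator_def, Subgroup.map_commutator, ← MonoidHom.range_eq_map, Subgroup.range_subtype]
  rw [h1] at h
  obtain ⟨v, hv, e⟩ := h
  obtain rfl : v = u := Subtype.ext e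
  exact Abelianization.commutator_subset_ker f hv

variable {p : ℕ} [Fact p.Prime] {k : Type} [Field k] [CharP k p] {Y : Type} [Group Y] {N : Type} [Fintype N]
  [DecidableEq N] {ρ : Y →* GL N k} {F : MulAut Y} {G : Subgroup Y} [IsAlgClosed k] (D : Datum p ρ F G)

theorem hn_of_le (h : ∀ u ∈ D.S (NS D), F u = u → u ∈ ⁅D.U ⊓ GF F G, D.U ⊓ GF F G⁆) : HN D :=
  fun f u hu => hn2_map_eq_one f u (h u (mem_NS_iff.2 ⟨u.2.1, hu⟩) u.2.2.2)

theorem hn2_uni_NS : D.Uni (NS D) := by
  refine D.uni_of_subset_pos ⟨fun _ h => h.1, fun x hx y hy z hz => ?_⟩ fun _ h => ⟨h.1, h.2.1⟩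
  have h1 := D.cl_pos.2 x ⟨hx.1, hx.2.1⟩ y ⟨hy.1, hy.2.1⟩ z hz
  refine ⟨h1.1, h1.2, fun i => ?_⟩
  exact ((mem_PW D).1 ((D.cl_PW (D.cs.simple i)).2 x ((mem_PW D).2 ⟨hx.1, hx.2.1, hx.2.2 i⟩) y
    ((mem_PW D).2 ⟨hy.1, hy.2.1, hy.2.2 i⟩) z hz)).2.2

/-- `HN` for an endomorphism fixing each root group, from the generation of the non-simple root groups by
commutators -/
theorem hn_of_gen (φ : (D.I → ℤ) → k → k) (hx : ∀ a, D.Rt a → ∀ u, F (D.x a u) = D.x a (φ a u))
    (Z : (D.I → ℤ) → Subgroup Y) (hZ : ∀ a, D.Rt a → Z a = D.X a ⊓ fix F)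
    (hC : Omega.EH3.Kf.Lev.CommGen D.cs D.h Z) : HN D := by
  refine hn_of_le D fun u hu hF => ?_
  have hA := hn2_uni_NS D
  obtain ⟨L, hL⟩ := hA.exists_ord
  obtain ⟨c, -, hc, rfl⟩ := hA.exists_of_fix hL (fun _ : Unit => F.toMonoidHom) (fun _ a t => φ a t)
    (fun _ a ha t => hx a (hA.root a ha) t) hu (fun _ => hF)
  have h1 : RGD.Sup Z (RGD.Pos D.cs D.h) ≤ D.U ⊓ GF F G := RGD.Sup_le fun a ha y hy => by
    rw [hZ a ha.1] at hy
    have h2 : y ∈ D.U := RGD.le_Sup ha hy.1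
    exact ⟨h2, D.U_le_G h2, hy.2⟩
  refine D.lp_mem hL.root fun a ha _ => ?_
  have ha' := (hL.mem a).1 ha
  refine Subgroup.commutator_mono h1 h1 (hC a ha'.1 ha'.2.1 ha'.2.2 ?_)
  rw [hZ a ha'.1]
  exact ⟨D.x_mem ha'.1 _, mem_fix.2 (by rw [hx a ha'.1, hc () a ha'])⟩

theorem hn_of_commGen {e : ℕ} (H : D.Split 1 e) (hC : Omega.EH3.Kf.Lev.CommGen D.cs D.h (D.Xe e)) : HN D :=
  hn_of_gen D (fun _ u => u ^ p ^ e) (fun a ha u => by simpa using H.x a ha u) _
    (fun a _ => by
      have h1 := H.fix_eq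
      rw [pow_one] at h1
      rw [h1]) hC

/-- the simple coordinates as a homomorphism -/
noncomputable def hn2Kap : ↥(D.U ⊓ GF F G) →* Multiplicative (D.I → k) :=
  MonoidHom.mk' (fun u => Multiplicative.ofAdd fun i => kap D i u) fun u v => by
    rw [← ofAdd_add]
    congr 1
    funext i
    exact kap_mul i u.2.1 v.2.1

/-- `HN` by counting: the abelianisation of `U^F` is not larger than the set of fixed simple coordinates -/
theorem hn_of_card (h : D.QS) (hc : Nat.card (Abelianization ↥(D.U ⊓ GF F G)) ≤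
    Nat.card {b : D.I → k // ∀ i, b (D.σ i) = b i ^ p ^ D.ex (sr i)}) : HN D := by
  have := D.amb.finite_GF G
  have : Finite ↥(D.U ⊓ GF F G) := Finite.of_injective _ (Subgroup.inclusion_injective inf_le_right)
  obtain ⟨a, ha⟩ := exists_fix_unit h
  let κ := Abelianization.lift (hn2Kap D)
  have : Finite κ.range := Finite.of_surjective _ κ.rangeRestrict_surjective
  have h1 : ∀ b : {b : D.I → k // ∀ i, b (D.σ i) = b i ^ p ^ D.ex (sr i)},
      ∃ u : κ.range, u.1 = Multiplicative.ofAdd fun i => (a i : k) * b.1 i := fun b => by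
    obtain ⟨u, hu, h2⟩ := exists_kap_fix h (a := fun i => (a i : k) * b.1 i) fun i => by
      rw [ha, b.2, Units.val_mul, Units.val_pow_eq_pow_val, mul_pow, mul_assoc]
    exact ⟨⟨_, Abelianization.of ⟨u, hu⟩, rfl⟩, congrArg Multiplicative.ofAdd (funext h2)⟩
  choose s hs using h1
  have h2 : Function.Injective s := fun b b' e => Subtype.ext (funext fun i => by
    have h3 := (hs b).symm.trans ((congrArg Subtype.val e).trans (hs b'))
    exact mul_left_cancel₀ (a i).ne_zero (congrFun (Multiplicative.ofAdd.injective h3) i))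
  have h3 := (κ.rangeRestrict_surjective.bijective_of_nat_card_le
    (hc.trans (Nat.card_le_card_of_injective s h2))).1
  intro f u hu
  have h4 : Abelianization.of u = 1 := h3 (Subtype.ext (by
    rw [map_one]
    exact congrArg Multiplicative.ofAdd (funext hu)))
  rw [← Abelianization.lift_apply_of f, h4, map_one]

end Cfsg.Agent.ODD.C2
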