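import Cfsg.Agent.ODD.C2.Mn
import Cfsg.Agent.DL.Ex.Lev
import Cfsg.Agent.DL.PP.Cor

/-!
# The datum of a minuscule weight system in characteristic two (helper89)

`m.x K a u = 1 + u E a`, `m.τ K c` (diagonal matrices), `pm K π` (permutation matrices), `m.G K cs h`;
`m.dat` : the split datum in `GL N k`; `Sy` : symmetries of the frame; `m.datT` : the twisted data.
-/

set_option autoImplicit false
set_option maxHeartbeats 400000
set_option linter.unusedSectionVars false

namespace Cfsg.Agent.ODD.C2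

open CoxeterSystem Cfsg.Agent.ChevalleyStructure.CoxeterGeom Cfsg.Agent.Tits.Roots Cfsg.Agent.Nodes.Coroot Matrix
  Cfsg.Agent.Nodes.Reps Cfsg.Agent.Nodes.BNOf Cfsg.Agent.Nodes.Bruhat Cfsg.Agent.LangThm Cfsg.Agent.DL
open scoped commutatorElement

section Perm

variable {N : Type} [Fintype N] [DecidableEq N] (K : Type*) [Field K]

/-- permutation matrices -/
def pm : Equiv.Perm N →* GL N K := (permMatrixHom (R := K)).toHomUnits

theorem pm_apply (π : Equiv.Perm N) (a c : N) : (pm K π : Matrix N N K) a c = if a = π c then 1 else 0 := by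
  show (π⁻¹.permMatrix K) a c = _
  rw [Equiv.Perm.permMatrix, PEquiv.toMatrix_apply, Equiv.toPEquiv_apply]
  exact if_congr (by rw [Option.mem_some_iff, Equiv.Perm.inv_eq_iff_eq]) rfl rfl

variable {K}

theorem pm_conj (π : Equiv.Perm N) (g : GL N K) (a c : N) :
    ((pm K π * g * (pm K π)⁻¹ : GL N K) : Matrix N N K) (π a) (π c) = (g : Matrix N N K) a c := by
  rw [← map_inv, Units.val_mul, Units.val_mul]
  show (π⁻¹.permMatrix K * (g : Matrix N N K) * π⁻¹⁻¹.permMatrix K) _ _ = _
  rw [Equiv.Perm.permMatrix, Equiv.Perm.permMatrix, PEquiv.toMatrix_toPEquiv_mul, PEquiv.mul_toMatrix_toPEquiv]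
  simp

theorem pm_conj_eq {π : Equiv.Perm N} {g g' : GL N K}
    (h : ∀ a c, (g' : Matrix N N K) (π a) (π c) = (g : Matrix N N K) a c) : pm K π * g * (pm K π)⁻¹ = g' := by
  refine Units.ext (Matrix.ext fun a c => ?_)
  obtain ⟨a, rfl⟩ := π.surjective a
  obtain ⟨c, rfl⟩ := π.surjective c
  rw [pm_conj, h]

theorem map_pm {L : Type*} [Field L] (f : K →+* L) (π : Equiv.Perm N) :
    GeneralLinearGroup.map f (pm K π) = pm L π := by
  refine Units.ext (Matrix.ext fun a c => ?_)
  show f ((pm K π : Matrix N N K) a c) = _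
  rw [pm_apply, pm_apply, apply_ite f, map_one, map_zero]

variable (N K) in
/-- the inverse transpose -/
def itA : MulAut (GL N K) where
  toFun g := ⟨(g⁻¹ : GL N K).1ᵀ, g.1ᵀ, by rw [← transpose_mul, Units.mul_inv, transpose_one],
    by rw [← transpose_mul, Units.inv_mul, transpose_one]⟩
  invFun g := ⟨(g⁻¹ : GL N K).1ᵀ, g.1ᵀ, by rw [← transpose_mul, Units.mul_inv, transpose_one],
    by rw [← transpose_mul, Units.inv_mul, transpose_one]⟩
  left_inv _ := rfl
  right_inv _ := rfl
  map_mul' g g' := Units.ext (by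
    show ((g * g')⁻¹ : GL N K).1ᵀ = (g⁻¹ : GL N K).1ᵀ * (g'⁻¹ : GL N K).1ᵀ
    rw [_root_.mul_inv_rev, Units.val_mul, transpose_mul])

theorem coe_itA (g : GL N K) : (itA N K g : Matrix N N K) = ((g⁻¹ : GL N K) : Matrix N N K)ᵀ := rfl

theorem itA_itA (g : GL N K) : itA N K (itA N K g) = g := rfl

theorem itA_pm (π : Equiv.Perm N) : itA N K (pm K π) = pm K π := by
  refine Units.ext (Matrix.ext fun a c => ?_)
  rw [coe_itA, ← map_inv, transpose_apply, pm_apply, pm_apply]
  exact if_congr (by rw [eq_comm, Equiv.Perm.inv_eq_iff_eq]) rfl rfl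

theorem map_itA {L : Type*} [Field L] (f : K →+* L) (g : GL N K) :
    GeneralLinearGroup.map f (itA N K g) = itA N L (GeneralLinearGroup.map f g) :=
  Units.ext (Matrix.ext fun _ _ => rfl)

variable (N) in
/-- the Frobenius automorphism -/
noncomputable def frA (k : Type) [Field k] [CharP k 2] [PerfectRing k 2] (e : ℕ) : MulAut (GL N k) :=
  Units.mapEquiv (iterateFrobeniusEquiv k 2 e).mapMatrix.toMulEquiv

theorem frA_apply {k : Type} [Field k] [CharP k 2] [PerfectRing k 2] (e : ℕ) (g : GL N k) :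
    frA N k e g = frob 2 e g := rfl

theorem frA_pow {k : Type} [Field k] [CharP k 2] [PerfectRing k 2] (e d : ℕ) : frA N k e ^ d = frA N k (d * e) := by
  induction d with
  | zero =>
    refine MulEquiv.ext fun g => Units.ext (Matrix.ext fun a c => ?_)
    rw [frA_apply, frob_apply, zero_mul, pow_zero, pow_zero, pow_one]
    rfl
  | succ d ih =>
    refine MulEquiv.ext fun g => Units.ext (Matrix.ext fun a c => ?_)
    rw [pow_succ, ih, MulAut.mul_apply, frA_apply, frA_apply, frA_apply, frob_apply, frob_apply, frob_apply,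
      ← pow_mul, ← pow_add, add_mul, one_mul, add_comm]

end Perm

namespace Mn

variable {I : Type} [Fintype I] [DecidableEq I] {A : I → I → ℤ} {R N : Type} [Fintype R] [DecidableEq R] [Fintype N]
  [DecidableEq N] (m : Mn A R N) (K : Type) [Field K]

/-- root elements -/
noncomputable def x (a : I → ℤ) (u : K) : GL N K := by
  classical
  exact if h : m.E K a * m.E K a = 0 then ⟨1 + u • m.E K a, 1 + (-u) • m.E K a,
    by rw [one_add_mul h, add_neg_cancel, zero_smul, add_zero],
    by rw [one_add_mul h, neg_add_cancel, zero_smul, add_zero]⟩ else 1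

theorem x_add (a : I → ℤ) (u v : K) : m.x K a (u + v) = m.x K a u * m.x K a v := by
  unfold x
  split_ifs with h
  · exact Units.ext (one_add_mul h u v).symm
  · rw [mul_one]

/-- root groups -/
noncomputable def X (a : I → ℤ) : Subgroup (GL N K) :=
  (MonoidHom.mk' (fun u : Multiplicative K => m.x K a u.toAdd) fun _ _ => m.x_add K a _ _).range

theorem mem_X {a : I → ℤ} {y : GL N K} : y ∈ m.X K a ↔ ∃ u, m.x K a u = y := Iff.rfl

/-- the torus -/
def τ : (R → Kˣ) →* GL N K :=
  MonoidHom.mk' (fun c => ⟨diagonal fun a => ((chr (m.μ a) c : Kˣ) : K), diagonal fun a => (((chr (m.μ a) c)⁻¹ : Kˣ) : K),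
    by simp [diagonal_mul_diagonal], by simp [diagonal_mul_diagonal]⟩) fun a b => Units.ext (by
      simp [diagonal_mul_diagonal])

theorem coe_τ (c : R → Kˣ) : (m.τ K c : Matrix N N K) = diagonal fun a => ((chr (m.μ a) c : Kˣ) : K) := rfl

theorem τ_inj : Function.Injective (m.τ K) := by
  refine (injective_iff_map_eq_one _).2 fun c hc => funext fun j => ?_
  obtain ⟨s, hs⟩ := m.span j
  have h1 : ∀ a, chr (m.μ a) c = 1 := fun a => Units.ext (by
    have := congrArg (fun g : GL N K => (g : Matrix N N K) a a) hc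
    simpa [coe_τ] using this)
  rw [← chr_single j c, ← hs, chr_sum]
  exact Finset.prod_eq_one fun a _ => by rw [chr_zsmul, h1, _root_.one_zpow]

variable {K}

theorem map_τ {L : Type} [Field L] (f : K →+* L) (c : R → Kˣ) :
    GeneralLinearGroup.map f (m.τ K c) = m.τ L fun j => Units.map (f : K →* L) (c j) := by
  refine Units.ext (Matrix.ext fun a b => ?_)
  show f ((m.τ K c : Matrix N N K) a b) = _
  rw [coe_τ, coe_τ, diagonal_apply, diagonal_apply, apply_ite f, map_zero]
  simp [chr_apply]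

theorem pm_τ {π : Equiv.Perm N} {c c' : R → Kˣ} (hπ : ∀ a, chr (m.μ (π a)) c' = chr (m.μ a) c) :
    pm K π * m.τ K c * (pm K π)⁻¹ = m.τ K c' :=
  pm_conj_eq fun a b => by
    rw [coe_τ, coe_τ, diagonal_apply, diagonal_apply, hπ]
    exact if_congr π.injective.eq_iff rfl rfl

theorem itA_τ (c : R → Kˣ) : itA N K (m.τ K c) = m.τ K c⁻¹ :=
  Units.ext (by rw [coe_itA, ← map_inv, coe_τ, diagonal_transpose])

variable {W : Type} [Group W] [Finite W] {M : CoxeterMatrix I} {cs : CoxeterSystem M W} {h : IsCartan M A}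

theorem coe_x {a : I → ℤ} (ha : IsRoot cs h a) (u : K) : (m.x K a u : Matrix N N K) = 1 + u • m.E K a := by
  have := Fintype.ofFinite W
  unfold x
  rw [dif_pos (m.E_sq K ha)]

theorem x_apply {a : I → ℤ} (ha : IsRoot cs h a) (u : K) (b c : N) :
    (m.x K a u : Matrix N N K) b c = (if b = c then 1 else 0) + if m.St a b c then u else 0 := by
  rw [m.coe_x ha, Matrix.add_apply, one_apply, Matrix.smul_apply, E_apply, smul_eq_mul, mul_ite, mul_one, mul_zero]

theorem x_inj {a : I → ℤ} (ha : IsRoot cs h a) : Function.Injective (m.x K a) := by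
  intro u v e
  have := Fintype.ofFinite W
  obtain ⟨b, c, hs⟩ := m.exists_st ha
  have h1 := congrArg (fun g : GL N K => (g : Matrix N N K) b c) e
  simpa [m.x_apply ha, hs] using h1

theorem x_zero {a : I → ℤ} (ha : IsRoot cs h a) : m.x K a 0 = 1 :=
  Units.ext (by rw [m.coe_x ha, zero_smul, add_zero, Units.val_one])

theorem x_neg {a : I → ℤ} (ha : IsRoot cs h a) (u : K) : m.x K a (-u) = (m.x K a u)⁻¹ := by
  rw [eq_inv_iff_mul_eq_one, ← x_add, neg_add_cancel, m.x_zero ha]

theorem map_x {L : Type} [Field L] (f : K →+* L) {a : I → ℤ} (ha : IsRoot cs h a) (u : K) :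
    GeneralLinearGroup.map f (m.x K a u) = m.x L a (f u) := by
  refine Units.ext (Matrix.ext fun b c => ?_)
  show f ((m.x K a u : Matrix N N K) b c) = _
  rw [m.x_apply ha, m.x_apply ha, map_add, apply_ite f, apply_ite f, map_one, map_zero]

theorem pm_x {π : Equiv.Perm N} {a a' : I → ℤ} (ha : IsRoot cs h a) (ha' : IsRoot cs h a')
    (hπ : ∀ b c, m.St a' (π b) (π c) ↔ m.St a b c) (u : K) : pm K π * m.x K a u * (pm K π)⁻¹ = m.x K a' u :=
  pm_conj_eq fun b c => by
    rw [m.x_apply ha, m.x_apply ha', if_congr (hπ b c) rfl rfl, if_congr π.injective.eq_iff rfl rfl]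

theorem τ_x {a : I → ℤ} (ha : IsRoot cs h a) (c : R → Kˣ) (u : K) :
    m.τ K c * m.x K a u * (m.τ K c)⁻¹ = m.x K a ((chr (m.wt a) c : Kˣ) * u) := by
  rw [mul_inv_eq_iff_eq_mul]
  refine Units.ext (Matrix.ext fun b d => ?_)
  rw [Units.val_mul, Units.val_mul, coe_τ, diagonal_mul, mul_diagonal, m.x_apply ha, m.x_apply ha, mul_add, add_mul]
  congr 1
  · split_ifs with e
    · rw [e, mul_comm]
    · simp
  · split_ifs with e
    · rw [show m.μ b = _ from e, chr_add, Units.val_mul]
      ring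
    · simp

variable (K) in
/-- the representatives of the simple reflections -/
def n (h : IsCartan M A) (i : I) : GL N K := pm K (m.sp h i)

theorem n_x (i : I) {a : I → ℤ} (ha : IsRoot cs h a) (u : K) :
    m.n K h i * m.x K a u * (m.n K h i)⁻¹ = m.x K (rep cs h (cs.simple i) a) u :=
  m.pm_x ha (ha.act _) (fun b c => m.st_refl cs h a b c i) u

theorem n_τ (i : I) (c : R → Kˣ) :
    m.n K h i * m.τ K c * (m.n K h i)⁻¹ = m.τ K (c * (coch (m.cw i) (chr (m.wt (sr i)) c))⁻¹) :=
  m.pm_τ fun a => by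
    obtain ⟨a, rfl⟩ := (m.sp h i).surjective a
    rw [sp_apply, sp_apply, m.σ_σ h, m.hσ, chr_sub, chr_zsmul, map_mul, map_inv, chr_coch]
    rfl

theorem n_n (i : I) : m.n K h i * m.n K h i = 1 := by
  rw [n, ← map_mul, show m.sp h i * m.sp h i = 1 from Equiv.ext (m.σ_σ h i), map_one]

variable [CharP K 2]

theorem x_inv {a : I → ℤ} (ha : IsRoot cs h a) (u : K) : (m.x K a u)⁻¹ = m.x K a u := by
  rw [← m.x_neg ha, CharTwo.neg_eq]

theorem itA_x {a : I → ℤ} (ha : IsRoot cs h a) (u : K) : itA N K (m.x K a u) = m.x K (-a) u := by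
  refine Units.ext (Matrix.ext fun b c => ?_)
  rw [coe_itA, m.x_inv ha, transpose_apply, m.x_apply ha, m.x_apply ha.neg, if_congr st_neg rfl rfl,
    if_congr eq_comm rfl rfl]

omit [CharP K 2] in
theorem comm_nonneg {a b : I → ℤ} (ha : IsRoot cs h a) (hb : IsRoot cs h b) (h0 : 0 ≤ cpr cs h a b) (u v : K) :
    ⁅m.x K a u, m.x K b v⁆ = 1 := by
  have := Fintype.ofFinite W
  have h1 := two_form_cpr cs h a hb
  have h2 := mul_nonneg h0 (form_pos cs h hb.ne_zero).le
  have h3 := m.E_comm K ha hb (by omega)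
  rw [commutatorElement_eq_one_iff_mul_comm]
  apply Units.ext
  rw [Units.val_mul, Units.val_mul, m.coe_x ha, m.coe_x hb]
  simp only [mul_add, add_mul, smul_mul_assoc, mul_smul_comm, mul_one, one_mul, h3]
  module

theorem coe_comm {a b : I → ℤ} (ha : IsRoot cs h a) (hb : IsRoot cs h b) (h1 : cpr cs h a b = -1) (u v : K) :
    ((⁅m.x K a u, m.x K b v⁆ : GL N K) : Matrix N N K) = 1 + (u * v) • (m.E K a * m.E K b + m.E K b * m.E K a) +
      (u * u * v) • (m.E K a * m.E K b * m.E K a) := by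
  have := Fintype.ofFinite W
  have h2 := two_form_cpr cs h a hb
  rw [commutatorElement_def, m.x_inv ha, m.x_inv hb, Units.val_mul, Units.val_mul, Units.val_mul, m.coe_x ha, m.coe_x hb]
  exact comm_sq CharTwo.two_eq_zero (m.E_sq K ha) (m.E_sq K hb) (m.BAB K ha hb (by rw [h2, h1, neg_one_mul])) u v

omit [CharP K 2] in
theorem root_add {a b : I → ℤ} (ha : IsRoot cs h a) (hb : IsRoot cs h b) (h1 : cpr cs h a b = -1) :
    IsRoot cs h (a + b) := by simpa [h1] using isRoot_refl cs h ha hb

omit [CharP K 2] in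
theorem root_add' {a b : I → ℤ} (ha : IsRoot cs h a) (hb : IsRoot cs h b) (h2 : cpr cs h b a = -2) :
    IsRoot cs h (a + b + a) := by
  have := isRoot_refl cs h hb ha
  rw [h2] at this
  convert this using 1
  module

theorem comm_one {a b : I → ℤ} (ha : IsRoot cs h a) (hb : IsRoot cs h b) (h1 : cpr cs h a b = -1)
    (h2 : cpr cs h b a = -1) (u v : K) : ⁅m.x K a u, m.x K b v⁆ = m.x K (a + b) (u * v) := by
  have := Fintype.ofFinite W
  have h3 := two_form_cpr cs h a hb
  have h4 := two_form_cpr cs h b ha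
  rw [h1] at h3
  rw [h2, form_comm] at h4
  apply Units.ext
  rw [m.coe_comm ha hb h1, m.BAB K hb ha (by rw [form_comm]; omega), smul_zero, add_zero,
    m.E_add K ha hb (root_add ha hb h1) (by omega) (by omega), m.coe_x (root_add ha hb h1)]

theorem comm_two {a b : I → ℤ} (ha : IsRoot cs h a) (hb : IsRoot cs h b) (h1 : cpr cs h a b = -1)
    (h2 : cpr cs h b a = -2) (u v : K) :
    ⁅m.x K a u, m.x K b v⁆ = m.x K (a + b) (u * v) * m.x K (a + b + a) (u * u * v) := by
  have := Fintype.ofFinite W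
  have h3 := two_form_cpr cs h a hb
  have h4 := two_form_cpr cs h b ha
  have h5 := form_pos cs h ha.ne_zero
  rw [h1] at h3
  rw [h2, form_comm] at h4
  have hz := root_add ha hb h1
  have hw := root_add' ha hb h2
  have h6 : m.E K (a + b) * m.E K (a + b + a) = 0 := m.E_mul_zero K hz hw (by
    simp only [form_add_left, form_add_right, form_comm cs h b a]
    omega)
  apply Units.ext
  rw [m.coe_comm ha hb h1, m.ABA K ha hb hz hw (by omega) (by omega), m.E_add K ha hb hz (by omega) (by omega),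
    Units.val_mul, m.coe_x hz, m.coe_x hw]
  simp only [mul_add, add_mul, smul_mul_assoc, mul_smul_comm, mul_one, one_mul, h6, smul_zero, add_zero]

variable (cs) in
include cs in
theorem coe_τ_n (i : I) (s : Kˣ) : ((m.τ K (coch (m.cw i) s) * m.n K h i : GL N K) : Matrix N N K) =
    (s : K) • m.E K (sr i) + ((s⁻¹ : Kˣ) : K) • m.E K (-sr i) + 1 + m.E K (sr i) * m.E K (-sr i) +
      m.E K (-sr i) * m.E K (sr i) := by
  have := Fintype.ofFinite W
  have hr := isRoot_sr cs h i
  have hp := form_pos cs h hr.ne_zero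
  ext a c
  have h1 : a = m.σ i c ↔ m.St ((-m.lam c i) • sr i) a c := ⟨fun e => e ▸ m.st_σ i c, fun e => e.unique (m.st_σ i c)⟩
  have h6 : ∀ l : ℤ, m.lam c i * form cs h (sr i) (sr i) = l * form cs h (sr i) (sr i) ↔ m.lam c i = l :=
    fun l => mul_left_inj' hp.ne'
  have h2 : m.St (sr i) a c → m.lam c i = -1 := fun e => (h6 _).1 (by have := e.eq hr; rw [phi_sr] at this; omega)
  have h3 : m.St (-sr i) a c → m.lam c i = 1 := fun e => (h6 _).1 (by
    have := e.eq hr.neg
    rw [phi_neg, phi_sr, form_neg_left, form_neg_right] at this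
    omega)
  have h4 : ∀ x, m.St x a c → m.μ a ⬝ᵥ m.cw i = m.lam c i + pairing A i x := fun x e => e.lam i
  have h5 : pairing A i (sr i) = 2 := by rw [sr, pairing_single, h.diag, mul_one]
  have h7 : (m.E K (sr i) * m.E K (-sr i)) a c = if a = c ∧ m.lam c i = 1 then 1 else 0 := by
    rw [m.EE K hr hr.neg]
    refine if_congr (and_congr (by rw [add_neg_cancel, st_zero]) ?_) rfl rfl
    rw [← h6, phi_neg, phi_sr, form_neg_left, form_neg_right]
    omega
  have h8 : (m.E K (-sr i) * m.E K (sr i)) a c = if a = c ∧ m.lam c i = -1 then 1 else 0 := by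
    rw [m.EE K hr.neg hr]
    refine if_congr (and_congr (by rw [neg_add_cancel, st_zero]) ?_) rfl rfl
    rw [← h6, phi_neg, phi_sr, form_neg_left, form_neg_left, form_neg_right]
    omega
  rw [Units.val_mul, coe_τ, diagonal_mul, n, pm_apply, chr_coch, sp_apply, if_congr h1 rfl rfl]
  simp only [Matrix.add_apply, Matrix.smul_apply, h7, h8, E_apply, one_apply, smul_eq_mul]
  change ((s ^ (m.μ a ⬝ᵥ m.cw i) : Kˣ) : K) * _ = _
  have h9 : ∀ P : Prop, ∀ [Decidable P], ∀ z : K, z + (if P then 1 else 0) + (if P then 1 else 0) = z :=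
    fun P _ z => by rw [add_assoc, CharTwo.add_self_eq_zero, add_zero]
  rcases m.bd i c with e | e | e <;> change m.lam c i = _ at e
  · have n1 : ¬ m.St (sr i) a c := fun e => by have := h2 e; omega
    have n2 : ¬ m.St (-sr i) a c := fun e => by have := h3 e; omega
    by_cases e' : a = c
    · rw [h4 0 (st_zero.2 e')]
      simp [n1, n2, e, st_zero, pairing]
    · simp [n1, n2, e, st_zero, e']
  · have n1 : ¬ m.St (sr i) a c := fun e => by have := h2 e; omega
    by_cases e' : m.St (-sr i) a c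
    · rw [h4 _ e', ← neg_one_smul ℤ (sr i), pairing_smul, h5]
      simp [n1, e, e', h9]
    · simp [n1, e, e', CharTwo.add_self_eq_zero]
  · have n2 : ¬ m.St (-sr i) a c := fun e => by have := h3 e; omega
    by_cases e' : m.St (sr i) a c
    · rw [h4 _ e', h5]
      simp [n2, e, e', h9]
    · simp [n2, e, e', CharTwo.add_self_eq_zero]

variable (cs) in
include cs in
theorem rk1 (i : I) (s : Kˣ) : m.x K (-sr i) (s⁻¹ : Kˣ) =
    m.x K (sr i) s * m.τ K (coch (m.cw i) s) * m.n K h i * m.x K (sr i) s := by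
  have := Fintype.ofFinite W
  have hr := isRoot_sr cs h i
  apply Units.ext
  rw [mul_assoc (m.x K _ _), Units.val_mul, Units.val_mul, m.coe_τ_n cs, m.coe_x hr, m.coe_x hr.neg]
  exact (rank_one CharTwo.two_eq_zero (m.E_sq K hr) (m.EFE K hr) s.mul_inv).symm

end Mn

end Cfsg.Agent.ODD.C2
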