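import Cfsg.Agent.ODD.C2.MnFin
import Cfsg.Agent.Nodes.TypeCForm

/-!
# The symplectic group in characteristic two as a datum (helper4)

`mnC n` : the weights of the natural module of type `C_n`;  `goodC`.
-/

set_option autoImplicit false
set_option maxHeartbeats 400000
set_option linter.unusedSectionVars false

namespace Cfsg.Agent.ODD.C2

open CoxeterSystem Cfsg.Agent.ChevalleyStructure.CoxeterGeom Cfsg.Agent.Tits.Roots Cfsg.Agent.Nodes.Coroot Matrix
  Cfsg.Agent.Nodes.Reps Cfsg.Agent.Nodes.BNOf Cfsg.Agent.Nodes.Bruhat Cfsg.Agent.LangThm Cfsg.Agent.DL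
  Cfsg.Agent.DL.PP Cfsg.Agent.Nodes Cfsg.Agent.Nodes.TypeC Cfsg.Agent.Nodes.TypeCForm
open scoped commutatorElement

variable {n : ℕ}

/-- the simple coroots -/
def cwC (i : Fin n) : Fin n → ℤ :=
  if h : (i : ℕ) + 1 < n then Pi.single i 1 - Pi.single ⟨i + 1, h⟩ 1 else Pi.single i 1

theorem dot_cwC (i : Fin n) (v : Fin n → ℤ) : v ⬝ᵥ cwC i = Cf i v := by
  unfold cwC Cf
  split_ifs with h
  · rw [dotProduct_sub, dotProduct_single, dotProduct_single, mul_one, mul_one]
  · rw [dotProduct_single, mul_one]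

theorem Cf_wtC (i : Fin n) (a : Fin n × Bool) : Cf i (wt a) = 0 ∨ Cf i (wt a) = 1 ∨ Cf i (wt a) = -1 := by
  unfold Cf
  split_ifs with h
  · rw [wt_apply, wt_apply]
    have h1 : ¬ (i = a.1 ∧ (⟨i + 1, h⟩ : Fin n) = a.1) := fun h2 => by
      have := congrArg Fin.val (h2.1.trans h2.2.symm)
      simp at this
    split_ifs <;> simp_all
  · rw [wt_apply]
    split_ifs <;> simp

/-- the weights of the natural module -/
def mnC (n : ℕ) : Mn (TypeC.A n) (Fin n) (Fin n × Bool) where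
  wt := AddMonoidHom.mk' ee ee_add
  cw := cwC
  pair i a := by rw [dot_cwC]; exact Cf_ee i a
  μ := wt
  inj _ _ := wt_injective
  σ := sg
  hσ i a := by
    rw [dot_cwC, wt_sg]
    show _ = _ - _ • ee (sr i)
    rw [ee_sr]
  bd i a := by rw [dot_cwC]; exact Cf_wtC i a
  nt i := ⟨(i, false), by
    rw [dot_cwC]
    unfold Cf
    split_ifs with h
    · have h2 : (⟨i + 1, h⟩ : Fin n) ≠ i := fun h2 => by have := congrArg Fin.val h2; simp at this
      simp [wt_apply, h2]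
    · rw [wt_apply]; simp⟩
  span j := ⟨Pi.single (j, true) 1, by
    rw [Finset.sum_eq_single (j, true) (fun b _ hb => by rw [Pi.single_eq_of_ne hb, zero_smul]) (by simp)]
    simp [wt]⟩

theorem mnC_wt (x : Fin n → ℤ) : (mnC n).wt x = ee x := rfl

theorem mnC_μ (a : Fin n × Bool) : (mnC n).μ a = wt a := rfl

/-- the Coxeter system -/
noncomputable abbrev csC (n : ℕ) : CoxeterSystem (CoxeterMatrix.B n) (CoxeterMatrix.B n).Group :=
  (CoxeterMatrix.B n).toCoxeterSystem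

instance finiteC (n : ℕ) : Finite (CoxeterMatrix.B n).Group := finite_W (csC n)

theorem cprC {x y : Fin n → ℤ} (hy : IsRoot (csC n) (isCartan n) y) {c : ℤ}
    (h : 2 * ip (ee x) (ee y) = c * ip (ee y) (ee y)) : cpr (csC n) (isCartan n) x y = c := by
  have := Fintype.ofFinite (CoxeterMatrix.B n).Group
  obtain ⟨d, hd, h1⟩ := form_eq (csC n) hy
  refine cpr_eq_of_form _ _ hy (mul_left_cancel₀ hd.ne' ?_)
  linear_combination 2 * h1 x - c * h1 y + form (csC n) (isCartan n) y y * h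

theorem ip_two (a b c d : Fin n × Bool) : ip (wt a + wt b) (wt c + wt d) =
    ip (wt a) (wt c) + ip (wt a) (wt d) + ip (wt b) (wt c) + ip (wt b) (wt d) := by
  rw [ip_add_left, ip_add_right, ip_add_right]; ring

theorem st_iffC {x : Fin n → ℤ} {a b : Fin n × Bool} (hab : Ok a b) (e : ee x = wt a + wt b) (s t : Fin n × Bool) :
    (mnC n).St x s t ↔ (s = a ∧ t = ng b) ∨ (s = b ∧ t = ng a) := by
  show wt s = wt t + ee x ↔ _
  rw [e]
  constructor
  · intro h
    have h1 : wt s + wt (ng t) = wt a + wt b := by rw [wt_ng, h]; abel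
    have h2 : Ok s (ng t) := by
      by_contra h3
      rw [Ok, not_or, not_not] at h3
      have h4 : s = t := by
        obtain ⟨s1, s2⟩ := s
        obtain ⟨t1, t2⟩ := t
        have h5 : s1 = t1 := h3.1
        subst h5
        have h6 := h3.2
        cases s2 <;> cases t2 <;> simp_all [ng]
      rw [h4, wt_ng, add_neg_cancel] at h1
      have h5 := congrFun h1 a.1
      rcases hab with h6 | rfl
      · rw [Pi.add_apply, wt_apply, wt_apply, if_pos rfl, if_neg h6] at h5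
        split_ifs at h5 <;> simp at h5
      · rw [Pi.add_apply, wt_apply, if_pos rfl] at h5
        split_ifs at h5 <;> simp at h5
    rcases wt_add_eq h2 hab h1 with ⟨h3, h4⟩ | ⟨h3, h4⟩
    · exact Or.inl ⟨h3, by rw [← h4, ng_ng]⟩
    · exact Or.inr ⟨h3, by rw [← h4, ng_ng]⟩
  · rintro (⟨rfl, rfl⟩ | ⟨rfl, rfl⟩) <;> rw [wt_ng] <;> abel

section gen

variable {Y : Type*} [Group Y] {k : Type*} [Field k] {H : Subgroup Y} {P : k → Prop} {y z : k → Y}

theorem two_gen (hz : ∀ s t, z (s + t) = z s * z t) (h1 : P 1) (hm : ∀ s t, P s → P t → P (s * t))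
    (hi : ∀ s, P s → P s⁻¹) {c : k} (hc : P c) (hc' : P (c - 1)) (h0 : c ≠ 0) (h1' : c ≠ 1)
    (h : ∀ u v, P u → P v → y (u * v) * z (u * u * v) ∈ H) {t : k} (ht : P t) : y t ∈ H ∧ z t ∈ H := by
  have hz' : ∀ t, P t → z t ∈ H := fun t ht => by
    have h2 : c - 1 ≠ 0 := sub_ne_zero.2 h1'
    have h3 := h 1 (t * (c - 1)⁻¹) h1 (hm _ _ ht (hi _ hc'))
    have h4 := h c (t * (c - 1)⁻¹ * c⁻¹) hc (hm _ _ (hm _ _ ht (hi _ hc')) (hi _ hc))
    rw [show c * (t * (c - 1)⁻¹ * c⁻¹) = 1 * (t * (c - 1)⁻¹) by field_simp,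
      show c * c * (t * (c - 1)⁻¹ * c⁻¹) = 1 * 1 * (t * (c - 1)⁻¹) + t by field_simp; ring, hz, ← mul_assoc] at h4
    exact (mul_mem_cancel_left h3).1 h4
  have h2 := h 1 t h1 ht
  rw [one_mul, one_mul, one_mul] at h2
  exact ⟨(mul_mem_cancel_right (hz' t ht)).1 h2, hz' t ht⟩

end gen

variable {k : Type} [Field k] [CharP k 2]

theorem exists_levC [IsAlgClosed k] {e : ℕ} (he2 : 2 ≤ e) : ∃ c : k, c ^ 2 ^ e = c ∧ c ≠ 0 ∧ c ≠ 1 := by
  classical
  have : Fact (Nat.Prime 2) := ⟨Nat.prime_two⟩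
  have h1 := card_pow_eq (p := 2) (k := k) (e := e) (by omega)
  by_contra! h
  have h2 : Nat.card {a : k // a ^ 2 ^ e = a} ≤ Nat.card Bool :=
    Nat.card_le_card_of_injective (fun a => decide (a.1 = 0)) fun a b hab => Subtype.ext (by
      by_cases ha : a.1 = 0
      · have hb : b.1 = 0 := by simpa [ha] using hab
        rw [ha, hb]
      · have hb : b.1 ≠ 0 := by simpa [ha] using hab
        rw [h _ a.2 ha, h _ b.2 hb])
  rw [h1, Nat.card_eq_fintype_card, Fintype.card_bool] at h2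
  have h3 : 2 ^ 2 ≤ 2 ^ e := Nat.pow_le_pow_right two_pos he2
  omega

theorem commGenC [IsAlgClosed k] {e : ℕ} (he2 : 2 ≤ e) : Omega.EH3.Kf.Lev.CommGen (csC n) (isCartan n)
    fun a => (mnC n).X k a ⊓ Mn.lv (Fin n × Bool) k e := by
  have : Fact (Nat.Prime 2) := ⟨Nat.prime_two⟩
  obtain ⟨c, hc, hc0, hc1⟩ := exists_levC (k := k) he2
  set U := RGD.Sup (fun a => (mnC n).X k a ⊓ Mn.lv (Fin n × Bool) k e) (RGD.Pos (csC n) (isCartan n)) with hU
  have hx : ∀ {x : Fin n → ℤ} {a b : Fin n × Bool}, IsRoot (csC n) (isCartan n) x → ee x = wt a + wt b → a.2 = true →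
      a.1 ≤ b.1 → ∀ u : k, u ^ 2 ^ e = u → (mnC n).x k x u ∈ U := fun hx e1 ha hab u hu =>
    RGD.le_Sup (X := fun a => (mnC n).X k a ⊓ Mn.lv (Fin n × Bool) k e) (S := RGD.Pos (csC n) (isCartan n))
      ⟨hx, Omega.EH3.Kf.TwC.nonneg_of e1 ha hab⟩ (((mnC n).mem_Xe hx).2 ⟨u, hu, rfl⟩)
  have key : ∀ i j : Fin n, i < j → ∀ {x y : Fin n → ℤ}, ee x = wt (i, true) + wt (j, true) →
      ee y = wt (i, true) + wt (i, true) → ∀ t : k, t ^ 2 ^ e = t →
        (mnC n).x k x t ∈ ⁅U, U⁆ ∧ (mnC n).x k y t ∈ ⁅U, U⁆ := by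
    intro i j hij x y ex ey t ht
    obtain ⟨a, ha, ea⟩ := rt_of_ok (cs := csC n) (a := (i, true)) (b := (j, false)) (Or.inl hij.ne)
    obtain ⟨b, hb, eb⟩ := rt_of_ok (cs := csC n) (a := (j, true)) (b := (j, true)) (Or.inr rfl)
    have e1 : ip (wt (i, true)) (wt (j, true)) = 0 := ip_wt_ne hij.ne
    have e2 : ip (wt (i, true)) (wt (j, false)) = 0 := ip_wt_ne hij.ne
    have e3 : ip (wt (j, false)) (wt (j, true)) = -1 := ip_wt_ng (j, true)
    have h1 : cpr (csC n) (isCartan n) a b = -1 := cprC hb (by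
      rw [ea, eb, ip_two, ip_two, e1, e3, ip_wt_self]; rfl)
    have h2 : cpr (csC n) (isCartan n) b a = -2 := cprC ha (by
      rw [ea, eb, ip_two, ip_two, ip_comm (wt (j, true)) (wt (i, true)), ip_comm (wt (j, true)) (wt (j, false)),
        ip_comm (wt (j, false)) (wt (i, true)), e1, e2, e3, ip_wt_self, ip_wt_self]; rfl)
    have e4 : wt ((j, false) : Fin n × Bool) = -wt (j, true) := wt_ng (j, true)
    obtain rfl : x = a + b := ee_injective (by rw [ee_add, ea, eb, ex, e4]; abel)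
    obtain rfl : y = a + b + a := ee_injective (by rw [ee_add, ex, ea, ey, e4]; abel)
    refine two_gen (P := fun u : k => u ^ 2 ^ e = u) ((mnC n).x_add k _) (one_pow _)
      (fun s t hs ht => by rw [mul_pow, hs, ht]) (fun s hs => by rw [inv_pow, hs]) hc
      (by rw [sub_pow_char_pow, hc, one_pow]) hc0 hc1 (fun u v hu hv => ?_) ht
    rw [← (mnC n).comm_two ha hb h1 h2]
    exact Subgroup.commutator_mem_commutator (hx ha ea rfl hij.le u hu) (hx hb eb rfl le_rfl v hv)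
  intro r hr h0 hs g hg
  obtain ⟨t, ht, rfl⟩ := ((mnC n).mem_Xe hr).1 hg
  obtain ⟨⟨i, s⟩, ⟨j, s'⟩, rfl, hij, hab, er⟩ := Omega.EH3.Kf.TwC.exists_pos hr h0
  have hij' : i ≤ j := hij
  have hns : wt (i, true) + wt (j, s') ≠ bt i := fun h => hs i (ee_injective (by rw [er, h, ee_sr]))
  cases s' with
  | true =>
    rcases hij'.eq_or_lt with rfl | hlt
    · have h1 : (i : ℕ) + 1 < n := by
        by_contra h1
        exact hns (by rw [bt, nx, dif_neg h1])
      obtain ⟨x, -, ex⟩ := rt_of_ok (cs := csC n) (a := (i, true)) (b := (⟨i + 1, h1⟩, true))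
        (Or.inl (Fin.ne_of_lt (Nat.lt_succ_self _)))
      exact (key i ⟨i + 1, h1⟩ (Nat.lt_succ_self _) ex er t ht).2
    · obtain ⟨y, ey⟩ := exists_long (csC n) (i, true)
      exact (key i j hlt er ey t ht).1
  | false =>
    have hlt : i < j := lt_of_le_of_ne hij' (by
      rcases hab with h | h
      · exact h
      · simp at h)
    have h1 : (i : ℕ) + 1 < n := lt_of_le_of_lt (Nat.succ_le_of_lt hlt) j.2
    have h2 : (⟨i + 1, h1⟩ : Fin n) < j := lt_of_le_of_ne (Nat.succ_le_of_lt hlt) (by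
      rintro rfl
      exact hns (by rw [bt, nx, dif_pos h1]))
    have h3 : i < (⟨i + 1, h1⟩ : Fin n) := Nat.lt_succ_self _
    generalize (⟨i + 1, h1⟩ : Fin n) = l at h2 h3
    obtain ⟨a, ha, ea⟩ := rt_of_ok (cs := csC n) (a := (i, true)) (b := (l, false)) (Or.inl h3.ne)
    obtain ⟨b, hb, eb⟩ := rt_of_ok (cs := csC n) (a := (l, true)) (b := (j, false)) (Or.inl h2.ne)
    have e1 : ip (wt (i, true)) (wt (l, true)) = 0 := ip_wt_ne h3.ne
    have e2 : ip (wt (i, true)) (wt (l, false)) = 0 := ip_wt_ne h3.ne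
    have e3 : ip (wt (l, false)) (wt (l, true)) = -1 := ip_wt_ng (l, true)
    have e4 : ip (wt (i, true)) (wt (j, false)) = 0 := ip_wt_ne hlt.ne
    have e5 : ip (wt (l, false)) (wt (j, false)) = 0 := ip_wt_ne h2.ne
    have e6 : ip (wt (l, true)) (wt (j, false)) = 0 := ip_wt_ne h2.ne
    have e7 : ip (ee a) (ee b) = -1 := by rw [ea, eb, ip_two, e1, e3, e4, e5]; rfl
    have c1 : cpr (csC n) (isCartan n) a b = -1 := cprC hb (by
      rw [e7, eb, ip_two, ip_comm (wt (j, false)) (wt (l, true)), e6, ip_wt_self, ip_wt_self]; rfl)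
    have c2 : cpr (csC n) (isCartan n) b a = -1 := cprC ha (by
      rw [ip_comm, e7, ea, ip_two, ip_comm (wt (l, false)) (wt (i, true)), e2, ip_wt_self, ip_wt_self]; rfl)
    have e8 : wt ((l, false) : Fin n × Bool) = -wt (l, true) := wt_ng (l, true)
    obtain rfl : r = a + b := ee_injective (by rw [ee_add, ea, eb, er, e8]; abel)
    have h4 := (mnC n).comm_one ha hb c1 c2 t 1
    rw [mul_one] at h4
    rw [← h4]
    exact Subgroup.commutator_mem_commutator (hx ha ea rfl h3.le t ht) (hx hb eb rfl h2.le 1 (one_pow _))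

/-- twice the fundamental coweights -/
def fundC (i j : Fin n) : ℤ := if j ≤ i then (if (i : ℕ) + 1 < n then 2 else 1) else 0

theorem dot_fundC (b : Fin n → ℤ) (i : Fin n) : ee b ⬝ᵥ fundC i = ((2 : ℕ) : ℤ) ^ 1 * b i := by
  have h1 : ∀ v : Fin n → ℤ, v ⬝ᵥ fundC i =
      (∑ j ∈ Finset.Iic i, v j) * (if (i : ℕ) + 1 < n then (2 : ℤ) else 1) := fun v => by
    rw [dotProduct, Finset.sum_mul, ← Finset.sum_subset (Finset.subset_univ (Finset.Iic i))
      fun j _ hj => by rw [fundC, if_neg (by simpa using hj), mul_zero]]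
    exact Finset.sum_congr rfl fun j hj => by rw [fundC, if_pos (by simpa using hj)]
  rw [ee, sum_dotProduct, Finset.sum_eq_single i (fun j _ hj => by
    rw [smul_dotProduct, h1, sum_bt]; simp [Ne.symm hj]) (by simp), smul_dotProduct, h1, sum_bt]
  by_cases h : (i : ℕ) + 1 < n <;> simp [h, mul_comm]

variable [IsAlgClosed k] (hk : ∀ a : k, ∃ j, 0 < j ∧ a ^ 2 ^ j = a) {e : ℕ} (he : 0 < e)

/-- **the datum of type `C_n` is good for `q ≥ 4`** -/
theorem goodC (he2 : 2 ≤ e) : Good ((mnC n).dat (csC n) (isCartan n) hk he) where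
  qs := (mnC n).dat_qs hk he
  cz := ⟨1, fundC (n := n), dot_fundC (n := n)⟩
  hn := hn_of_commGen' _ (e := e) (fun a ha u => (mnC n).frob_x ha e u) (by
    have := commGenC (n := n) (k := k) he2
    rwa [← Mn.fix_frA] at this)

end Cfsg.Agent.ODD.C2
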