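import Cfsg.Agent.ODD.C2.Desc
import Cfsg.Agent.DL.Datum

/-!
# ODD, characteristic two: triple covers inside `G^F` (helper22)

`oddRat_cover` : the subgroup generated by the 2-elements of `G^F` is a perfect central extension of `S`.
-/

set_option autoImplicit false
set_option maxHeartbeats 400000

namespace Cfsg.Agent.ODD.C2.E6c

open Cfsg Cfsg.Agent.ODD Cfsg.Agent.DL Subgroup

theorem mem_of_odd_pow {Y : Type*} [Group Y] {K : Subgroup Y} {y : Y} {j m : ℕ} (hy : y ^ 2 ^ j = 1) (hm : Odd m)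
    (h : y ^ m ∈ K) : y ∈ K := by
  have h1 : m.Coprime (orderOf y) :=
    Nat.Coprime.coprime_dvd_right (orderOf_dvd_of_pow_eq_one hy) (Nat.Coprime.pow_right j (Nat.coprime_two_right.2 hm))
  obtain ⟨n, hn⟩ := exists_pow_eq_self_of_coprime h1
  rw [← hn]
  exact pow_mem h n

/-- the subgroup generated by the 2-elements -/
def O2 (H : Type*) [Group H] : Subgroup H := closure {y | ∃ j : ℕ, y ^ 2 ^ j = 1}

theorem O2_normal (H : Type*) [Group H] : (O2 H).Normal := by
  refine ⟨fun y hy g => ?_⟩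
  have h1 : O2 H ≤ (O2 H).comap (MulAut.conj g).toMonoidHom := (closure_le _).2 fun z ⟨j, hj⟩ =>
    subset_closure ⟨j, by rw [← map_pow, hj, map_one]⟩
  exact h1 hy

theorem O2_index (H : Type*) [Group H] [Finite H] : Odd (O2 H).index := by
  have := O2_normal H
  by_contra h1
  have h2 : 2 ∣ Nat.card (H ⧸ O2 H) := even_iff_two_dvd.1 (Nat.not_odd_iff_even.1 h1)
  have := Fact.mk Nat.prime_two
  obtain ⟨x, hx⟩ := exists_prime_orderOf_dvd_card' (G := H ⧸ O2 H) 2 h2
  obtain ⟨y, rfl⟩ := QuotientGroup.mk_surjective x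
  obtain ⟨a, m, hm, h3⟩ := Nat.exists_eq_two_pow_mul_odd (orderOf_pos y).ne'
  have h4 : y ^ m ∈ O2 H := subset_closure ⟨a, by rw [← pow_mul, mul_comm, ← h3, pow_orderOf_eq_one]⟩
  have h5 : (y : H ⧸ O2 H) ^ m = 1 := by rwa [← QuotientGroup.mk_pow, QuotientGroup.eq_one_iff]
  have h6 := orderOf_dvd_of_pow_eq_one h5
  rw [hx] at h6
  exact hm.not_two_dvd_nat h6

/-- products of elements with their images -/
theorem mul_map_mem {Y : Type*} [Group Y] (F : MulAut Y) {A : Set Y} {H : Subgroup Y}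
    (hc : ∀ a ∈ A, ∀ b ∈ A, Commute a (F b)) (hm : ∀ a ∈ A, a * F a ∈ H) {u : Y} (hu : u ∈ closure A) :
    u * F u ∈ H := by
  have h1 : ∀ a ∈ closure A, ∀ b ∈ closure A, Commute a (F b) := by
    intro a ha b hb
    induction ha, hb using closure_induction₂ with
    | mem a b ha hb => exact hc a ha b hb
    | one_left => exact Commute.one_left _
    | one_right => rw [map_one]; exact Commute.one_right _
    | mul_left _ _ _ _ _ _ h1 h2 => exact h1.mul_left h2
    | mul_right _ _ _ _ _ _ h1 h2 => rw [map_mul]; exact h1.mul_right h2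
    | inv_left _ _ _ _ h => exact h.inv_left
    | inv_right _ _ _ _ h => rw [map_inv]; exact h.inv_right
  induction hu using closure_induction with
  | mem a ha => exact hm a ha
  | one => simp
  | mul a b ha hb h2 h3 =>
    have h4 : a * b * F (a * b) = a * F a * (b * F b) := by
      rw [map_mul, mul_assoc, mul_assoc, ← mul_assoc b, (h1 b hb a ha).eq, mul_assoc]
    rw [h4]
    exact mul_mem h2 h3
  | inv a ha h2 =>
    have h4 : a⁻¹ * F a⁻¹ = (a * F a)⁻¹ := by rw [(h1 a ha a ha).eq, mul_inv_rev, map_inv]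
    rw [h4]
    exact inv_mem h2

/-- the kernel of a homomorphism with nonabelian image -/
theorem ker_le {St Y E : Type*} [Group St] [Group Y] [Group E] [IsSimpleGroup E] (ψ : St →* Y) (θ : St →* E)
    (hθ : Function.Surjective θ) (hc : θ.ker ≤ center St) {a b : St} (hab : ψ a * ψ b ≠ ψ b * ψ a) (s : St)
    (hs : ψ s = 1) : θ s = 1 := by
  rcases (Normal.map inferInstance θ hθ : (ψ.ker.map θ).Normal).eq_bot_or_eq_top with h | h
  · have h1 : θ s ∈ ψ.ker.map θ := ⟨s, hs, rfl⟩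
    rwa [h, mem_bot] at h1
  · obtain ⟨c, h1, h2⟩ : θ a ∈ ψ.ker.map θ := h ▸ mem_top _
    have h3 : c⁻¹ * a ∈ center St := hc (by rw [MonoidHom.mem_ker, map_mul, map_inv, h2, inv_mul_cancel])
    have h4 := congrArg ψ (mem_center_iff.1 h3 b)
    simp only [map_mul, map_inv, show ψ c = 1 from h1, inv_one, one_mul] at h4
    exact absurd h4.symm hab

/-- **The covers inside `G^F`.** -/
theorem oddRat_cover {Y E St S X : Type} [Group Y] [Group E] [Group St] [Group S] [Group X] {F : MulAut Y}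
    {G : Subgroup Y} [Finite (GF F G)] (hO : OddRat (GF F G)) (ψ : St →* Y) (θ : St →* E) {F' : MulAut E}
    (ι : S →* E) (hι : Function.Injective ι) {d : ℕ} (hd : Odd d) (hpow : ∀ y, F' y = y → y ^ d ∈ ι.range)
    (hker : ∀ s, ψ s = 1 → θ s = 1) (hcen : ∀ s, θ s = 1 → s ∈ center St)
    (hodd : ∀ s, θ s = 1 → ∃ m, Odd m ∧ ψ s ^ m = 1) (hG : ∀ y ∈ G, ∃ m, Odd m ∧ y ^ m ∈ ψ.range)
    (hF : ∀ s, ∃ s', ψ s' = F (ψ s) ∧ θ s' = F' (θ s))
    (hgen : ∀ H : Subgroup S, (∀ x s, ψ s ∈ G → F (ψ s) = ψ s → ψ s ^ 2 = 1 → θ s = ι x → x ∈ H) → H = ⊤)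
    {ω : Y} (hω : orderOf ω = 3) (hωc : ∀ y, y * ω = ω * y)
    (hωm : ∀ H : Subgroup Y, (∀ y ∈ G, F y = y → y ^ 2 = 1 → y ∈ H) → ω ∈ H) {j : ℕ} (hM : Cv.MB S (3 * 2 ^ j))
    [Finite X] (hX : IsQuasisimple X) (hZ : Odd (Nat.card (center X))) (e : X ⧸ center X ≃* S) : OddRat X := by
  have heq : ∀ s s', ψ s = ψ s' → θ s = θ s' := fun s s' h => by
    have h1 := hker (s⁻¹ * s') (by rw [map_mul, map_inv, h, inv_mul_cancel])
    rwa [map_mul, map_inv, inv_mul_eq_one] at h1
  have hex : ∀ y ∈ O2 (GF F G), ∃ s x, ψ s = y ∧ θ s = ι x := by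
    intro y hy
    induction hy using closure_induction with
    | mem y hy =>
      obtain ⟨i, hi⟩ := hy
      have h1 : (y : Y) ^ 2 ^ i = 1 := congrArg Subtype.val hi
      obtain ⟨m, hm, h2⟩ := hG y y.2.1
      obtain ⟨s, hs⟩ := mem_of_odd_pow h1 hm h2
      obtain ⟨s', h3, h4⟩ := hF s
      have h5 : F' (θ s) = θ s := by rw [← h4]; exact heq _ _ (by rw [h3, hs]; exact y.2.2)
      have h6 : θ s ^ 2 ^ i = 1 := by rw [← map_pow]; exact hker _ (by rw [map_pow, hs, h1])
      obtain ⟨x, hx⟩ := mem_of_odd_pow h6 hd (hpow _ h5)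
      exact ⟨s, x, hs, hx.symm⟩
    | one => exact ⟨1, 1, map_one _, by rw [map_one, map_one]⟩
    | mul y z _ _ h1 h2 =>
      obtain ⟨s, x, a1, a2⟩ := h1
      obtain ⟨s', x', b1, b2⟩ := h2
      exact ⟨s * s', x * x', by rw [map_mul, a1, b1]; rfl, by rw [map_mul, map_mul, a2, b2]⟩
    | inv y _ h1 =>
      obtain ⟨s, x, a1, a2⟩ := h1
      exact ⟨s⁻¹, x⁻¹, by rw [map_inv, a1]; rfl, by rw [map_inv, map_inv, a2]⟩
  choose st xs hst hxs using fun y : O2 (GF F G) => hex y y.2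
  let σ : O2 (GF F G) →* S := MonoidHom.mk' xs fun a b => hι (by
    rw [map_mul, ← hxs, ← hxs, ← hxs, ← map_mul]
    exact heq _ _ (by rw [map_mul, hst, hst, hst]; rfl))
  have hσ : ∀ (y : O2 (GF F G)) s, ψ s = y → θ s = ι (σ y) := fun y s h => by
    rw [show σ y = xs y from rfl, ← hxs]
    exact heq _ _ (by rw [h, hst])
  have hs : Function.Surjective σ := by
    rw [← MonoidHom.range_eq_top]
    refine hgen _ fun x s h1 h2 h3 h4 => ?_
    have h5 : (⟨ψ s, h1, h2⟩ : GF F G) ∈ O2 (GF F G) := subset_closure ⟨1, Subtype.ext (by rw [pow_one]; exact h3)⟩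
    exact ⟨⟨_, h5⟩, hι (by rw [← hσ _ s rfl, h4])⟩
  have hk : ∀ y ∈ σ.ker, θ (st y) = 1 := fun y hy => by rw [hσ y _ (hst y), show σ y = 1 from hy, map_one]
  have hc : σ.ker ≤ center _ := fun y hy => mem_center_iff.2 fun z => Subtype.ext (Subtype.ext (by
    have h1 := congrArg ψ (mem_center_iff.1 (hcen _ (hk y hy)) (st z))
    rwa [map_mul, map_mul, hst, hst] at h1))
  let π : X →* S := e.toMonoidHom.comp (QuotientGroup.mk' (center X))
  have hπ : Function.Surjective π := e.surjective.comp (QuotientGroup.mk'_surjective _)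
  have hπk : π.ker = center X := by
    ext x
    simp [π]
  have hXp : commutator X = ⊤ := hX.1.commutator_eq_top
  have hmap : ∀ {A : Type} [Group A] (f : A →* S), Function.Surjective f → (commutator A).map f = commutator S :=
    fun f hf => by rw [map_commutator_eq, MonoidHom.range_eq_top.2 hf, commutator_def]
  have hS : commutator S = ⊤ := by rw [← hmap π hπ, hXp, ← MonoidHom.range_eq_map, MonoidHom.range_eq_top.2 hπ]
  have hp : commutator (O2 (GF F G)) = ⊤ := by
    rw [eq_top_iff]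
    rintro ⟨y, hy⟩ -
    induction hy using closure_induction with
    | mem y hy =>
      obtain ⟨i, hi⟩ := id hy
      generalize hz : (⟨y, subset_closure hy⟩ : O2 (GF F G)) = z
      have h1 : z ^ 2 ^ i = 1 := by rw [← hz]; exact Subtype.ext hi
      obtain ⟨c, h2, h3⟩ : σ z ∈ (commutator (O2 (GF F G))).map σ := by rw [hmap σ hs, hS]; trivial
      obtain ⟨m, hm, h4⟩ := hodd _ (hk (c⁻¹ * z) (by rw [MonoidHom.mem_ker, map_mul, map_inv, h3, inv_mul_cancel]))
      have h5 : (c⁻¹ * z) ^ m = 1 := Subtype.ext (Subtype.ext (by rw [hst] at h4; exact h4))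
      refine mem_of_odd_pow h1 hm ?_
      have h6 : (z : _ ⧸ commutator (O2 (GF F G))) = (c⁻¹ * z : O2 (GF F G)) := by
        rw [QuotientGroup.mk_mul, (QuotientGroup.eq_one_iff _).2 (inv_mem h2), one_mul]
      rw [← QuotientGroup.eq_one_iff, QuotientGroup.mk_pow, h6, ← QuotientGroup.mk_pow, h5]
      rfl
    | one => exact one_mem _
    | mul y z hy hz h1 h2 => exact mul_mem (a := (⟨y, hy⟩ : O2 (GF F G))) (b := ⟨z, hz⟩) h1 h2
    | inv y hy h1 => exact inv_mem (x := (⟨y, hy⟩ : O2 (GF F G))) h1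
  obtain ⟨y, hy, h1⟩ := hωm ((O2 (GF F G)).map (GF F G).subtype) fun y h1 h2 h3 =>
    ⟨⟨y, h1, h2⟩, subset_closure ⟨1, Subtype.ext (by rw [pow_one]; exact h3)⟩, rfl⟩
  have h2 : (⟨y, hy⟩ : O2 (GF F G)) ∈ σ.ker := by
    have := hX.2
    have : IsSimpleGroup S := e.symm.isSimpleGroup
    have h3 : σ ⟨y, hy⟩ ∈ center S := mem_center_iff.2 fun x => by
      obtain ⟨z, rfl⟩ := hs x
      rw [← map_mul, ← map_mul]
      exact congrArg σ (Subtype.ext (Subtype.ext (by
        have h4 := hωc (z : GF F G)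
        rwa [← h1] at h4)))
    rcases (inferInstance : (center S).Normal).eq_bot_or_eq_top with h | h
    · rwa [h, mem_bot] at h3
    · rw [← commutator_eq_bot_iff_center_eq_top, hS] at h
      exact absurd h top_ne_bot
  have h3 : 3 ∣ Nat.card σ.ker := by
    rw [← hω, ← h1]
    have h4 := orderOf_dvd_natCard (⟨_, h2⟩ : σ.ker)
    rwa [← orderOf_coe, ← orderOf_coe, ← orderOf_coe] at h4
  obtain ⟨φ, h4, -⟩ := Cv.exists_cover_odd ⟨hp, hs, hc, j, hM.mono (Nat.mul_dvd_mul_right h3 _)⟩ hXp π hπ hπk.le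
    (hπk ▸ hZ)
  have := O2_normal (GF F G)
  exact Cv.oddRat_of_surj φ h4 (oddRat_normal _ (O2_index _) hO)

end Cfsg.Agent.ODD.C2.E6c
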