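import Cfsg.Agent.ODD.C2.MnFin
import Cfsg.Agent.ODD.C2.HN1
import Cfsg.Agent.DL.Tw.Gr

/-!
# The 27-dimensional weight system of `E₆` (helper22)

`mn6`, the graph symmetry `gm6 k`, `sy6`, `good6`, `goodT6`.
-/

set_option autoImplicit false
set_option maxHeartbeats 400000
set_option linter.unusedSectionVars false

namespace Cfsg.Agent.ODD.C2.E6c

open CoxeterSystem Cfsg.Lie Cfsg.Agent.ChevalleyStructure.CoxeterGeom Cfsg.Agent.ChevalleyStructure.CoxeterGeomTypes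
  Cfsg.Agent.Tits.Roots Cfsg.Agent.Nodes Cfsg.Agent.Nodes.RGDChev Matrix Cfsg.Agent.DL Cfsg.Agent.DL.PP
open Cfsg.Agent.H493.TwE6Alg (dua isRoot_dua dua_sr dua_apply)

/-- the weights -/
def muL : List (List ℤ) := [[0, 0, 0, 0, 0, 0, 1], [-1, 0, 0, 0, 0, 0, 1], [-1, 0, -1, 0, 0, 0, 1],
  [-1, 0, -1, -1, 0, 0, 1], [-1, -1, -1, -1, 0, 0, 1], [-1, 0, -1, -1, -1, 0, 1], [-1, -1, -1, -1, -1, 0, 1],
  [-1, 0, -1, -1, -1, -1, 1], [-1, -1, -1, -2, -1, 0, 1], [-1, -1, -1, -1, -1, -1, 1], [-1, -1, -2, -2, -1, 0, 1],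
  [-1, -1, -1, -2, -1, -1, 1], [-2, -1, -2, -2, -1, 0, 1], [-1, -1, -2, -2, -1, -1, 1], [-1, -1, -1, -2, -2, -1, 1],
  [-2, -1, -2, -2, -1, -1, 1], [-1, -1, -2, -2, -2, -1, 1], [-2, -1, -2, -2, -2, -1, 1], [-1, -1, -2, -3, -2, -1, 1],
  [-2, -1, -2, -3, -2, -1, 1], [-1, -2, -2, -3, -2, -1, 1], [-2, -2, -2, -3, -2, -1, 1], [-2, -1, -3, -3, -2, -1, 1],
  [-2, -2, -3, -3, -2, -1, 1], [-2, -2, -3, -4, -2, -1, 1], [-2, -2, -3, -4, -3, -1, 1], [-2, -2, -3, -4, -3, -2, 1]]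

/-- the weights -/
def mu6 (a : Fin 27) (j : Fin 7) : ℤ := (muL.getD a []).getD j 0

/-- the simple coroots -/
def cw6 : Fin 6 → Fin 7 → ℤ := ![![2, 0, -1, 0, 0, 0, 1], ![0, 2, 0, -1, 0, 0, 0], ![-1, 0, 2, -1, 0, 0, 0],
  ![0, -1, -1, 2, -1, 0, 0], ![0, 0, 0, -1, 2, -1, 0], ![0, 0, 0, 0, -1, 2, 0]]

/-- the simple reflections -/
def sgL : List (List (Fin 27)) :=
  [[1, 0, 2, 3, 4, 5, 6, 7, 8, 9, 12, 11, 10, 15, 14, 13, 17, 16, 19, 18, 21, 20, 22, 23, 24, 25, 26],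
  [0, 1, 2, 4, 3, 6, 5, 9, 8, 7, 10, 11, 12, 13, 14, 15, 16, 17, 20, 21, 18, 19, 23, 22, 24, 25, 26],
  [0, 2, 1, 3, 4, 5, 6, 7, 10, 9, 8, 13, 12, 11, 16, 15, 14, 17, 18, 22, 20, 23, 19, 21, 24, 25, 26],
  [0, 1, 3, 2, 4, 5, 8, 7, 6, 11, 10, 9, 12, 13, 14, 15, 18, 19, 16, 17, 20, 21, 22, 24, 23, 25, 26],
  [0, 1, 2, 5, 6, 3, 4, 7, 8, 9, 10, 14, 12, 16, 11, 17, 13, 15, 18, 19, 20, 21, 22, 23, 25, 24, 26],
  [0, 1, 2, 3, 4, 7, 9, 5, 11, 6, 13, 8, 15, 10, 14, 12, 16, 17, 18, 19, 20, 21, 22, 23, 24, 26, 25]]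

/-- the simple reflections -/
def sg6 (i : Fin 6) (a : Fin 27) : Fin 27 := (sgL.getD i []).getD a 0

/-- the root lattice in the character lattice -/
def wt6 : (Fin 6 → ℤ) →+ (Fin 7 → ℤ) where
  toFun a := ![a 0, a 1, a 2, a 3, a 4, a 5, 0]
  map_zero' := by funext j; fin_cases j <;> rfl
  map_add' a b := by funext j; fin_cases j <;> rfl

theorem wt6_apply (a : Fin 6 → ℤ) : wt6 a = ![a 0, a 1, a 2, a 3, a 4, a 5, 0] := rfl

theorem cw6_eq : ∀ i j : Fin 6, cartanOf chevE6 6 i j = cw6 i j.castSucc := by decide +kernel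

theorem wt6_dot (a : Fin 6 → ℤ) (v : Fin 7 → ℤ) : wt6 a ⬝ᵥ v = ∑ j : Fin 6, v j.castSucc * a j := by
  simp only [wt6_apply, dotProduct, Fin.sum_univ_succ, Fin.sum_univ_zero]
  simp
  ring

/-- pairs of weights whose differences are the simple roots -/
def spL : Fin 7 → Fin 27 × Fin 27 := ![(0, 1), (3, 4), (1, 2), (2, 3), (3, 5), (5, 7), (0, 0)]

theorem span6 : ∀ j : Fin 7, ∑ a, ((if a = (spL j).1 then 1 else 0) - if a = (spL j).2 ∧ j ≠ 6 then 1 else 0 : ℤ) • mu6 a =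
    Pi.single j 1 := by decide +kernel

/-- **The weights of the 27-dimensional module.** -/
def mn6 : Mn (cartanOf chevE6 6) (Fin 7) (Fin 27) where
  wt := wt6
  cw := cw6
  pair i a := by
    rw [wt6_dot, pairing]
    exact Finset.sum_congr rfl fun j _ => by rw [cw6_eq]
  μ := mu6
  inj := by
    have h : ∀ a b : Fin 27, mu6 a = mu6 b → a = b := by decide +kernel
    exact h
  σ := sg6
  hσ := by decide +kernel
  bd := by decide +kernel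
  nt := by decide +kernel
  span j := ⟨_, span6 j⟩

/-- the Coxeter system -/
noncomputable abbrev cs6 : CoxeterSystem CoxeterMatrix.E₆ CoxeterMatrix.E₆.Group := CoxeterMatrix.E₆.toCoxeterSystem

theorem hp6 : IsType chevE6 6 CoxeterMatrix.E₆ := RGDTwE6.hp

theorem hc6 : IsCartan CoxeterMatrix.E₆ (cartanOf chevE6 6) := hp6.isCartan

theorem finW6 : Finite CoxeterMatrix.E₆.Group := finite_W hp6 cs6

attribute [local instance] finW6

set_option backward.isDefEq.respectTransparency false in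
theorem laced6 : ∀ i j, CoxeterMatrix.E₆ i j ≠ 4 ∧ CoxeterMatrix.E₆ i j ≠ 6 := by decide +kernel

/-- the duality on the weights -/
def piL : List (Fin 27) :=
  [26, 25, 24, 23, 22, 21, 19, 20, 17, 18, 15, 16, 12, 13, 14, 10, 11, 8, 9, 6, 7, 5, 4, 3, 2, 1, 0]

theorem piL_piL : ∀ a : Fin 27, piL.getD (piL.getD a 0 : Fin 27) 0 = a := by decide +kernel

/-- the duality on the weights -/
def pi27 : Equiv.Perm (Fin 27) := ⟨fun a => piL.getD a 0, fun a => piL.getD a 0, piL_piL, piL_piL⟩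

/-- the duality on the character lattice -/
def B6 : Matrix (Fin 7) (Fin 7) ℤ := !![0, 0, 0, 0, 0, 1, 0; 0, 1, 0, 0, 0, 0, 0; 0, 0, 0, 0, 1, 0, 0;
  0, 0, 0, 1, 0, 0, 0; 0, 0, 1, 0, 0, 0, 0; 1, 0, 0, 0, 0, 0, 0; 2, 2, 3, 4, 3, 2, -1]

theorem B6_sq : B6 * B6 = 1 := by decide +kernel

theorem mu6_B6 : ∀ a, mu6 (pi27 a) ᵥ* B6 = -mu6 a := by decide +kernel

theorem wt6_B6 (a : Fin 6 → ℤ) : wt6 (dua a) ᵥ* B6 = wt6 a := by
  funext j
  rw [wt6_apply, wt6_apply, dua_apply]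
  fin_cases j <;> simp [B6, vecMul, dotProduct, Fin.sum_univ_succ]

variable (k : Type) [Field k] [CharP k 2]

/-- the graph automorphism -/
abbrev gm6 : MulAut (GL (Fin 27) k) := MulAut.conj (pm k pi27) * itA (Fin 27) k

theorem sy6 : mn6.Sy cs6 hc6 (gm6 k) dua B6 :=
  mn6.sy_pm_it (fun a b h => by
    have h1 := congrArg (· ᵥ* B6) h
    simpa [vecMul_vecMul, B6_sq] using h1) (isRoot_dua cs6) mu6_B6 wt6_B6

variable {k} [IsAlgClosed k] (hk : ∀ a : k, ∃ j, 0 < j ∧ a ^ 2 ^ j = a) {e : ℕ} (he : 0 < e)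

theorem good_of {α : MulAut (GL (Fin 27) k)} {g : (Fin 6 → ℤ) → Fin 6 → ℤ} {B : Matrix (Fin 7) (Fin 7) ℤ}
    (S : mn6.Sy cs6 hc6 α g B) (hα : IsOfFinOrder α) {π : Fin 6 → Fin 6} (hπ : ∀ i, g (sr i) = sr (π i)) :
    Good (mn6.datT hk he S hα) :=
  have h := mn6.datT_qs hk he S hα hπ
  ⟨h, ⟨0, fun i => wt6 (sr i), fun (b : Fin 6 → ℤ) (i : Fin 6) => by
    show wt6 b ⬝ᵥ wt6 (sr i) = (2 : ℕ) ^ 0 * b i
    rw [wt6_dot, wt6_apply]
    fin_cases i <;> simp [sr, Fin.sum_univ_succ]⟩, hn_of_sl _ h laced6 (e := e) fun _ _ => rfl⟩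

theorem good6 : Good (mn6.dat cs6 hc6 hk he) := good_of hk he _ _ (π := id) fun _ => rfl

theorem goodT6 : Good (mn6.datT hk he (sy6 k) (Mn.fin_pm_it _)) := good_of hk he _ _ dua_sr

end Cfsg.Agent.ODD.C2.E6c
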