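import Cfsg.Agent.ODD.C2.E6cMn
import Cfsg.Agent.ODD.C2.E6cCore
import Cfsg.Agent.Nodes.SimplyLaced
import Cfsg.Agent.ChevalleyStructure.StBasic
import Cfsg.Agent.S1054
import Cfsg.Agent.S1077
import Cfsg.Agent.S1097

/-!
# The 27-dimensional representation of the Steinberg group of type `E₆` in characteristic two (helper22)

`psi6 k : chevE6.SteinbergGroup k →* GL (Fin 27) k`; `Th k θ` : the map onto the Chevalley group.
-/

set_option autoImplicit false
set_option maxHeartbeats 400000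
set_option linter.unusedSectionVars false

namespace Cfsg.Agent.ODD.C2.E6c

open CoxeterSystem Cfsg.Lie Cfsg.Agent.ChevalleyStructure Cfsg.Agent.ChevalleyStructure.CoxeterGeom
  Cfsg.Agent.ChevalleyStructure.CoxeterGeomTypes Cfsg.Agent.Tits.Roots Cfsg.Agent.Nodes Cfsg.Agent.Nodes.RGDChev
  Cfsg.Agent.Nodes.Coroot Cfsg.Agent.DL Cfsg.Agent.KFacts.RgdChevCoord
open scoped commutatorElement

attribute [local instance] finW6

section gen

variable {I : Type} [Fintype I] [DecidableEq I] {A : I → I → ℤ} {R N : Type} [Fintype R] [DecidableEq R] [Fintype N]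
  [DecidableEq N] (m : Mn A R N) {K : Type} [Field K] [CharP K 2]
  {W : Type} [Group W] [Finite W] {M : CoxeterMatrix I} {cs : CoxeterSystem M W} {h : IsCartan M A}

/-- the coroot elements -/
noncomputable def hw (a : I → ℤ) (s : Kˣ) : GL N K :=
  m.x K a s * m.x K (-a) (s⁻¹ : Kˣ) * m.x K a s * (m.x K a 1 * m.x K (-a) 1 * m.x K a 1)

theorem x_sq {a : I → ℤ} (ha : IsRoot cs h a) (u : K) : m.x K a u * m.x K a u = 1 := by
  rw [← m.x_add, CharTwo.add_self_eq_zero, m.x_zero ha]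

variable (cs h) in
include cs h in
theorem hw_sr (i : I) (s : Kˣ) : hw m (sr i) s = m.τ K (coch (m.cw i) s) := by
  have h1 : ∀ s : Kˣ, m.x K (sr i) s * m.x K (-sr i) (s⁻¹ : Kˣ) * m.x K (sr i) s =
      m.τ K (coch (m.cw i) s) * m.n K h i := fun s => by
    rw [m.rk1 cs (h := h) i s, ← mul_assoc, ← mul_assoc, ← mul_assoc, x_sq m (isRoot_sr cs h i), one_mul, mul_assoc,
      x_sq m (isRoot_sr cs h i), mul_one]
  have h2 := h1 1
  rw [inv_one, Units.val_one] at h2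
  rw [hw, h1, h2, map_one, map_one, one_mul, mul_assoc, m.n_n, mul_one]

theorem exists_hw {a : I → ℤ} (ha : IsRoot cs h a) : ∃ φ : Kˣ →* (R → Kˣ), ∀ s, hw m a s = m.τ K (φ s) := by
  obtain ⟨w, i, rfl⟩ := ha
  induction w using cs.simple_induction_left with
  | one => exact ⟨coch (m.cw i), fun s => by rw [map_one, Module.End.one_apply, hw_sr m cs h]⟩
  | mul_simple_left w j ih =>
    obtain ⟨φ, hφ⟩ := ih
    have ha : IsRoot cs h (rep cs h w (sr i)) := ⟨w, i, rfl⟩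
    refine ⟨φ * ((coch (m.cw j)).comp ((chr (m.wt (sr j))).comp φ))⁻¹, fun s => ?_⟩
    refine Eq.trans ?_ (m.n_τ (h := h) j (φ s))
    rw [← hφ, hw, hw, rep_mul_apply, ← map_neg]
    simp only [← m.n_x j ha, ← m.n_x j ha.neg]
    group

theorem odd_tor (hk : ∀ a : K, ∃ j, 0 < j ∧ a ^ 2 ^ j = a) (c : R → Kˣ) : ∃ n, Odd n ∧ c ^ n = 1 := by
  choose j h1 h2 using fun i => hk (c i)
  refine ⟨∏ i, (2 ^ j i - 1), Finset.prod_induction _ Odd (fun _ _ => Odd.mul) odd_one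
    fun i _ => Mn.odd_two_pow_sub_one (h1 i), funext fun i => ?_⟩
  obtain ⟨b, hb⟩ := Finset.dvd_prod_of_mem (fun i => 2 ^ j i - 1) (Finset.mem_univ i)
  have h3 : c i ^ (2 ^ j i - 1) = 1 := by
    rw [← mul_left_inj (c i), ← pow_succ, Nat.sub_add_cancel Nat.one_le_two_pow, one_mul]
    exact Units.ext (h2 i)
  rw [Pi.pow_apply, hb, pow_mul, h3, one_pow, Pi.one_apply]

end gen

theorem pow_mem_of_norm {Y : Type*} [Group Y] {N : Subgroup Y} {g t : Y} (hg : g ∈ N)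
    (ht : t ∈ Subgroup.normalizer (N : Set Y)) (n : ℕ) : (g * t) ^ n * (t ^ n)⁻¹ ∈ N := by
  induction n with
  | zero => simp
  | succ n ih =>
    have h1 := mul_mem ih ((Subgroup.mem_normalizer_iff.1 (pow_mem ht n) g).1 hg)
    have h2 : (g * t) ^ (n + 1) * (t ^ (n + 1))⁻¹ = (g * t) ^ n * (t ^ n)⁻¹ * (t ^ n * g * (t ^ n)⁻¹) := by
      rw [pow_succ, pow_succ]; group
    rwa [h2]

/-- the Cartan numbers -/
def cn6 (r s : ℕ) : ℤ := ∑ i : Fin 6, vec chevE6 6 s i * chevE6.cartan i r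

/-- the shape of the commutator formula -/
def okC (r s : ℕ) : Bool :=
  let L := chevE6.commTerms r s
  let v := (L.headD (0, 0, 0, 0)).1
  s == r || s == chevE6.neg r || (L.isEmpty && decide (0 ≤ cn6 r s)) ||
    (decide (cn6 r s = -1) && (decide (L = [(v, 1, 1, 1)]) || decide (L = [(v, -1, 1, 1)])))

theorem okC_all : ∀ r < 72, ∀ s < 72, okC r s = true := by decide +kernel

theorem comm_tab {r s : ℕ} (hr : r < 72) (hs : s < 72) (h1 : s ≠ r) (h2 : s ≠ chevE6.neg r) :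
    (chevE6.commTerms r s = [] ∧ 0 ≤ cn6 r s) ∨
    (cn6 r s = -1 ∧ ∃ v, chevE6.commTerms r s = [(v, 1, 1, 1)] ∨ chevE6.commTerms r s = [(v, -1, 1, 1)]) := by
  have h := okC_all r hr s hs
  simp only [okC, Bool.or_eq_true, beq_iff_eq, h1, h2, false_or, Bool.and_eq_true, List.isEmpty_iff,
    decide_eq_true_eq] at h
  exact h.imp id fun h => ⟨h.1, _, h.2⟩

theorem root6 {r : ℕ} (hr : r < chevE6.nroots) : IsRoot cs6 hc6 (vec chevE6 6 r) := (isRoot_iff hp6 cs6 _).2 ⟨r, hr, rfl⟩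

theorem cpr6 {r : ℕ} (hr : r < chevE6.nroots) (s : ℕ) : cpr cs6 hc6 (vec chevE6 6 s) (vec chevE6 6 r) = cn6 r s := by
  rw [SimplyLaced.cpr_eq_sum cs6 hc6 (fun i j => (laced6 i j).1) (fun i j => (laced6 i j).2) _ (root6 hr)]
  exact Finset.sum_congr rfl fun i _ => by rw [pairing_vec hp6 i hr]

variable (k : Type) [Field k] [CharP k 2]

/-- the images of the generators -/
noncomputable def gen6 (r : ℕ) (t : k) : GL (Fin 27) k := if r < chevE6.nroots then mn6.x k (vec chevE6 6 r) t else 1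

variable {k}

theorem gen6_lt {r : ℕ} (hr : r < chevE6.nroots) (t : k) : gen6 k r t = mn6.x k (vec chevE6 6 r) t := if_pos hr

theorem gen6_comm {r s : ℕ} (t u : k) (hr : r < chevE6.nroots) (hs : s < chevE6.nroots) (h1 : s ≠ r)
    (h2 : s ≠ chevE6.neg r) : (gen6 k s u)⁻¹ * (gen6 k r t)⁻¹ * gen6 k s u * gen6 k r t =
      ((chevE6.commWord k r s t u).map fun p => gen6 k p.1 p.2).prod := by
  have h3 : (gen6 k s u)⁻¹ * (gen6 k r t)⁻¹ * gen6 k s u * gen6 k r t =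
      ⁅mn6.x k (vec chevE6 6 s) u, mn6.x k (vec chevE6 6 r) t⁆ := by
    rw [gen6_lt hr, gen6_lt hs, commutatorElement_def, mn6.x_inv (root6 hr), mn6.x_inv (root6 hs)]
  rw [h3, ChevalleyDatum.commWord]
  rcases comm_tab hr hs h1 h2 with ⟨h4, h5⟩ | ⟨h4, v, h5⟩
  · rw [h4, mn6.comm_nonneg (root6 hs) (root6 hr) (by rwa [cpr6 hr])]
    rfl
  · rw [← cpr6 hr] at h4
    rw [mn6.comm_one (root6 hs) (root6 hr) h4 (by
      rwa [SimplyLaced.cpr_symm cs6 hc6 (fun i j => (laced6 i j).1) (fun i j => (laced6 i j).2) (root6 hr) (root6 hs)])]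
    have h6 : ∀ c : ℤ, chevE6.commTerms r s = [(v, c, 1, 1)] →
        ∀ y, gen6 k v y = mn6.x k (vec chevE6 6 s + vec chevE6 6 r) y := fun c hc y => by
      obtain ⟨a1, -, -, -, -, a2⟩ := RootVec.commTerms_rt hp6.checked (hc ▸ List.mem_singleton_self _ :
        (v, c, 1, 1) ∈ chevE6.commTerms r s)
      rw [gen6_lt a1]
      congr 1
      funext i
      rw [Pi.add_apply, vec_apply, vec_apply, vec_apply, a2, Nat.cast_one, one_mul, one_mul, add_comm]
    rcases h5 with h5 | h5 <;> rw [h5] <;> simp [h6 _ h5, CharTwo.neg_eq, mul_comm]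

theorem gen6_h {r : ℕ} (hr : r < chevE6.nroots) (s : kˣ) :
    ((chevE6.hWord r (s : k)).map fun p => gen6 k p.1 p.2).prod = hw mn6 (vec chevE6 6 r) s := by
  have hr' := NPerm.neg_lt hp6.inList hr
  simp [ChevalleyDatum.hWord, ChevalleyDatum.nWord, gen6_lt hr, gen6_lt hr', vec_neg hp6 hr, hw, CharTwo.neg_eq,
    mul_assoc]

variable (k) in
/-- **The 27-dimensional representation.** -/
noncomputable def psi6 : chevE6.SteinbergGroup k →* GL (Fin 27) k :=
  StBasic.lift chevE6 (gen6 k) (fun _ _ h => if_neg h)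
    (fun _ _ _ hr => by rw [gen6_lt hr, gen6_lt hr, gen6_lt hr, mn6.x_add])
    (fun _ _ t u hr hs h1 h2 => gen6_comm t u hr hs h1 h2) fun r t₁ t₂ hr h1 h2 => by
      obtain ⟨φ, hφ⟩ := exists_hw mn6 (K := k) (root6 hr)
      have h3 := gen6_h hr (Units.mk0 t₁ h1 * Units.mk0 t₂ h2)
      rw [hφ, map_mul, map_mul, ← hφ, ← hφ, ← gen6_h hr, ← gen6_h hr] at h3
      exact h3.symm

theorem psi6_gen' (r : ℕ) (t : k) : psi6 k (chevE6.stGen k r t) = gen6 k r t := StBasic.lift_stGen _ _ _ _ _ _ r t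

theorem psi6_gen {r : ℕ} (hr : r < chevE6.nroots) (t : k) :
    psi6 k (chevE6.stGen k r t) = mn6.x k (vec chevE6 6 r) t := by rw [psi6_gen', gen6_lt hr]

theorem x_mem_range {a : Fin 6 → ℤ} (ha : IsRoot cs6 hc6 a) (u : k) : mn6.x k a u ∈ (psi6 k).range := by
  obtain ⟨r, hr, rfl⟩ := (isRoot_iff hp6 cs6 a).1 ha
  exact ⟨_, psi6_gen hr u⟩

theorem st_ind {H : Subgroup (chevE6.SteinbergGroup k)} (h : ∀ r < chevE6.nroots, ∀ t, chevE6.stGen k r t ∈ H)
    (s : chevE6.SteinbergGroup k) : s ∈ H := by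
  have h1 : ⊤ ≤ H := by
    rw [← StBasic.closure_stGen, Subgroup.closure_le]
    rintro _ ⟨r, t, hr, rfl⟩
    exact h r hr t
  exact h1 trivial

theorem pow_mem_range (hk : ∀ a : k, ∃ j, 0 < j ∧ a ^ 2 ^ j = a) {y : GL (Fin 27) k} (hy : y ∈ mn6.G k cs6 hc6) :
    ∃ n, Odd n ∧ y ^ n ∈ (psi6 k).range := by
  have h1 : ∀ c, ∀ g ∈ (psi6 k).range, mn6.τ k c * g * (mn6.τ k c)⁻¹ ∈ (psi6 k).range := by
    rintro c _ ⟨s, rfl⟩
    refine st_ind (H := (psi6 k).range.comap ((MulAut.conj (mn6.τ k c)).toMonoidHom.comp (psi6 k))) (fun r hr t => ?_) s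
    show mn6.τ k c * psi6 k _ * (mn6.τ k c)⁻¹ ∈ (psi6 k).range
    rw [psi6_gen hr, mn6.τ_x (root6 hr)]
    exact x_mem_range (root6 hr) _
  have h2 : (mn6.τ k).range ≤ Subgroup.normalizer ((psi6 k).range : Set (GL (Fin 27) k)) := by
    rintro _ ⟨c, rfl⟩
    refine Subgroup.mem_normalizer_iff.2 fun g => ⟨h1 c g, fun hg => ?_⟩
    simpa [mul_assoc] using h1 c⁻¹ _ hg
  have h3 : y ∈ (((psi6 k).range ⊔ (mn6.τ k).range : Subgroup _) : Set (GL (Fin 27) k)) :=
    mn6.G_le (H := (psi6 k).range ⊔ (mn6.τ k).range) (fun c => Subgroup.mem_sup_right ⟨c, rfl⟩)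
      (fun a ha u => Subgroup.mem_sup_left (x_mem_range ha u)) hy
  rw [Subgroup.coe_mul_of_right_le_normalizer_left _ _ h2] at h3
  obtain ⟨g, hg, _, ⟨c, rfl⟩, rfl⟩ := h3
  obtain ⟨n, hn, h4⟩ := odd_tor hk c
  have h5 := pow_mem_of_norm hg (h2 ⟨c, rfl⟩) n
  rw [← map_pow, h4, map_one, inv_one, mul_one] at h5
  exact ⟨n, hn, h5⟩

variable (k) in
/-- the map onto the Chevalley group -/
structure Th (θ : chevE6.SteinbergGroup k →* chevE6.group k) : Prop where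
  gen : ∀ r < chevE6.nroots, ∀ t, θ (chevE6.stGen k r t) = xc hp6 (vec chevE6 6 r) t
  ker : ∀ s, psi6 k s = 1 → θ s = 1
  cen : ∀ s, θ s = 1 → s ∈ Subgroup.center (chevE6.SteinbergGroup k)
  tor : ∀ s, θ s = 1 → ∃ c, mn6.τ k c = psi6 k s

variable (k) in
theorem exists_th : ∃ θ, Th k θ := by
  obtain ⟨θ, h1, h2, h3⟩ := S1077.result (K := k) chevE6 hp6.inList
  have := (S1054.result (F := k) chevE6 (by simp)).1
  refine ⟨θ, fun r hr t => Subtype.ext (Units.ext (by rw [h3 r t hr, coe_xc hp6 hr]; rfl)),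
    ker_le _ θ h1 h2.le (a := chevE6.stGen k 56 1) (b := chevE6.stGen k 42 1) fun h => ?_,
    fun s hs => h2.le hs, fun s hs => ?_⟩
  · have a1 : 56 < chevE6.nroots := by decide +kernel
    have a2 : 42 < chevE6.nroots := by decide +kernel
    have a3 : cn6 42 56 = -1 ∧ cn6 56 42 = -1 := by decide +kernel
    rw [← cpr6 a1, ← cpr6 a2] at a3
    rw [psi6_gen a1, psi6_gen a2, ← commutatorElement_eq_one_iff_mul_comm,
      mn6.comm_one (root6 a1) (root6 a2) a3.1 a3.2, ← mn6.x_zero (Mn.root_add (root6 a1) (root6 a2) a3.1)] at h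
    simpa using mn6.x_inj (Mn.root_add (root6 a1) (root6 a2) a3.1) h
  · refine ((Subgroup.closure_le ((mn6.τ k).range.comap (psi6 k))).2 ?_) (S1097.result chevE6 hp6.inList θ h3 hs)
    rintro _ ⟨i, t, hi, ht, rfl⟩
    have hr := NPerm.simple_lt hp6.inList hi
    obtain ⟨φ, hφ⟩ := exists_hw mn6 (K := k) (root6 hr)
    refine ⟨φ (Units.mk0 t ht), ?_⟩
    rw [← hφ, ← gen6_h hr]
    refine Eq.trans ?_ (StBasic.map_wd chevE6 (psi6 k) _).symm
    simp only [psi6_gen', Units.val_mk0]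

end Cfsg.Agent.ODD.C2.E6c
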