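import Cfsg.Agent.ODD.C2.MnFin
import Cfsg.Agent.ODD.C2.HN1
import Cfsg.Agent.Nodes.RootsA
import Mathlib.LinearAlgebra.Matrix.Transvection

/-!
# `GL` and `GU` in characteristic two as groups of fixed points, I : the data (helper23)

`mnA n` : the weights of the natural module of `GL (n + 1)`; `G_top`; `γA`, `syA` : the graph automorphism;
`goodL`, `goodU`.
-/

set_option autoImplicit false
set_option maxHeartbeats 400000
set_option linter.unusedSectionVars false

namespace Cfsg.Agent.ODD.C2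

open CoxeterSystem Cfsg.Agent.ChevalleyStructure.CoxeterGeom Cfsg.Agent.Tits.Roots Cfsg.Agent.Nodes.Coroot Matrix
  Cfsg.Agent.LangThm Cfsg.Agent.DL Cfsg.Agent.DL.PP Cfsg.Agent.Nodes.RootsA
open Cfsg.Agent.LieRecognition.BNCox (cA cA_apply)

namespace GlA

variable {n : ℕ}

theorem ext_sr {β : Type*} [AddCommGroup β] {f g : (Fin n → ℤ) → β} (hf : ∀ a b, f (a + b) = f a + f b)
    (hg : ∀ a b, g (a + b) = g a + g b) (h : ∀ j, f (sr j) = g (sr j)) (a : Fin n → ℤ) : f a = g a := by
  have h1 : AddMonoidHom.mk' f hf = AddMonoidHom.mk' g hg := AddMonoidHom.functions_ext _ _ _ fun i x => by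
    have e : (Pi.single i x : Fin n → ℤ) = x • sr i := by rw [sr, ← Pi.single_smul, smul_eq_mul, mul_one]
    rw [e, map_zsmul, map_zsmul]
    exact congrArg (fun t => x • t) (h i)
  exact DFunLike.congr_fun h1 a

/-- the roots in the coordinates of the diagonal torus -/
def wtA (n : ℕ) : (Fin n → ℤ) →+ (Fin (n + 1) → ℤ) :=
  AddMonoidHom.mk' (fun a j => Nodes.RootsA.co a j) fun a b => funext fun j => by
    simp only [Nodes.RootsA.co, Pi.add_apply]
    split_ifs <;> ring

theorem wtA_rtA (a b : Fin (n + 1)) : wtA n (rtA a b) = Pi.single a 1 - Pi.single b 1 := by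
  funext j
  rw [Pi.sub_apply, Pi.single_apply, Pi.single_apply]
  exact co_rtA a b j

/-- the simple coroots -/
def cwA (i : Fin n) : Fin (n + 1) → ℤ := Pi.single i.castSucc 1 - Pi.single i.succ 1

theorem wtA_sr (i : Fin n) : wtA n (sr i) = cwA i := by rw [← rtA_sr, wtA_rtA, cwA]

theorem single_cwA (a : Fin (n + 1)) (i : Fin n) : (Pi.single a 1 : Fin (n + 1) → ℤ) ⬝ᵥ cwA i =
    (if a = i.castSucc then 1 else 0) - if a = i.succ then 1 else 0 := by
  rw [single_dotProduct, one_mul, cwA, Pi.sub_apply, Pi.single_apply, Pi.single_apply]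

theorem ne_cs (i : Fin n) : i.castSucc ≠ i.succ := (Fin.castSucc_lt_succ (i := i)).ne

end GlA

open GlA

/-- **The natural module of `GL (n + 1)`.** -/
def mnA (n : ℕ) : Mn (AA n) (Fin (n + 1)) (Fin (n + 1)) where
  wt := wtA n
  cw := cwA
  pair i := ext_sr (f := fun a => wtA n a ⬝ᵥ cwA i) (fun a b => by rw [map_add, add_dotProduct]) (pairing_add _ i)
    fun j => by
      rw [wtA_sr, sr, pairing_single, mul_one, cwA, sub_dotProduct, single_cwA, single_cwA, AA]
      simp only [Fin.ext_iff, Fin.val_castSucc, Fin.val_succ]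
      split_ifs <;> omega
  μ a := Pi.single a 1
  inj a b h := by
    by_contra hab
    have h1 := congrFun h a
    simp only [Pi.single_eq_same, Pi.single_eq_of_ne hab] at h1
    exact one_ne_zero h1
  σ i := Equiv.swap i.castSucc i.succ
  hσ i a := by
    rw [wtA_sr, single_cwA, cwA]
    by_cases h1 : a = i.castSucc
    · rw [h1, Equiv.swap_apply_left, if_pos rfl, if_neg (ne_cs i)]
      simp
    · by_cases h2 : a = i.succ
      · rw [h2, Equiv.swap_apply_right, if_pos rfl, if_neg (ne_cs i).symm]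
        simp
      · rw [Equiv.swap_apply_of_ne_of_ne h1 h2, if_neg h1, if_neg h2]
        simp
  bd i a := by
    rw [single_cwA]
    split_ifs <;> simp
  nt i := ⟨i.succ, by rw [single_cwA, if_pos rfl, if_neg (ne_cs i).symm]; rfl⟩
  span j := ⟨Pi.single j 1, by
    rw [Finset.sum_eq_single j (fun b _ hb => by rw [Pi.single_eq_of_ne hb, zero_smul]) (by simp), Pi.single_eq_same,
      one_smul]⟩

/-- the Coxeter system of type `A n` -/
noncomputable abbrev csA (n : ℕ) : CoxeterSystem (cA n) (cA n).Group := (cA n).toCoxeterSystem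

theorem finite_WA (n : ℕ) : Finite (cA n).Group := finite_W (csA n) (isCartan n)

/-- the graph symmetry of the root lattice -/
def gA (n : ℕ) (a : Fin n → ℤ) : Fin n → ℤ := a ∘ Fin.rev

/-- the graph symmetry of the torus -/
def BA (n : ℕ) : Matrix (Fin (n + 1)) (Fin (n + 1)) ℤ := of fun i j => if i = j.rev then -1 else 0

/-- the graph automorphism -/
abbrev γA (n : ℕ) (k : Type) [Field k] : MulAut (GL (Fin (n + 1)) k) :=
  MulAut.conj (pm k Fin.revPerm) * itA (Fin (n + 1)) k

namespace GlA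

variable {n : ℕ}

theorem st_rtA {a b : Fin (n + 1)} (hab : a ≠ b) (c d : Fin (n + 1)) :
    (mnA n).St (rtA a b) c d ↔ a = c ∧ b = d := by
  show (Pi.single c 1 : Fin (n + 1) → ℤ) = Pi.single d 1 + wtA n (rtA a b) ↔ _
  rw [wtA_rtA]
  constructor
  · intro h
    have h1 := congrFun h a
    have h2 := congrFun h b
    simp only [Pi.add_apply, Pi.sub_apply, Pi.single_apply, if_neg hab, if_neg hab.symm, if_true] at h1 h2
    constructor
    · by_contra e
      rw [if_neg e] at h1
      split_ifs at h1 <;> omega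
    · by_contra e
      rw [if_neg e] at h2
      split_ifs at h2 <;> omega
  · rintro ⟨rfl, rfl⟩
    abel

theorem vecMul_BA (v : Fin (n + 1) → ℤ) : v ᵥ* BA n = fun j => -v j.rev := by
  funext j
  simp [vecMul, dotProduct, BA]

theorem gA_rtA (a b : Fin (n + 1)) : gA n (rtA a b) = rtA b.rev a.rev := by
  funext j
  have := a.2
  have := b.2
  have := j.2
  simp only [gA, Function.comp_apply, rtA_apply, Fin.val_rev]
  split_ifs <;> omega

theorem gA_sr (i : Fin n) : gA n (sr i) = sr i.rev := by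
  rw [← rtA_sr, gA_rtA, ← rtA_sr, Fin.rev_succ, Fin.rev_castSucc]

theorem gA_gA (a : Fin n → ℤ) : gA n (gA n a) = a := funext fun j => congrArg a (Fin.rev_rev j)

theorem gA_add (a b : Fin n → ℤ) : gA n (a + b) = gA n a + gA n b := rfl

theorem single_BA (a : Fin (n + 1)) : (Pi.single a.rev 1 : Fin (n + 1) → ℤ) ᵥ* BA n = -Pi.single a 1 := by
  rw [vecMul_BA]
  funext j
  rw [Pi.neg_apply, Pi.single_apply, Pi.single_apply, if_congr Fin.rev_inj rfl rfl]

variable {K : Type} [Field K]

theorem coe_τA (c : Fin (n + 1) → Kˣ) :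
    ((mnA n).τ K c : Matrix (Fin (n + 1)) (Fin (n + 1)) K) = diagonal fun a => (c a : K) := by
  rw [Mn.coe_τ]
  exact congrArg diagonal (funext fun a => congrArg Units.val (chr_single a c))

theorem coe_xA {a b : Fin (n + 1)} (hab : a ≠ b) (u : K) :
    ((mnA n).x K (rtA a b) u : Matrix (Fin (n + 1)) (Fin (n + 1)) K) = transvection a b u := by
  have := finite_WA n
  ext c d
  rw [(mnA n).x_apply (isRoot_rtA (csA n) (isCartan n) hab), transvection, Matrix.add_apply, one_apply, single_apply,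
    if_congr (st_rtA hab c d) rfl rfl]

theorem γA_γA (y : GL (Fin (n + 1)) K) : γA n K (γA n K y) = y := by
  have h1 : pm K (Fin.revPerm : Equiv.Perm (Fin (n + 1))) * pm K Fin.revPerm = 1 := by
    rw [← map_mul, show (Fin.revPerm : Equiv.Perm (Fin (n + 1))) * Fin.revPerm = 1 from Equiv.ext Fin.rev_rev, map_one]
  rw [MulAut.mul_apply, MulAut.mul_apply, MulAut.conj_apply, MulAut.conj_apply, map_mul, map_mul, map_inv, itA_pm,
    itA_itA, ← mul_assoc, ← mul_assoc, h1, one_mul, mul_assoc, ← _root_.mul_inv_rev, h1, inv_one, mul_one]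

theorem γA_sq : γA n K ^ 2 = 1 := MulEquiv.ext fun y => by rw [sq]; exact γA_γA y

end GlA

attribute [local instance] finite_WA

variable {n : ℕ} {k : Type} [Field k] [CharP k 2]

/-- the algebraic group is `GL (n + 1)` -/
theorem G_top : (mnA n).G k (csA n) (isCartan n) = ⊤ := by
  refine top_unique fun y _ => ?_
  obtain ⟨g, hg, e⟩ := diagonal_transvection_induction_of_det_ne_zero
    (fun M => ∃ g ∈ (mnA n).G k (csA n) (isCartan n), (g : Matrix (Fin (n + 1)) (Fin (n + 1)) k) = M) y.1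
    (GeneralLinearGroup.det_ne_zero y)
    (fun D hD => ⟨_, (mnA n).τ_mem_G fun a => Units.mk0 (D a) fun h => hD (by
      rw [det_diagonal]
      exact Finset.prod_eq_zero (Finset.mem_univ a) h), coe_τA _⟩)
    (fun t => ⟨_, (mnA n).x_mem_G (isRoot_rtA (csA n) (isCartan n) t.hij) t.c, coe_xA t.hij t.c⟩)
    (by
      rintro _ _ - - ⟨g, hg, rfl⟩ ⟨g', hg', rfl⟩
      exact ⟨g * g', mul_mem hg hg', rfl⟩)
  rwa [← Units.ext e]

/-- the graph automorphism is a symmetry of the frame -/
theorem syA : (mnA n).Sy (csA n) (isCartan n) (γA n k) (gA n) (BA n) :=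
  (mnA n).sy_pm_it (fun v w h => by
      have h1 : v ᵥ* BA n = w ᵥ* BA n := h
      rw [vecMul_BA, vecMul_BA] at h1
      funext j
      simpa using congrFun h1 j.rev)
    (fun a ha => by
      obtain ⟨b, c, hbc, rfl⟩ := exists_of_isRoot _ _ ha
      rw [gA_rtA]
      exact isRoot_rtA _ _ fun e => hbc (Fin.rev_inj.1 e).symm)
    single_BA
    (ext_sr (f := fun a => wtA n (gA n a) ᵥ* BA n) (fun a b => by rw [gA_add, map_add, add_vecMul]) (map_add _)
      fun j => by
        rw [← rtA_sr, gA_rtA, wtA_rtA, sub_vecMul, single_BA, single_BA]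
        show _ = wtA n _
        rw [wtA_rtA]
        abel)

theorem czA (b : Fin n → ℤ) (i : Fin n) :
    (mnA n).wt b ⬝ᵥ (fun j : Fin (n + 1) => if j.val ≤ i.val then (1 : ℤ) else 0) = b i :=
  ext_sr (f := fun b => wtA n b ⬝ᵥ fun j : Fin (n + 1) => if j.val ≤ i.val then (1 : ℤ) else 0) (g := fun b => b i)
    (fun a b => by rw [map_add, add_dotProduct]) (fun _ _ => rfl) (fun j => by
      rw [wtA_sr, cwA, sub_dotProduct, single_dotProduct, single_dotProduct, sr, Pi.single_apply]
      simp only [Fin.ext_iff, Fin.val_castSucc, Fin.val_succ]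
      split_ifs <;> omega) b

theorem slA (i j : Fin n) : cA n i j ≠ 4 ∧ cA n i j ≠ 6 := by
  rw [cA_apply]
  unfold Cfsg.Agent.LieRecognition.CoxClass.mA
  split_ifs <;> omega

variable [IsAlgClosed k] (hk : ∀ a : k, ∃ j, 0 < j ∧ a ^ 2 ^ j = a) {e : ℕ} (he : 0 < e)

/-- the datum of `GL (n + 1) (2 ^ e)` -/
theorem goodL : Good ((mnA n).dat (csA n) (isCartan n) hk he) :=
  ⟨(mnA n).dat_qs hk he, ⟨0, _, fun b i => (czA b i).trans (by rw [pow_zero, one_mul])⟩,
    hn_of_sl _ ((mnA n).dat_qs hk he) slA (e := e) fun _ _ => rfl⟩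

theorem qsU : ((mnA n).datT hk he syA (Mn.fin_pm_it _)).QS := (mnA n).datT_qs hk he syA _ gA_sr

/-- the datum of `GU (n + 1) (2 ^ e)` -/
theorem goodU : Good ((mnA n).datT hk he syA (Mn.fin_pm_it _)) :=
  ⟨qsU hk he, ⟨0, _, fun b i => (czA b i).trans (by rw [pow_zero, one_mul])⟩,
    hn_of_sl _ (qsU hk he) slA (e := e) fun _ _ => rfl⟩

end Cfsg.Agent.ODD.C2
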