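import Cfsg.Agent.DL.Dat.Card

/-!
# Semilinear maps: fixed vectors span, and descent (helper33)
-/

set_option autoImplicit false
set_option linter.unusedSectionVars false

namespace Cfsg.Agent.ODD.C2

open Polynomial

variable {p : ℕ} [Fact p.Prime] {k : Type} [Field k] [CharP k p] {e : ℕ} {V : Type*} [AddCommGroup V] [Module k V]
  {Φ : V →+ V}

theorem iterate_smul (hΦ : ∀ (c : k) v, Φ (c • v) = c ^ p ^ e • Φ v) (c : k) (y : V) (j : ℕ) :
    Φ^[j] (c • y) = c ^ p ^ (e * j) • Φ^[j] y := by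
  induction j with
  | zero => simp
  | succ j ih => rw [Function.iterate_succ_apply', Function.iterate_succ_apply', ih, hΦ, ← pow_mul, ← pow_add,
      mul_add, mul_one]

/-- a periodic vector is a combination of fixed vectors -/
theorem mem_span_fix [IsAlgClosed k] (he : 0 < e) (hΦ : ∀ (c : k) v, Φ (c • v) = c ^ p ^ e • Φ v) {y : V} {d : ℕ}
    (hd : 0 < d) (hy : Φ^[d] y = y) : y ∈ Submodule.span k {v | Φ v = v} := by
  by_contra h
  obtain ⟨f, hf, hf0⟩ := Submodule.exists_dual_map_eq_bot_of_notMem h inferInstance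
  have hp : 1 < p := (Fact.out : p.Prime).one_lt
  have h1 : ∀ c : k, c ^ p ^ (e * d) = c → f (∑ j ∈ Finset.range d, Φ^[j] (c • y)) = 0 := by
    intro c hc
    rw [← Submodule.mem_bot k, ← hf0]
    refine Submodule.mem_map_of_mem (Submodule.subset_span ?_)
    have h2 := Finset.sum_range_succ' (fun j => Φ^[j] (c • y)) d
    rw [Finset.sum_range_succ, iterate_smul hΦ c y d, hc, hy, Function.iterate_zero_apply, add_left_inj] at h2
    show Φ _ = _
    rw [map_sum]
    exact (Finset.sum_congr rfl fun j _ => (Function.iterate_succ_apply' _ _ _).symm).trans h2.symm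
  have : Finite {a : k // a ^ p ^ (e * d) = a} := (DL.finite_pow_eq (Nat.mul_pos he hd)).to_subtype
  have := Fintype.ofFinite {a : k // a ^ p ^ (e * d) = a}
  have h2 : (∑ j ∈ Finset.range d, monomial (p ^ (e * j)) (f (Φ^[j] y))) = 0 := by
    refine eq_zero_of_natDegree_lt_card_of_eval_eq_zero _ (ι := {a : k // a ^ p ^ (e * d) = a})
      Subtype.val_injective (fun c => ?_) ?_
    · rw [← h1 c.1 c.2, eval_finsetSum, map_sum]
      exact Finset.sum_congr rfl fun j _ => by rw [eval_monomial, iterate_smul hΦ, map_smul, smul_eq_mul, mul_comm]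
    · rw [← Nat.card_eq_fintype_card, DL.card_pow_eq (Nat.mul_pos he hd)]
      refine lt_of_le_of_lt (natDegree_sum_le_of_forall_le _ _ (n := p ^ (e * (d - 1))) fun j hj => ?_)
        (Nat.pow_lt_pow_right hp (Nat.mul_lt_mul_of_pos_left (by omega) he))
      exact (natDegree_monomial_le _).trans (Nat.pow_le_pow_right hp.le
        (Nat.mul_le_mul_left _ (by have := Finset.mem_range.1 hj; omega)))
  have h3 := congrArg (coeff · 1) h2
  simp only [finsetSum_coeff, coeff_monomial, coeff_zero] at h3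
  rw [Finset.sum_eq_single 0 (fun j _ hj => if_neg (Nat.one_lt_pow (Nat.mul_pos he (Nat.pos_of_ne_zero hj)).ne' hp).ne')
    (fun h0 => absurd (Finset.mem_range.2 hd) h0), if_pos (by simp)] at h3
  exact hf h3

/-- descent: a fixed vector in the span of fixed vectors is a rational combination -/
theorem mem_closure_of_span (hΦ : ∀ (c : k) v, Φ (c • v) = c ^ p ^ e • Φ v) {S : Set V} (hS : ∀ v ∈ S, Φ v = v)
    (hS' : ∀ c : k, c ^ p ^ e = c → ∀ v ∈ S, c • v ∈ S) {z : V} (hz : Φ z = z) (h : z ∈ Submodule.span k S) :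
    z ∈ AddSubgroup.closure S := by
  obtain ⟨T, hT, h1, h2⟩ := exists_linearIndependent k S
  rw [← h1] at h
  obtain ⟨l, rfl⟩ := (Finsupp.mem_span_iff_linearCombination k T z).1 h
  have h0 : (0 : k) ^ p ^ e = 0 := zero_pow (pow_ne_zero _ (Fact.out : p.Prime).ne_zero)
  have h3 : Finsupp.linearCombination k ((↑) : T → V) (l.mapRange (· ^ p ^ e) h0) =
      Finsupp.linearCombination k ((↑) : T → V) l := by
    rw [← hz, Finsupp.linearCombination_apply, Finsupp.linearCombination_apply,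
      Finsupp.sum_mapRange_index (h := fun (b : T) (a : k) => a • (b : V)) fun _ => zero_smul _ _, map_finsuppSum]
    exact Finsupp.sum_congr fun b _ => by rw [hΦ, hS _ (hT b.2)]
  have h4 := h2 h3
  rw [Finsupp.linearCombination_apply]
  refine AddSubgroup.sum_mem _ fun b _ => AddSubgroup.subset_closure (hS' _ ?_ _ (hT b.2))
  exact (Finsupp.mapRange_apply (hf := h0)).symm.trans (DFunLike.congr_fun h4 b)

/-- the fixed vectors are sums of products of fixed vectors -/
theorem mem_closure_bilin {V₁ V₂ : Type*} [AddCommGroup V₁] [Module k V₁] [AddCommGroup V₂] [Module k V₂]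
    {Φ₁ : V₁ →+ V₁} {S₂ : Set V₂} (hΦ₁ : ∀ (c : k) v, Φ₁ (c • v) = c ^ p ^ e • Φ₁ v)
    (hΦ : ∀ (c : k) v, Φ (c • v) = c ^ p ^ e • Φ v) (β : V₁ →ₗ[k] V₂ →ₗ[k] V)
    (h₁ : ∀ v, v ∈ Submodule.span k {v | Φ₁ v = v}) (h₂ : ∀ w, w ∈ Submodule.span k S₂)
    (hβ : ∀ z, z ∈ Submodule.span k {z | ∃ v w, β v w = z}) (hf : ∀ v, Φ₁ v = v → ∀ w ∈ S₂, Φ (β v w) = β v w)
    {z : V} (hz : Φ z = z) : z ∈ AddSubgroup.closure {z | ∃ v, Φ₁ v = v ∧ ∃ w ∈ S₂, β v w = z} := by
  refine mem_closure_of_span hΦ ?_ ?_ hz ((Submodule.span_le.2 ?_ : _ ≤ _) (hβ z))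
  · rintro _ ⟨v, hv, w, hw, rfl⟩
    exact hf v hv w hw
  · rintro c hc _ ⟨v, hv, w, hw, rfl⟩
    exact ⟨c • v, by rw [hΦ₁, hc, hv], w, hw, by rw [map_smul, LinearMap.smul_apply]⟩
  · rintro _ ⟨v, w, rfl⟩
    have h3 := Submodule.apply_mem_map₂ β (h₁ v) (h₂ w)
    rw [Submodule.map₂_span_span] at h3
    exact h3

end Cfsg.Agent.ODD.C2
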