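import Cfsg.Agent.Nodes.Coroot

/-!
# Minuscule weight systems and their root matrices in characteristic two (helper89)

`Mn A R N` : a finite set `N` of weights `μ a : R → ℤ` which is permuted by the simple reflections, all pairings with
the simple coroots being `0, 1, -1`.  `E K x` is the matrix with entry `1` at `(a, c)` if `μ a = μ c + x`.
-/

set_option autoImplicit false
set_option maxHeartbeats 400000
set_option linter.unusedSectionVars false

namespace Cfsg.Agent.ODD.C2

open CoxeterSystem Cfsg.Agent.ChevalleyStructure.CoxeterGeom Cfsg.Agent.Tits.Roots Cfsg.Agent.Nodes.Coroot Matrix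

/-- A minuscule weight system. -/
structure Mn {I : Type} [Fintype I] [DecidableEq I] (A : I → I → ℤ) (R N : Type) [Fintype R] [DecidableEq R]
    [Fintype N] where
  wt : (I → ℤ) →+ (R → ℤ)
  cw : I → R → ℤ
  pair : ∀ i a, wt a ⬝ᵥ cw i = pairing A i a
  μ : N → R → ℤ
  inj : Function.Injective μ
  σ : I → N → N
  hσ : ∀ i a, μ (σ i a) = μ a - (μ a ⬝ᵥ cw i) • wt (sr i)
  bd : ∀ i a, μ a ⬝ᵥ cw i = 0 ∨ μ a ⬝ᵥ cw i = 1 ∨ μ a ⬝ᵥ cw i = -1
  nt : ∀ i, ∃ a, μ a ⬝ᵥ cw i = -1
  span : ∀ j, ∃ m : N → ℤ, ∑ a, m a • μ a = Pi.single j 1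

/-! ### algebra -/

section Alg

variable {K : Type*} [CommRing K] {𝔸 : Type*} [Ring 𝔸] [Algebra K 𝔸]

theorem one_add_mul {A : 𝔸} (hA : A * A = 0) (u v : K) : (1 + u • A) * (1 + v • A) = 1 + (u + v) • A := by
  simp only [mul_add, add_mul, smul_mul_assoc, mul_smul_comm, mul_one, one_mul, hA, smul_zero]
  module

theorem comm_sq (h2 : (2 : K) = 0) {A B : 𝔸} (hA : A * A = 0) (hB : B * B = 0) (h : B * A * B = 0) (u v : K) :
    (1 + u • A) * (1 + v • B) * (1 + u • A) * (1 + v • B) =
      1 + (u * v) • (A * B + B * A) + (u * u * v) • (A * B * A) := by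
  have h3 : ∀ X : 𝔸, X * B * B = 0 := fun X => by rw [mul_assoc, hB, mul_zero]
  have h4 : A * B * A * B = 0 := by rw [mul_assoc A, mul_assoc A, h, mul_zero]
  simp only [mul_add, add_mul, smul_mul_assoc, mul_smul_comm, mul_one, one_mul, hA, hB, h, h3, h4, smul_zero,
    zero_mul]
  linear_combination (norm := module) (u * h2) • A + (v * h2) • B + (u * v * h2) • (A * B)

theorem rank_one (h2 : (2 : K) = 0) {A B : 𝔸} (hA : A * A = 0) (h : A * B * A = A) {s t : K} (hst : s * t = 1) :
    (1 + s • A) * (s • A + t • B + 1 + A * B + B * A) * (1 + s • A) = 1 + t • B := by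
  have h1 : ∀ X : 𝔸, X * A * A = 0 := fun X => by rw [mul_assoc, hA, mul_zero]
  simp only [mul_add, add_mul, smul_mul_assoc, mul_smul_comm, mul_one, one_mul, ← mul_assoc, hA, h, h1, smul_zero,
    zero_mul]
  linear_combination (norm := module) (2 * s * h2 + s * hst + s * h2) • A + (h2 + hst) • (A * B) + (h2 + hst) • (B * A)

end Alg

namespace Mn

variable {I : Type} [Fintype I] [DecidableEq I] {A : I → I → ℤ} {R N : Type} [Fintype R] [DecidableEq R] [Fintype N]
  [DecidableEq N] (m : Mn A R N)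

/-- the Dynkin labels -/
def lam (a : N) (i : I) : ℤ := m.μ a ⬝ᵥ m.cw i

/-- `a = c + x` -/
def St (x : I → ℤ) (a c : N) : Prop := m.μ a = m.μ c + m.wt x

instance decSt (x : I → ℤ) (a c : N) : Decidable (m.St x a c) := inferInstanceAs (Decidable (_ = _))

/-- the reflection of the big lattice -/
def rf (i : I) (v : R → ℤ) : R → ℤ := v - (v ⬝ᵥ m.cw i) • m.wt (sr i)

theorem μ_σ (i : I) (a : N) : m.μ (m.σ i a) = m.rf i (m.μ a) := m.hσ i a

theorem rf_add (i : I) (v w : R → ℤ) : m.rf i (v + w) = m.rf i v + m.rf i w := by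
  rw [rf, rf, rf, add_dotProduct, add_smul]; abel

theorem pair_sr (i j : I) : m.wt (sr j) ⬝ᵥ m.cw i = A i j := by rw [m.pair, sr, pairing_single, mul_one]

variable {m}

theorem St.lam {x : I → ℤ} {a c : N} (h : m.St x a c) (k : I) : m.lam a k = m.lam c k + pairing A k x := by
  rw [Mn.lam, Mn.lam, show m.μ a = _ from h, add_dotProduct, m.pair]

theorem St.unique {x : I → ℤ} {a a' c : N} (h : m.St x a c) (h' : m.St x a' c) : a = a' := m.inj (h.trans h'.symm)

theorem st_zero {a c : N} : m.St 0 a c ↔ a = c := by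
  rw [St, map_zero, add_zero]
  exact m.inj.eq_iff

theorem st_neg {x : I → ℤ} {a c : N} : m.St (-x) a c ↔ m.St x c a := by
  rw [St, St, map_neg, ← sub_eq_add_neg, eq_sub_iff_add_eq, eq_comm]

variable {W : Type} [Group W] {M : CoxeterMatrix I} (cs : CoxeterSystem M W) (h : IsCartan M A) (m)

theorem rf_wt (i : I) (x : I → ℤ) : m.rf i (m.wt x) = m.wt (rep cs h (cs.simple i) x) := by
  rw [rep_simple_eq, map_sub, map_zsmul, rf, m.pair]

include h in
theorem rf_rf (i : I) (v : R → ℤ) : m.rf i (m.rf i v) = v := by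
  rw [rf, rf, sub_dotProduct, smul_dotProduct, m.pair_sr, h.diag, smul_eq_mul]
  module

include h in
theorem σ_σ (i : I) (a : N) : m.σ i (m.σ i a) = a := m.inj (by rw [μ_σ, μ_σ, m.rf_rf h])

/-- the simple reflections as permutations of the weights -/
def sp (i : I) : Equiv.Perm N := ⟨m.σ i, m.σ i, m.σ_σ h i, m.σ_σ h i⟩

theorem sp_apply (i : I) (a : N) : m.sp h i a = m.σ i a := rfl

theorem sp_braid (i j : I) : (m.sp h i * m.sp h j) ^ M i j = 1 := by
  by_cases hij : i = j
  · subst hij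
    rw [M.diagonal, pow_one]
    exact Equiv.ext (m.σ_σ h i)
  have key : ∀ (v : R → ℤ) (b : N) (x y x' y' : ℤ), m.μ b = v + x • m.wt (sr i) + y • m.wt (sr j) →
      (x' = -x - v ⬝ᵥ m.cw i - A i j * (-y - v ⬝ᵥ m.cw j - A j i * x)) → (y' = -y - v ⬝ᵥ m.cw j - A j i * x) →
      m.μ ((m.sp h i * m.sp h j) b) = v + x' • m.wt (sr i) + y' • m.wt (sr j) := by
    intro v b x y x' y' hb hx hy
    rw [Equiv.Perm.mul_apply, sp_apply, sp_apply, μ_σ, μ_σ, hb, hx, hy]
    simp only [rf, add_dotProduct, sub_dotProduct, smul_dotProduct, m.pair_sr, h.diag, smul_eq_mul]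
    module
  refine Equiv.ext fun a => m.inj ?_
  have hz : m.μ a = m.μ a + (0 : ℤ) • m.wt (sr i) + (0 : ℤ) • m.wt (sr j) := by simp
  have s1 := key _ _ _ _ _ _ hz rfl rfl
  have s2 := key _ _ _ _ _ _ s1 rfl rfl
  have s3 := key _ _ _ _ _ _ s2 rfl rfl
  have s4 := key _ _ _ _ _ _ s3 rfl rfl
  have s5 := key _ _ _ _ _ _ s4 rfl rfl
  have s6 := key _ _ _ _ _ _ s5 rfl rfl
  generalize m.sp h i * m.sp h j = P at s1 s2 s3 s4 s5 s6 ⊢
  rcases h.rel i j hij with ⟨hm, hp, hq⟩ | ⟨hm, hp, hq⟩ | ⟨hm, ⟨hp, hq⟩ | ⟨hp, hq⟩⟩ | ⟨hm, ⟨hp, hq⟩ | ⟨hp, hq⟩⟩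
  all_goals
    rw [hm]
    simp only [pow_succ', pow_zero, mul_one, Equiv.Perm.mul_apply, Equiv.Perm.one_apply]
    first
      | rw [s6, hp, hq]; module
      | rw [s4, hp, hq]; module
      | rw [s3, hp, hq]; module
      | rw [s2, hp, hq]; module

variable {m} in
theorem St.refl {x : I → ℤ} {a c : N} (hs : m.St x a c) (i : I) :
    m.St (rep cs h (cs.simple i) x) (m.σ i a) (m.σ i c) := by
  rw [St, μ_σ, μ_σ, ← m.rf_wt cs h, ← rf_add, show m.μ a = _ from hs]

theorem st_refl (x : I → ℤ) (a c : N) (i : I) :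
    m.St (rep cs h (cs.simple i) x) (m.σ i a) (m.σ i c) ↔ m.St x a c := by
  refine ⟨fun hs => ?_, fun hs => hs.refl cs h i⟩
  have := hs.refl cs h i
  rwa [← rep_mul_apply, simple_mul_simple_self, map_one, Module.End.one_apply, m.σ_σ h, m.σ_σ h] at this

theorem st_σ (i : I) (a : N) : m.St ((-m.lam a i) • sr i) (m.σ i a) a := by
  rw [St, m.hσ, map_zsmul, neg_smul, ← sub_eq_add_neg, lam]

variable [Fintype W]

/-- twice the scalar product with a weight -/
noncomputable def phi (a : N) (x : I → ℤ) : ℤ := ∑ k, x k * (m.lam a k * form cs h (sr k) (sr k))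

theorem phi_add (a : N) (x y : I → ℤ) : m.phi cs h a (x + y) = m.phi cs h a x + m.phi cs h a y := by
  simp only [phi, Pi.add_apply, add_mul, Finset.sum_add_distrib]

theorem phi_smul (a : N) (c : ℤ) (x : I → ℤ) : m.phi cs h a (c • x) = c * m.phi cs h a x := by
  simp only [phi, Pi.smul_apply, smul_eq_mul, Finset.mul_sum, mul_assoc]

theorem phi_neg (a : N) (x : I → ℤ) : m.phi cs h a (-x) = -m.phi cs h a x := by
  rw [← neg_one_smul ℤ x, phi_smul, neg_one_mul]

theorem phi_sr (a : N) (i : I) : m.phi cs h a (sr i) = m.lam a i * form cs h (sr i) (sr i) := by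
  rw [phi, Finset.sum_eq_single i (fun k _ hk => by rw [sr_ne hk, zero_mul]) (by simp), sr_self, one_mul]

variable {m} in
theorem St.phi {x : I → ℤ} {a c : N} (hs : m.St x a c) (y : I → ℤ) :
    m.phi cs h a y = m.phi cs h c y + 2 * form cs h x y := by
  rw [form_eq_sum, Finset.mul_sum, Mn.phi, Mn.phi, ← Finset.sum_add_distrib]
  refine Finset.sum_congr rfl fun k _ => ?_
  rw [hs.lam, mul_left_comm, mul_left_comm 2, two_form]
  ring

theorem phi_refl (a : N) (i : I) (x : I → ℤ) :
    m.phi cs h (m.σ i a) (rep cs h (cs.simple i) x) = m.phi cs h a x := by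
  have h1 := two_form cs h i x
  rw [(m.st_σ i a).phi cs h, form_smul_left, rep_simple_eq, form_sub_right, form_smul_right, sub_eq_add_neg,
    phi_add, phi_neg, phi_smul, phi_sr, form_comm cs h (sr i) x]
  linear_combination (-m.lam a i) * h1

variable {cs h}

theorem key {x : I → ℤ} (hx : IsRoot cs h x) :
    (∀ c, (m.phi cs h c x = 0 ∨ m.phi cs h c x = form cs h x x ∨ m.phi cs h c x = -form cs h x x) ∧
      (m.phi cs h c x = -form cs h x x → ∃ a, m.St x a c)) ∧ ∃ c, m.phi cs h c x = -form cs h x x := by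
  obtain ⟨w, i, rfl⟩ := hx
  induction w using cs.simple_induction_left with
  | one =>
    rw [map_one, Module.End.one_apply]
    have hp := form_pos cs h (sr_ne_zero i)
    refine ⟨fun c => ?_, ?_⟩
    · rw [phi_sr]
      refine ⟨?_, fun e => ⟨m.σ i c, ?_⟩⟩
      · rcases m.bd i c with e | e | e <;> rw [lam, e] <;> simp
      · have h1 : m.lam c i = -1 := mul_right_cancel₀ hp.ne' (e.trans (neg_one_mul _).symm)
        simpa [h1] using m.st_σ i c
    · obtain ⟨c, hc⟩ := m.nt i
      exact ⟨c, by rw [phi_sr, lam, hc, neg_one_mul]⟩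
  | mul_simple_left w j ih =>
    rw [rep_mul_apply, form_rep]
    obtain ⟨h1, c, hc⟩ := ih
    refine ⟨fun c => ?_, m.σ j c, by rw [phi_refl, hc]⟩
    rw [← m.σ_σ h j c, phi_refl]
    refine ⟨(h1 _).1, fun e => ?_⟩
    obtain ⟨a, ha⟩ := (h1 _).2 e
    exact ⟨_, ha.refl cs h j⟩

theorem bound {x : I → ℤ} (hx : IsRoot cs h x) (c : N) :
    m.phi cs h c x = 0 ∨ m.phi cs h c x = form cs h x x ∨ m.phi cs h c x = -form cs h x x := ((m.key hx).1 c).1

variable {m} in
theorem St.eq {x : I → ℤ} (hx : IsRoot cs h x) {a c : N} (hs : m.St x a c) : m.phi cs h c x = -form cs h x x := by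
  have h1 := hs.phi cs h x
  have h2 := m.bound hx a
  have h3 := m.bound hx c
  have h4 := form_pos cs h hx.ne_zero
  omega

theorem exists_st {x : I → ℤ} (hx : IsRoot cs h x) : ∃ a c, m.St x a c :=
  let ⟨h1, c, hc⟩ := m.key hx
  let ⟨a, ha⟩ := (h1 c).2 hc
  ⟨a, c, ha⟩

/-! ### matrices -/

variable (K : Type*) [CommRing K]

/-- the root matrix -/
def E (x : I → ℤ) : Matrix N N K := of fun a c => if m.St x a c then 1 else 0

theorem E_apply (x : I → ℤ) (a c : N) : m.E K x a c = if m.St x a c then 1 else 0 := rfl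

theorem mul_E {y : I → ℤ} (X : Matrix N N K) (a : N) {b c : N} (hs : m.St y b c) : (X * m.E K y) a c = X a b := by
  rw [mul_apply, Finset.sum_eq_single b (fun b' _ hb => by rw [E_apply, if_neg fun e => hb (e.unique hs), mul_zero])
    (by simp), E_apply, if_pos hs, mul_one]

theorem mul_E_zero {y : I → ℤ} (hy : IsRoot cs h y) (X : Matrix N N K) (a : N) {c : N}
    (hc : m.phi cs h c y ≠ -form cs h y y) : (X * m.E K y) a c = 0 := by
  rw [mul_apply]
  exact Finset.sum_eq_zero fun b _ => by rw [E_apply, if_neg fun e => hc (e.eq hy), mul_zero]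

theorem EE {x y : I → ℤ} (hx : IsRoot cs h x) (hy : IsRoot cs h y) (a c : N) : (m.E K x * m.E K y) a c =
    if m.St (x + y) a c ∧ m.phi cs h c y = -form cs h y y ∧
      m.phi cs h c x + 2 * form cs h x y = -form cs h x x then 1 else 0 := by
  by_cases hc : m.phi cs h c y = -form cs h y y
  · obtain ⟨b, hb⟩ := ((m.key hy).1 c).2 hc
    have h1 : m.St x a b ↔ m.St (x + y) a c := by
      rw [St, St, show m.μ b = _ from hb, map_add, add_assoc, add_comm (m.wt y)]
    rw [m.mul_E K _ a hb, E_apply]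
    refine if_congr ⟨fun e => ⟨h1.1 e, hc, ?_⟩, fun e => h1.2 e.1⟩ rfl rfl
    rw [form_comm, ← hb.phi cs h, e.eq hx]
  · rw [m.mul_E_zero K hy _ a hc, if_neg fun e => hc e.2.1]

theorem EEE {x y z : I → ℤ} (hx : IsRoot cs h x) (hy : IsRoot cs h y) (hz : IsRoot cs h z) (a c : N) :
    (m.E K x * m.E K y * m.E K z) a c =
    if m.St (x + y + z) a c ∧ m.phi cs h c z = -form cs h z z ∧
      m.phi cs h c y + 2 * form cs h y z = -form cs h y y ∧
      m.phi cs h c x + 2 * form cs h x z + 2 * form cs h x y = -form cs h x x then 1 else 0 := by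
  by_cases hc : m.phi cs h c z = -form cs h z z
  · obtain ⟨b, hb⟩ := ((m.key hz).1 c).2 hc
    have h1 : m.St (x + y) a b ↔ m.St (x + y + z) a c := by
      rw [St, St, show m.μ b = _ from hb, map_add _ (x + y), add_assoc, add_comm (m.wt z)]
    rw [m.mul_E K _ a hb, m.EE K hx hy]
    refine if_congr (and_congr h1 ?_) rfl rfl
    rw [hb.phi cs h, hb.phi cs h, form_comm cs h z, form_comm cs h z]
    simp only [hc, true_and]
  · rw [m.mul_E_zero K hz _ a hc, if_neg fun e => hc e.2.1]

theorem E_sq {x : I → ℤ} (hx : IsRoot cs h x) : m.E K x * m.E K x = 0 := by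
  ext a c
  have := form_pos cs h hx.ne_zero
  rw [m.EE K hx hx, if_neg fun e => by omega, Matrix.zero_apply]

theorem E_mul_zero {x y : I → ℤ} (hx : IsRoot cs h x) (hy : IsRoot cs h y) (h0 : 0 < form cs h x y) :
    m.E K x * m.E K y = 0 := by
  ext a c
  have := form_pos cs h hx.ne_zero
  have := m.bound hx c
  rw [m.EE K hx hy, if_neg fun e => by omega, Matrix.zero_apply]

theorem E_comm {x y : I → ℤ} (hx : IsRoot cs h x) (hy : IsRoot cs h y) (h0 : 0 ≤ form cs h x y) :
    m.E K x * m.E K y = m.E K y * m.E K x := by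
  ext a c
  have := form_pos cs h hx.ne_zero
  have := form_pos cs h hy.ne_zero
  have := m.bound hx c
  have := m.bound hy c
  rw [m.EE K hx hy, m.EE K hy hx, add_comm y, form_comm cs h y x]
  exact if_congr (and_congr_right fun _ => by omega) rfl rfl

theorem EFE {x : I → ℤ} (hx : IsRoot cs h x) : m.E K x * m.E K (-x) * m.E K x = m.E K x := by
  ext a c
  rw [m.EEE K hx hx.neg hx, add_neg_cancel, zero_add, E_apply, phi_neg]
  simp only [form_neg_left, form_neg_right, neg_neg]
  exact if_congr ⟨fun e => e.1, fun e => ⟨e, by have := e.eq hx; omega⟩⟩ rfl rfl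

theorem E_ne_zero [Nontrivial K] {x : I → ℤ} (hx : IsRoot cs h x) : m.E K x ≠ 0 := by
  obtain ⟨a, c, e⟩ := m.exists_st hx
  intro h0
  have := congrFun (congrFun h0 a) c
  rw [E_apply, if_pos e] at this
  exact one_ne_zero this

/-- `y` is not shorter than `x` and `x + y` is the reflection of `x` -/
theorem E_add {x y : I → ℤ} (hx : IsRoot cs h x) (hy : IsRoot cs h y) (hz : IsRoot cs h (x + y))
    (h1 : 2 * form cs h x y = -form cs h y y)
    (h2 : form cs h y y = form cs h x x ∨ form cs h y y = 2 * form cs h x x) :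
    m.E K x * m.E K y + m.E K y * m.E K x = m.E K (x + y) := by
  ext a c
  have := form_pos cs h hx.ne_zero
  have := m.bound hx c
  have := m.bound hy c
  rw [Matrix.add_apply, m.EE K hx hy, m.EE K hy hx, add_comm y, form_comm cs h y x, E_apply]
  by_cases e : m.St (x + y) a c
  · have h3 := e.eq hz
    simp only [phi_add, form_add_left, form_add_right, form_comm cs h y x] at h3
    simp only [e, true_and, if_true]
    split_ifs with h4 h5 h5
    · omega
    · exact add_zero _
    · exact zero_add _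
    · omega
  · simp [e]

theorem BAB {x y : I → ℤ} (hx : IsRoot cs h x) (hy : IsRoot cs h y) (h1 : 2 * form cs h x y = -form cs h y y) :
    m.E K y * m.E K x * m.E K y = 0 := by
  ext a c
  have := form_pos cs h hy.ne_zero
  rw [m.EEE K hy hx hy, form_comm cs h y x, if_neg fun e => by omega, Matrix.zero_apply]

theorem ABA {x y : I → ℤ} (hx : IsRoot cs h x) (hy : IsRoot cs h y) (hz : IsRoot cs h (x + y))
    (hw : IsRoot cs h (x + y + x)) (h1 : 2 * form cs h x y = -form cs h y y)
    (h2 : form cs h y y = 2 * form cs h x x) : m.E K x * m.E K y * m.E K x = m.E K (x + y + x) := by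
  ext a c
  have := form_pos cs h hx.ne_zero
  have := m.bound hx c
  have := m.bound hy c
  have h3 := m.bound hz c
  rw [m.EEE K hx hy hx, form_comm cs h y x, E_apply]
  refine if_congr ⟨fun e => e.1, fun e => ⟨e, ?_⟩⟩ rfl rfl
  have h4 := e.eq hw
  simp only [phi_add, form_add_left, form_add_right, form_comm cs h y x] at h3 h4
  omega

include m in
/-- the possible positions of two roots with a negative scalar product -/
theorem cases_neg {x y : I → ℤ} (hx : IsRoot cs h x) (hy : IsRoot cs h y) (hxy : x ≠ -y) (h0 : form cs h x y < 0) :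
    (cpr cs h x y = -1 ∧ (cpr cs h y x = -1 ∨ cpr cs h y x = -2)) ∨ (cpr cs h x y = -2 ∧ cpr cs h y x = -1) := by
  have h1 : ∀ {x y : I → ℤ}, IsRoot cs h x → IsRoot cs h y → form cs h x y < 0 →
      cpr cs h x y = -1 ∨ cpr cs h x y = -2 := fun {x y} hx hy h0 => by
    obtain ⟨a, c, e⟩ := m.exists_st hx
    have h2 := e.phi cs h y
    have h3 := m.bound hy a
    have h4 := m.bound hy c
    have h5 := form_pos cs h hy.ne_zero
    have h6 : 2 * form cs h x y = -1 * form cs h y y ∨ 2 * form cs h x y = -2 * form cs h y y := by omega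
    exact h6.imp (cpr_eq_of_form cs h hy) (cpr_eq_of_form cs h hy)
  have h2 := h1 hx hy h0
  have h3 := h1 hy hx (by rwa [form_comm])
  have h4 := two_form_cpr cs h x hy
  have h5 := two_form_cpr cs h y hx
  have h6 := form_pos cs h (fun e => hxy (eq_neg_of_add_eq_zero_left e) : x + y ≠ 0)
  simp only [form_add_left, form_add_right, form_comm cs h y x] at h5 h6
  rcases h2 with h2 | h2 <;> rcases h3 with h3 | h3 <;> rw [h2] at h4 <;> rw [h3] at h5 <;> omega

end Mn

end Cfsg.Agent.ODD.C2
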