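import Cfsg.Agent.ODD.C2.MnDat
import Cfsg.Agent.DL.Tw.Emb

/-!
# The datum of a minuscule weight system in characteristic two, II (helper89)

`m.G k cs h` ; `m.dat` : the split datum ; `Sy` : symmetries of the frame ; `m.datT` : the twisted data.
-/

set_option autoImplicit false
set_option maxHeartbeats 400000
set_option linter.unusedSectionVars false

namespace Cfsg.Agent.ODD.C2.Mn

open CoxeterSystem Cfsg.Agent.ChevalleyStructure.CoxeterGeom Cfsg.Agent.Tits.Roots Cfsg.Agent.Nodes.Coroot Matrix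
  Cfsg.Agent.Nodes.Reps Cfsg.Agent.Nodes.BNOf Cfsg.Agent.Nodes.Bruhat Cfsg.Agent.LangThm Cfsg.Agent.DL
open scoped commutatorElement

variable {I : Type} [Fintype I] [DecidableEq I] {A : I → I → ℤ} {R N : Type} [Fintype R] [DecidableEq R] [Fintype N]
  [DecidableEq N] (m : Mn A R N) {k : Type} [Field k] [CharP k 2]
  {W : Type} [Group W] [Finite W] {M : CoxeterMatrix I} {cs : CoxeterSystem M W} {h : IsCartan M A}

/-- the matrices over the field with `2 ^ e` elements -/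
noncomputable abbrev lv (N k : Type) [Fintype N] [DecidableEq N] [Field k] [CharP k 2] (e : ℕ) : Subgroup (GL N k) :=
  lev 2 (MonoidHom.id (GL N k)) e

theorem frob_x {a : I → ℤ} (ha : IsRoot cs h a) (e : ℕ) (u : k) : frob 2 e (m.x k a u) = m.x k a (u ^ 2 ^ e) := by
  rw [frob, m.map_x _ ha, iterateFrobenius_def]

theorem frob_τ (e : ℕ) (c : R → kˣ) : frob 2 e (m.τ k c) = m.τ k (c ^ 2 ^ e) := by
  rw [frob, m.map_τ]
  exact congrArg _ (funext fun j => Units.ext (iterateFrobenius_def _ _ _))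

theorem x_mem_lv {a : I → ℤ} (ha : IsRoot cs h a) {e : ℕ} {u : k} : m.x k a u ∈ lv N k e ↔ u ^ 2 ^ e = u := by
  rw [mem_lev, MonoidHom.id_apply, m.frob_x ha, (m.x_inj ha).eq_iff]

theorem τ_mem_lv {e : ℕ} {c : R → kˣ} : m.τ k c ∈ lv N k e ↔ c ^ 2 ^ e = c := by
  rw [mem_lev, MonoidHom.id_apply, m.frob_τ, (m.τ_inj k).eq_iff]

theorem pm_mem_lv (π : Equiv.Perm N) (e : ℕ) : pm k π ∈ lv N k e := map_pm _ π

theorem mem_Xe {a : I → ℤ} (ha : IsRoot cs h a) {e : ℕ} {y : GL N k} :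
    y ∈ m.X k a ⊓ lv N k e ↔ ∃ u, u ^ 2 ^ e = u ∧ m.x k a u = y :=
  ⟨fun ⟨h1, h2⟩ => let ⟨u, h3⟩ := (m.mem_X k).1 h1; ⟨u, (m.x_mem_lv ha).1 (h3 ▸ h2), h3⟩,
    fun ⟨u, h1, h2⟩ => h2 ▸ ⟨⟨u, rfl⟩, (m.x_mem_lv ha).2 h1⟩⟩

theorem n_mem_normalizer (e : ℕ) (i : I) :
    m.n k h i ∈ Subgroup.normalizer (((m.τ k).range ⊓ lv N k e : Subgroup (GL N k)) : Set (GL N k)) := by
  have h1 : ∀ t ∈ (m.τ k).range ⊓ lv N k e, m.n k h i * t * (m.n k h i)⁻¹ ∈ (m.τ k).range ⊓ lv N k e := by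
    rintro _ ⟨⟨c, rfl⟩, hc⟩
    exact ⟨⟨_, (m.n_τ i c).symm⟩, (lv N k e).mul_mem (mul_mem (pm_mem_lv _ e) hc) (inv_mem (pm_mem_lv _ e))⟩
  refine Subgroup.mem_normalizer_iff.2 fun t => ⟨h1 t, fun ht => ?_⟩
  have h2 := h1 _ ht
  rwa [← mul_assoc, ← mul_assoc, m.n_n, one_mul, mul_assoc, ← _root_.mul_inv_rev, m.n_n, inv_one, mul_one] at h2

theorem comm_mem {e : ℕ} {a b : I → ℤ} (ha : IsRoot cs h a) (hb : IsRoot cs h b) (h1 : cpr cs h a b = -1)
    (h2 : cpr cs h b a = -1 ∨ cpr cs h b a = -2) {u v : k} (hu : u ^ 2 ^ e = u) (hv : v ^ 2 ^ e = v) :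
    ⁅m.x k a u, m.x k b v⁆ ∈ btw cs h (fun a => m.X k a ⊓ lv N k e) a b := by
  have hz := root_add ha hb h1
  have h3 : m.x k (a + b) (u * v) ∈ btw cs h (fun a => m.X k a ⊓ lv N k e) a b :=
    le_btw hz one_pos one_pos (by simp) ((m.mem_Xe hz).2 ⟨_, by rw [mul_pow, hu, hv], rfl⟩)
  rcases h2 with h2 | h2
  · rwa [m.comm_one ha hb h1 h2]
  · rw [m.comm_two ha hb h1 h2]
    exact mul_mem h3 (le_btw (root_add' ha hb h2) two_pos one_pos (by module)
      ((m.mem_Xe (root_add' ha hb h2)).2 ⟨_, by rw [mul_pow, mul_pow, hu, hv], rfl⟩))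

variable (cs h) in
theorem rgd {e : ℕ} (he : 0 < e) : RGD cs h 2 ((m.τ k).range ⊓ lv N k e) (m.n k h) fun a => m.X k a ⊓ lv N k e where
  nsys := ⟨m.n_mem_normalizer e, fun i j => by
    rw [n, n, ← map_mul, ← map_pow, m.sp_braid, map_one]
    exact one_mem _⟩
  conj i a ha := by
    ext y
    rw [mem_cj, m.mem_Xe ha, m.mem_Xe (ha.act _)]
    refine exists_congr fun u => and_congr_right fun _ => ?_
    rw [← m.n_x i ha, mul_inv_eq_iff_eq_mul, mul_assoc, eq_inv_mul_iff_mul_eq]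
  tor a ha := by
    have h1 : ∀ t ∈ (m.τ k).range ⊓ lv N k e, ∀ y ∈ m.X k a ⊓ lv N k e, t * y * t⁻¹ ∈ m.X k a ⊓ lv N k e := by
      rintro _ ⟨⟨c, rfl⟩, hc⟩ _ ⟨⟨u, rfl⟩, hu⟩
      exact ⟨⟨_, (m.τ_x ha c _).symm⟩, (lv N k e).mul_mem (mul_mem hc hu) ((lv N k e).inv_mem hc)⟩
    intro t ht
    ext y
    rw [mem_cj]
    exact ⟨fun hy => by simpa [mul_assoc] using h1 t ht _ hy, fun hy => by simpa using h1 _ (inv_mem ht) _ hy⟩
  comm a b ha hb _ hab y hy z hz := by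
    have := Fintype.ofFinite W
    obtain ⟨u, hu, rfl⟩ := (m.mem_Xe ha).1 hy
    obtain ⟨v, hv, rfl⟩ := (m.mem_Xe hb).1 hz
    by_cases h0 : 0 ≤ cpr cs h a b
    · rw [m.comm_nonneg ha hb h0]
      exact one_mem _
    have h1 := two_form_cpr cs h a hb
    have h2 := mul_neg_of_neg_of_pos (not_le.1 h0) (form_pos cs h hb.ne_zero)
    rcases m.cases_neg ha hb hab (by omega) with ⟨h3, h4⟩ | ⟨h3, h4⟩
    · exact m.comm_mem ha hb h3 h4 hu hv
    · rw [← commutatorElement_inv]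
      exact inv_mem ((iSup_le fun z => le_btw_of (X := fun a => m.X k a ⊓ lv N k e) z.2.symm :
        btw cs h (fun a => m.X k a ⊓ lv N k e) b a ≤ _) (m.comm_mem hb ha h4 (.inr h3) hv hu))
  rk1 i y hy hne := by
    have hr := isRoot_sr cs h i
    obtain ⟨u, hu, rfl⟩ := (m.mem_Xe hr.neg).1 hy
    have h0 : u ≠ 0 := fun e => hne (by rw [e, m.x_zero hr.neg])
    have h1 : ((Units.mk0 u h0)⁻¹ : kˣ) ^ 2 ^ e = (Units.mk0 u h0)⁻¹ := by
      rw [inv_pow]
      exact congrArg _ (Units.ext hu)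
    have h2 := (m.mem_Xe hr).2 ⟨_, congrArg Units.val h1, rfl⟩
    exact ⟨_, h2, _, ⟨⟨_, rfl⟩, m.τ_mem_lv.2 (by rw [← map_pow, h1])⟩, _, h2, m.rk1 cs i (Units.mk0 u h0)⁻¹⟩
  pgrp i := fun ⟨_, ⟨u, rfl⟩, _⟩ => ⟨1, Subtype.ext (by
    show m.x k _ _ ^ 2 ^ 1 = 1
    rw [pow_one, sq, ← m.x_add, CharTwo.add_self_eq_zero, m.x_zero (isRoot_sr cs h i)])⟩
  notp i hp := by
    have := Fintype.ofFinite W
    have hr := isRoot_sr cs h i
    have h1 := (m.mem_Xe (e := e) hr).2 ⟨(1 : k), one_pow _, rfl⟩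
    have h2 := (m.mem_Xe (e := e) hr.neg).2 ⟨(1 : k), one_pow _, rfl⟩
    have h3 := m.rk1 (K := k) cs (h := h) i 1
    rw [map_one, map_one, mul_one, inv_one, Units.val_one] at h3
    have h4 := m.n_n (K := k) (h := h) i
    have h5 := m.x_inv (K := k) hr 1
    have h6 := m.x_inv (K := k) hr.neg 1
    obtain ⟨j, hj⟩ := hp ⟨_, mul_mem (Subgroup.mem_sup_left h1) (Subgroup.mem_sup_right h2)⟩
    have h7 : (m.x k (sr i) 1 * m.x k (-sr i) 1) ^ 2 ^ j = 1 := congrArg Subtype.val hj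
    have h8 := m.n_x (K := k) i hr 1
    rw [rep_simple_sr] at h8
    have h9 : m.x k (-sr i) 1 = m.x k (sr i) 1 := by
      generalize m.x k (-sr i) 1 = b, m.x k (sr i) 1 = a, m.n k h i = n at h3 h4 h5 h6 h7 h8 ⊢
      have e1 : a * a = 1 := by rw [← mul_inv_cancel a, h5]
      have e2 : (a * b) ^ 3 = 1 := by
        have e3 : a * b = n * a := by rw [h3, ← mul_assoc, ← mul_assoc, e1, one_mul]
        have e4 : a * b * a = n := by rw [e3, mul_assoc, e1, mul_one]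
        have e5 : b * a * b = n := by
          rw [← mul_left_inj a, mul_assoc, mul_assoc, ← mul_assoc a, e4, ← h8, inv_mul_cancel_right]
        calc (a * b) ^ 3 = (a * b * a) * (b * a * b) := by rw [pow_succ, sq]; group
          _ = 1 := by rw [e4, e5, h4]
      have e3 : (a * b) ^ Nat.gcd (2 ^ j) 3 = 1 := pow_gcd_eq_one.2 ⟨h7, e2⟩
      rw [Nat.Coprime.pow_left j (by norm_num), pow_one] at e3
      rw [← h5, eq_inv_iff_mul_eq_one, ← mul_right_inj a, ← mul_assoc, e3, one_mul, mul_one]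
    have h10 := congrArg Units.val h9
    rw [m.coe_x hr, m.coe_x hr.neg, add_right_inj, one_smul, one_smul] at h10
    have h11 := m.EFE k hr
    rw [h10, m.E_sq k hr, zero_mul] at h11
    exact m.E_ne_zero k hr h11.symm
  tcop := by
    have := Ex.finite_lev (p := 2) (ρ := MonoidHom.id (GL N k)) Function.injective_id he
    have : Finite ↥((m.τ k).range ⊓ lv N k e) := Finite.of_injective _ (Subgroup.inclusion_injective inf_le_right)
    exact Ex.coprime_card (m.τ_inj k) fun t ht => ht.1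

variable (k cs h) in
/-- the algebraic group -/
noncomputable def G : Subgroup (GL N k) := GG cs h (m.τ k).range (m.X k)

theorem G_le {H : Subgroup (GL N k)} (hτ : ∀ c, m.τ k c ∈ H) (hx : ∀ a, IsRoot cs h a → ∀ u, m.x k a u ∈ H) :
    m.G k cs h ≤ H :=
  sup_le (fun _ ⟨c, e⟩ => e ▸ hτ c) (RGD.Sup_le fun a ha _ ⟨u, e⟩ => e ▸ hx a ha u)

theorem τ_mem_G (c : R → kˣ) : m.τ k c ∈ m.G k cs h := Subgroup.mem_sup_left ⟨c, rfl⟩

theorem x_mem_G {a : I → ℤ} (ha : IsRoot cs h a) (u : k) : m.x k a u ∈ m.G k cs h :=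
  Subgroup.mem_sup_right (RGD.le_Sup (S := {x | IsRoot cs h x}) ha ⟨u, rfl⟩)

variable (cs h) in
/-- a symmetry of the frame -/
structure Sy (α : MulAut (GL N k)) (g : (I → ℤ) → I → ℤ) (B : Matrix R R ℤ) : Prop where
  root : ∀ a, IsRoot cs h a → IsRoot cs h (g a)
  x : ∀ a, IsRoot cs h a → ∀ u, α (m.x k a u) = m.x k (g a) u
  τ : ∀ c, α (m.τ k c) = m.τ k (mon B c)
  frob : ∀ e y, α (frob 2 e y) = frob 2 e (α y)

theorem sy_one : m.Sy (k := k) cs h 1 id 1 := ⟨fun _ => id, fun _ _ _ => rfl, fun c => by rw [mon_one]; rfl, fun _ _ => rfl⟩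

theorem sy_it : m.Sy cs h (itA N k) (fun a => -a) (-1) :=
  ⟨fun _ => IsRoot.neg, fun _ ha => m.itA_x ha, fun c => by rw [mon_neg, mon_one, m.itA_τ], fun _ y => (map_itA _ y).symm⟩

theorem sy_pm {π : Equiv.Perm N} {g : (I → ℤ) → I → ℤ} {B : Matrix R R ℤ} (hB : Function.Injective B.vecMul)
    (hr : ∀ a, IsRoot cs h a → IsRoot cs h (g a)) (hμ : ∀ a, m.μ (π a) ᵥ* B = m.μ a)
    (hg : ∀ a, m.wt (g a) ᵥ* B = m.wt a) : m.Sy cs h (MulAut.conj (pm k π)) g B where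
  root := hr
  x a ha u := m.pm_x ha (hr a ha) (fun b c => by
    rw [St, St, ← hB.eq_iff]
    show _ ᵥ* B = _ ᵥ* B ↔ _
    rw [add_vecMul, hμ, hμ, hg]) u
  τ c := m.pm_τ fun a => by rw [chr_mon, hμ]
  frob e y := by rw [MulAut.conj_apply, MulAut.conj_apply, map_mul, map_mul, map_inv, show frob 2 e (pm k π) = _ from map_pm _ π]

theorem sy_pm_it {π : Equiv.Perm N} {g : (I → ℤ) → I → ℤ} {B : Matrix R R ℤ} (hB : Function.Injective B.vecMul)
    (hr : ∀ a, IsRoot cs h a → IsRoot cs h (g a)) (hμ : ∀ a, m.μ (π a) ᵥ* B = -m.μ a)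
    (hg : ∀ a, m.wt (g a) ᵥ* B = m.wt a) : m.Sy cs h (MulAut.conj (pm k π) * itA N k) g B where
  root := hr
  x a ha u := by
    rw [MulAut.mul_apply, m.itA_x ha]
    exact m.pm_x ha.neg (hr a ha) (fun b c => by
      rw [st_neg, St, St, ← hB.eq_iff]
      show _ ᵥ* B = _ ᵥ* B ↔ _
      rw [add_vecMul, hμ, hμ, hg, neg_eq_iff_add_eq_zero, add_left_comm, neg_add_eq_zero]) u
  τ c := by
    rw [MulAut.mul_apply, m.itA_τ]
    exact m.pm_τ fun a => by rw [chr_mon, hμ, chr_neg, map_inv]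
  frob e y := by
    rw [MulAut.mul_apply, MulAut.mul_apply, MulAut.conj_apply, MulAut.conj_apply, map_mul, map_mul, map_inv,
      show frob 2 e (pm k π) = _ from map_pm _ π, show frob 2 e (itA N k y) = _ from map_itA _ y]
    rfl

theorem fin_pm (π : Equiv.Perm N) : IsOfFinOrder (MulAut.conj (pm k π)) :=
  (MulAut.conj.comp (pm k)).isOfFinOrder (isOfFinOrder_of_finite π)

theorem fin_it : IsOfFinOrder (itA N k) := isOfFinOrder_iff_pow_eq_one.2 ⟨2, two_pos, by rw [sq]; rfl⟩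

theorem fin_pm_it (π : Equiv.Perm N) : IsOfFinOrder (MulAut.conj (pm k π) * itA N k) :=
  Commute.isOfFinOrder_mul (MulEquiv.ext fun y => by
    rw [MulAut.mul_apply, MulAut.mul_apply, MulAut.conj_apply, MulAut.conj_apply, map_mul, map_mul, map_inv, itA_pm])
    (fin_pm π) fin_it

variable [IsAlgClosed k] {α : MulAut (GL N k)} {g : (I → ℤ) → I → ℤ} {B : Matrix R R ℤ}

variable {m} in
theorem Sy.commute (S : m.Sy cs h α g B) (e : ℕ) : Commute α (frA N k e) := MulEquiv.ext (S.frob e)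

/-- **The datum** for the Steinberg map `α ∘ Frob`. -/
noncomputable def datT (hk : ∀ a : k, ∃ j, 0 < j ∧ a ^ 2 ^ j = a) {e : ℕ} (he : 0 < e) (S : m.Sy cs h α g B)
    (hα : IsOfFinOrder α) : Datum 2 (MonoidHom.id (GL N k)) (α * frA N k e) (m.G k cs h) where
  amb := ⟨hk, Function.injective_id, by
    obtain ⟨d, hd, h1⟩ := isOfFinOrder_iff_pow_eq_one.1 hα
    exact ⟨d, d * e, hd, Nat.mul_pos hd he, fun y => by rw [(S.commute e).mul_pow, h1, one_mul, frA_pow]; rfl⟩⟩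
  I := I
  W := W
  M := M
  cs := cs
  A := A
  h := h
  R := R
  τ := m.τ k
  τ_inj := m.τ_inj k
  T := (m.τ k).range
  mem_T _ := Iff.rfl
  X := m.X k
  x := m.x k
  mem_X _ _ _ := Iff.rfl
  x_inj _ ha := m.x_inj ha
  x_add a _ := m.x_add k a
  n := m.n k h
  wt := m.wt
  cw := m.cw
  pair := m.pair
  tor _ ha := m.τ_x ha
  refl := m.n_τ
  rgd := ⟨1, one_pos, fun _ hj => m.rgd cs h (by omega)⟩
  G_eq := rfl
  polyx a ha i j := ⟨(if i = j then 1 else 0) + if m.St a i j then Polynomial.X else 0, fun u => by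
    rw [MonoidHom.id_apply, m.x_apply ha]
    split_ifs <;> simp⟩
  diag := ⟨1, m.μ, fun c => by rw [inv_one, one_mul, mul_one]; rfl⟩
  g := g
  ex _ := e
  g_root := S.root
  F_x a ha := ⟨1, one_ne_zero, fun u => by rw [MulAut.mul_apply, frA_apply, m.frob_x ha, S.x a ha, one_mul]⟩
  Mx := ((2 : ℤ) ^ e) • B
  F_τ c := by
    rw [MulAut.mul_apply, frA_apply, m.frob_τ, S.τ, mon_zsmul, map_pow, ← zpow_natCast]
    rfl

/-- **The split datum.** -/
noncomputable abbrev dat (cs : CoxeterSystem M W) (h : IsCartan M A) (hk : ∀ a : k, ∃ j, 0 < j ∧ a ^ 2 ^ j = a) {e : ℕ}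
    (he : 0 < e) : Datum 2 (MonoidHom.id (GL N k)) (1 * frA N k e) (m.G k cs h) :=
  m.datT hk he m.sy_one IsOfFinOrder.one

variable (hk : ∀ a : k, ∃ j, 0 < j ∧ a ^ 2 ^ j = a) {e : ℕ} (he : 0 < e)

theorem dat_qs : (m.dat cs h hk he).QS := fun _ _ h0 => h0

theorem datT_qs (S : m.Sy cs h α g B) (hα : IsOfFinOrder α) {π : I → I} (hπ : ∀ i, g (sr i) = sr (π i)) :
    (m.datT hk he S hα).QS := Datum.QSp.qs (π := π) hπ

end Cfsg.Agent.ODD.C2.Mn
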