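import Cfsg.Agent.ODD.C2.OmG
import Cfsg.Agent.LieClassical.OrthForms
import Cfsg.Agent.H390.PslSpec

/-!
# `Ω^±` in characteristic two as `G^F` (helper1)

`Tw f Q0 e r` : a base change of the form `Q0` over `F` to the split form; `Tw.emb`; **`IsD.embP`**, **`IsD.embM`**.
-/

set_option autoImplicit false
set_option linter.unusedSectionVars false
set_option linter.unnecessarySeqFocus false

namespace Cfsg.Agent.ODD.C2.Om

open CoxeterSystem Cfsg.Agent.ChevalleyStructure.CoxeterGeom Cfsg.Agent.Tits.Roots Matrix Cfsg.Agent.DL QuadraticMap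
open Cfsg.Agent.ClassicalGeometry.Reflection Cfsg.Agent.ClassicalGeometry.OrthCharTwo
  Cfsg.Agent.ClassicalGeometry.OrthDickson Cfsg.Agent.LieClassical.OrthForms Cfsg.Agent.LieClassical.OrthCore
open Cfsg.Agent.Nodes Cfsg.Agent.Nodes.TypeC Cfsg.Agent.LangThm

variable {ι : Type} [Fintype ι] [DecidableEq ι] {F : Type} [Field F] {k : Type} [Field k] [CharP k 2] {d : ℕ}

theorem nondeg_of {Q : QuadraticForm F (ι → F)} (h : Nondeg Q) : (polarBilin Q).Nondegenerate :=
  ⟨h, fun x hx => h x fun y => (polar_comm _ _ _).trans (hx y)⟩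

theorem mem_comm_iff [Finite F] [Nonempty ι] {Q : QuadraticForm F (ι → F)} (h2 : (2 : F) = 0)
    (hQ : (polarBilin Q).Nondegenerate) (h : (∃ θ : F, θ ≠ 0 ∧ θ ≠ 1) ∨ Fintype.card ι ≠ 4) (g : isometryGroup F Q) :
    g ∈ commutator (isometryGroup F Q) ↔ dsign Q g = 1 := by
  refine isometry_induction Q hQ h (fun g => g ∈ commutator (isometryGroup F Q) ↔ dsign Q g = 1)
    ⟨fun _ => dsign_one Q, fun _ => one_mem _⟩ (fun v hv g hg => ?_) g
  rw [Subgroup.mul_mem_iff_of_index_two (index_commutator_two Q h2 hQ h), dsign_refl_mul Q hQ, hg]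
  have h1 := refl_notMem_commutator Q hQ h v hv
  rcases Int.units_eq_one_or (dsign Q g) with e | e <;> simp [h1, e]

/-- a base change to the split form which turns the Frobenius map into `r ∘ Frob` -/
structure Tw (f : F →+* k) (Q0 : QuadraticForm F (ι → F)) (e : ℕ) (r : GL (Fin d × Bool) k) where
  P : Matrix (Fin d × Bool) ι k
  P' : Matrix ι (Fin d × Bool) k
  h1 : P * P' = 1
  h2 : P' * P = 1
  form : ∀ v : ι → F, QD k d (P *ᵥ (f ∘ v)) = f (Q0 v)
  fr : r.val * P.map (iterateFrobenius k 2 e) = P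

namespace Tw

variable {f : F →+* k} {Q0 : QuadraticForm F (ι → F)} {e : ℕ} {r : GL (Fin d × Bool) k} (T : Tw f Q0 e r)

theorem conj_mul (A B : Matrix ι ι F) :
    T.P * A.map f * T.P' * (T.P * B.map f * T.P') = T.P * (A * B).map f * T.P' := by
  rw [Matrix.map_mul]
  simp only [Matrix.mul_assoc]
  rw [← Matrix.mul_assoc T.P' T.P, T.h2, Matrix.one_mul]

theorem conj_one : T.P * (1 : Matrix ι ι F).map f * T.P' = 1 := by
  rw [Matrix.map_one _ (map_zero f) (map_one f), Matrix.mul_one, T.h1]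

/-- the embedding of the linear groups -/
def ψ : GL ι F →* GL (Fin d × Bool) k :=
  MonoidHom.mk' (fun g => ⟨T.P * (g : Matrix ι ι F).map f * T.P', T.P * ((g⁻¹ : GL ι F) : Matrix ι ι F).map f * T.P',
    by rw [T.conj_mul, Units.mul_inv, T.conj_one], by rw [T.conj_mul, Units.inv_mul, T.conj_one]⟩)
    fun _ _ => Units.ext (T.conj_mul _ _).symm

theorem coe_ψ (g : GL ι F) : (T.ψ g).val = T.P * (g : Matrix ι ι F).map f * T.P' := rfl

theorem conj_ψ (g : GL ι F) : T.P' * (T.ψ g).val * T.P = (g : Matrix ι ι F).map f := by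
  rw [coe_ψ]
  simp only [← Matrix.mul_assoc]
  rw [T.h2, Matrix.one_mul, Matrix.mul_assoc, T.h2, Matrix.mul_one]

theorem ψ_inj : Function.Injective T.ψ := fun g h e =>
  Units.ext (Matrix.map_injective f.injective (by simp only; rw [← T.conj_ψ, ← T.conj_ψ, e]))

/-- the rational vectors -/
def lv (v : ι → F) : Fin d × Bool → k := T.P *ᵥ (f ∘ v)

theorem lv_add (u v : ι → F) : T.lv (u + v) = T.lv u + T.lv v := by
  rw [lv, lv, lv, ← mulVec_add]
  exact congrArg _ (funext fun _ => map_add f _ _)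

theorem lv_sub_smul (u v : ι → F) (c : F) : T.lv (u - c • v) = T.lv u - f c • T.lv v := by
  rw [lv, lv, lv, ← mulVec_smul, ← mulVec_sub]
  exact congrArg _ (funext fun _ => by simp)

theorem QD_lv (v : ι → F) : QD k d (T.lv v) = f (Q0 v) := T.form v

theorem polar_lv (u v : ι → F) : polar (QD k d) (T.lv u) (T.lv v) = f (polar Q0 u v) := by
  rw [polar, polar, ← lv_add, QD_lv, QD_lv, QD_lv, map_sub, map_sub]

theorem ψ_lv (g : GL ι F) (v : ι → F) : (T.ψ g).val *ᵥ T.lv v = T.lv ((g : Matrix ι ι F) *ᵥ v) := by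
  rw [lv, lv, mulVec_mulVec, coe_ψ, Matrix.mul_assoc, T.h2, Matrix.mul_one, ← mulVec_mulVec]
  exact congrArg _ (funext fun i => (f.map_mulVec _ _ i).symm)

theorem ext_lv {A B : Matrix (Fin d × Bool) (Fin d × Bool) k} (h : ∀ v, A *ᵥ T.lv v = B *ᵥ T.lv v) : A = B := by
  have h1 : A * T.P = B * T.P := by
    ext a j
    have h2 := congrFun (h (Pi.single j 1)) a
    have h3 : f ∘ (Pi.single j 1 : ι → F) = Pi.single j 1 := funext fun i => by
      by_cases hi : i = j <;> simp [hi]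
    rwa [lv, h3, mulVec_mulVec, mulVec_mulVec, mulVec_single_one, mulVec_single_one] at h2
  rw [← Matrix.mul_one A, ← T.h1, ← Matrix.mul_assoc, h1, Matrix.mul_assoc, T.h1, Matrix.mul_one]

theorem lv_ne {v : ι → F} (hv : Q0 v ≠ 0) : QD k d (T.lv v) ≠ 0 := by
  rw [QD_lv]
  exact (map_ne_zero f).2 hv

theorem ψ_refl {v : ι → F} (hv : Q0 v ≠ 0) : T.ψ (reflGL Q0 v hv) = reflGL (QD k d) (T.lv v) (T.lv_ne hv) :=
  Units.ext (T.ext_lv fun w => by
    rw [ψ_lv, coe_reflGL, coe_reflGL, reflectionMatrix_mulVec, reflectionMatrix_mulVec, lv_sub_smul, QD_lv, polar_lv,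
      map_mul, map_inv₀])

theorem ψ_iso (hQ : (polarBilin Q0).Nondegenerate) (h : (∃ θ : F, θ ≠ 0 ∧ θ ≠ 1) ∨ Fintype.card ι ≠ 4)
    (g : isometryGroup F Q0) : ∃ hg : T.ψ g ∈ isometryGroup k (QD k d), dsign (QD k d) ⟨_, hg⟩ = dsign Q0 g := by
  refine isometry_induction Q0 hQ h (fun g => ∃ hg : T.ψ g ∈ isometryGroup k (QD k d), dsign (QD k d) ⟨_, hg⟩ = dsign Q0 g)
    ?_ ?_ g
  · have h1 : T.ψ (1 : isometryGroup F Q0) = 1 := map_one _
    refine ⟨h1 ▸ one_mem _, ?_⟩
    rw [dsign_one, ← dsign_one (QD k d)]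
    exact congrArg _ (Subtype.ext h1)
  · rintro v hv g ⟨hg, h1⟩
    have h2 : T.ψ (reflIso Q0 v hv * g : isometryGroup F Q0) =
        (reflIso (QD k d) (T.lv v) (T.lv_ne hv) * ⟨_, hg⟩ : isometryGroup k (QD k d)) :=
      (map_mul _ _ _).trans (congrArg (· * _) (T.ψ_refl hv))
    refine ⟨h2 ▸ Subtype.prop _, ?_⟩
    rw [dsign_refl_mul _ hQ, ← h1, ← dsign_refl_mul _ QD_nondeg _ _ (T.lv_ne hv)]
    exact congrArg _ (Subtype.ext h2)

theorem fr1 : T.P.map (iterateFrobenius k 2 e) = (r⁻¹).val * T.P := by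
  conv_rhs => rw [← T.fr, ← Matrix.mul_assoc, Units.inv_mul, Matrix.one_mul]

theorem fr2 : T.P'.map (iterateFrobenius k 2 e) = T.P' * r.val := by
  have h1 := congrArg (·.map (iterateFrobenius k 2 e)) T.h2
  simp only [Matrix.map_mul] at h1
  rw [Matrix.map_one _ (map_zero _) (map_one _), T.fr1] at h1
  have h2 := congrArg (· * (T.P' * r.val)) h1
  simp only [Matrix.mul_assoc] at h2
  rwa [← Matrix.mul_assoc T.P, T.h1, Matrix.one_mul, Units.inv_mul, Matrix.mul_one, Matrix.one_mul] at h2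

variable [Fintype F] (hF : Fintype.card F = 2 ^ e)
include hF

theorem ψ_fix (g : GL ι F) : r * frob 2 e (T.ψ g) * r⁻¹ = T.ψ g := by
  rw [mul_inv_eq_iff_eq_mul]
  refine Units.ext ?_
  have h1 : ((g : Matrix ι ι F).map f).map (iterateFrobenius k 2 e) = (g : Matrix ι ι F).map f := by
    ext i j
    show iterateFrobenius k 2 e (f _) = f _
    rw [iterateFrobenius_def, ← map_pow, ← hF, FiniteField.pow_card]
  show r.val * (T.P * (g : Matrix ι ι F).map f * T.P').map (iterateFrobenius k 2 e) =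
    T.P * (g : Matrix ι ι F).map f * T.P' * r.val
  rw [Matrix.map_mul, Matrix.map_mul, h1, T.fr2]
  simp only [← Matrix.mul_assoc]
  rw [T.fr]

theorem exists_map {y : GL (Fin d × Bool) k} (hy : r * frob 2 e y * r⁻¹ = y) :
    ∃ A : Matrix ι ι F, A.map f = T.P' * y.val * T.P := by
  have h1 : (T.P' * y.val * T.P).map (iterateFrobenius k 2 e) = T.P' * y.val * T.P := by
    have h2 : r.val * y.val.map (iterateFrobenius k 2 e) * (r⁻¹).val = y :=
      congrArg Units.val hy
    rw [Matrix.map_mul, Matrix.map_mul, T.fr1, T.fr2]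
    conv_rhs => rw [← h2]
    simp only [Matrix.mul_assoc]
  have h2 : ∀ i j, ∃ t, f t = (T.P' * y.val * T.P) i j := fun i j =>
    H390.PslSpec.mem_range_of_pow_card f (by rw [hF, ← iterateFrobenius_def]; exact congrFun (congrFun h1 i) j)
  choose A hA using h2
  exact ⟨Matrix.of A, Matrix.ext hA⟩

theorem exists_ψ {y : GL (Fin d × Bool) k} (hy : r * frob 2 e y * r⁻¹ = y) : ∃ g, T.ψ g = y := by
  obtain ⟨A, hA⟩ := T.exists_map hF hy
  obtain ⟨B, hB⟩ := T.exists_map hF (y := y⁻¹) (by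
    rw [map_inv]
    exact Eq.trans (by group) (congrArg (·⁻¹) hy))
  have h1 : ∀ {A B : Matrix ι ι F} {y : GL (Fin d × Bool) k}, A.map f = T.P' * y.val * T.P →
      B.map f = T.P' * (y⁻¹).val * T.P → A * B = 1 := fun {A B y} hA hB =>
    Matrix.map_injective f.injective (by
      simp only
      rw [Matrix.map_mul, hA, hB, Matrix.map_one _ (map_zero f) (map_one f)]
      simp only [Matrix.mul_assoc]
      rw [← Matrix.mul_assoc T.P, T.h1, Matrix.one_mul, ← Matrix.mul_assoc y.val, Units.mul_inv,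
        Matrix.one_mul, T.h2])
  refine ⟨⟨A, B, h1 hA hB, h1 hB hA⟩, Units.ext ?_⟩
  rw [coe_ψ, hA]
  simp only [← Matrix.mul_assoc]
  rw [T.h1, Matrix.one_mul, Matrix.mul_assoc, T.h1, Matrix.mul_one]

end Tw

/-- the coordinates for the split form -/
def LP (k : Type) [Field k] (d : ℕ) : (Fin d ⊕ Fin d → k) ≃ₗ[k] (Fin d × Bool → k) :=
  LinearEquiv.funCongrLeft k k ((Equiv.prodComm _ _).trans (Equiv.boolProdEquivSum _))

/-- the split form -/
noncomputable def twP (f : F →+* k) (d e : ℕ) : Tw (d := d) f (plusForm d F) e 1 where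
  P := LinearMap.toMatrix' (LP k d).toLinearMap
  P' := LinearMap.toMatrix' (LP k d).symm.toLinearMap
  h1 := by rw [← LinearMap.toMatrix'_comp, LinearEquiv.comp_symm, LinearMap.toMatrix'_id]
  h2 := by rw [← LinearMap.toMatrix'_comp, LinearEquiv.symm_comp, LinearMap.toMatrix'_id]
  form v := by
    rw [LinearMap.toMatrix'_mulVec, QD_apply, coe_plusForm, quadFormPlus_apply, map_sum]
    exact Finset.sum_congr rfl fun i _ => (mul_comm _ _).trans (map_mul f _ _).symm
  fr := by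
    rw [Units.val_one, Matrix.one_mul]
    ext b j
    rw [map_apply, LinearMap.toMatrix'_apply]
    show iterateFrobenius k 2 e ((Pi.single j 1 : Fin d ⊕ Fin d → k) _) = (Pi.single j 1 : Fin d ⊕ Fin d → k) _
    rw [Pi.single_apply, apply_ite (iterateFrobenius k 2 e), map_one, map_zero]

/-- the coordinates for the non-split form -/
def LM (n : ℕ) (l l' : k) (h : l ≠ l') : ((Fin n ⊕ Fin n) ⊕ Fin 2 → k) ≃ₗ[k] (Fin (n + 1) × Bool → k) where
  toFun w b := Fin.lastCases (w (.inr 0) + (if b.2 then l else l') * w (.inr 1))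
    (fun i => w (.inl (if b.2 then .inl i else .inr i))) b.1
  map_add' v w := by
    funext ⟨i, s⟩
    induction i using Fin.lastCases with
    | last => simp only [Fin.lastCases_last, Pi.add_apply]; ring
    | cast i => simp only [Fin.lastCases_castSucc, Pi.add_apply]
  map_smul' c v := by
    funext ⟨i, s⟩
    induction i using Fin.lastCases with
    | last => simp only [Fin.lastCases_last, Pi.smul_apply, smul_eq_mul, RingHom.id_apply]; ring
    | cast i => simp only [Fin.lastCases_castSucc, Pi.smul_apply, RingHom.id_apply]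
  invFun v := Sum.elim (Sum.elim (fun i => v (i.castSucc, true)) fun i => v (i.castSucc, false))
    ![(l * v (Fin.last n, false) - l' * v (Fin.last n, true)) / (l - l'),
      (v (Fin.last n, true) - v (Fin.last n, false)) / (l - l')]
  left_inv w := by
    have := sub_ne_zero.2 h
    funext j
    rcases j with (j | j) | j
    · simp
    · simp
    · fin_cases j <;> simp <;> field_simp <;> ring
  right_inv v := by
    have := sub_ne_zero.2 h
    funext ⟨i, s⟩
    induction i using Fin.lastCases with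
    | last => cases s <;> (simp; field_simp; ring)
    | cast i => cases s <;> simp

theorem LM_last {n : ℕ} {l l' : k} (h : l ≠ l') (w : (Fin n ⊕ Fin n) ⊕ Fin 2 → k) (s : Bool) :
    LM n l l' h w (Fin.last n, s) = w (.inr 0) + (if s then l else l') * w (.inr 1) := by simp [LM]

theorem LM_cast {n : ℕ} {l l' : k} (h : l ≠ l') (w : (Fin n ⊕ Fin n) ⊕ Fin 2 → k) (i : Fin n) (s : Bool) :
    LM n l l' h w (i.castSucc, s) = w (.inl (if s then .inl i else .inr i)) := by simp [LM]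

/-- the non-split form -/
noncomputable def twM (f : F →+* k) (n e : ℕ) {a b : F} {l l' : k} (h : l ≠ l') (ha : l + l' = f a) (hb : l * l' = f b)
    (h1 : l ^ 2 ^ e = l') (h2 : l' ^ 2 ^ e = l) :
    Tw (d := n + 1) f (minusForm n F a b) e (pm k (Equiv.swap (Fin.last n, true) (Fin.last n, false))) where
  P := LinearMap.toMatrix' (LM n l l' h).toLinearMap
  P' := LinearMap.toMatrix' (LM n l l' h).symm.toLinearMap
  h1 := by rw [← LinearMap.toMatrix'_comp, LinearEquiv.comp_symm, LinearMap.toMatrix'_id]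
  h2 := by rw [← LinearMap.toMatrix'_comp, LinearEquiv.symm_comp, LinearMap.toMatrix'_id]
  form v := by
    rw [LinearMap.toMatrix'_mulVec, QD_apply, coe_minusForm, quadFormMinus_apply, Fin.sum_univ_castSucc]
    simp only [LinearEquiv.coe_coe, LM_last, LM_cast, map_add, map_sum, map_mul, map_pow, Function.comp_apply, if_true,
      Bool.false_eq_true, if_false, ← ha, ← hb]
    ring
  fr := by
    ext c j
    obtain ⟨c, rfl⟩ := (Equiv.swap ((Fin.last n, true) : Fin (n + 1) × Bool) (Fin.last n, false)).surjective c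
    refine (pm_mulVec _ (fun c => (LinearMap.toMatrix' (LM n l l' h).toLinearMap).map (iterateFrobenius k 2 e) c j) c).trans ?_
    have h3 : ∀ i, iterateFrobenius k 2 e ((Pi.single j 1 : (Fin n ⊕ Fin n) ⊕ Fin 2 → k) i) =
        (Pi.single j 1 : (Fin n ⊕ Fin n) ⊕ Fin 2 → k) i := fun i => by
      by_cases hi : i = j <;> simp [hi]
    obtain ⟨i, s⟩ := c
    rw [map_apply, LinearMap.toMatrix'_apply, LinearMap.toMatrix'_apply, LinearEquiv.coe_coe]
    induction i using Fin.lastCases with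
    | last =>
      cases s
      · rw [Equiv.swap_apply_right, LM_last, LM_last, map_add, map_mul, h3, h3, iterateFrobenius_def]
        simp [h2]
      · rw [Equiv.swap_apply_left, LM_last, LM_last, map_add, map_mul, h3, h3, iterateFrobenius_def]
        simp [h1]
    | cast i =>
      rw [Equiv.swap_apply_of_ne_of_ne (by simp [Fin.ext_iff]; omega) (by simp [Fin.ext_iff]; omega), LM_cast, h3]

theorem exists_roots [Fintype F] [IsAlgClosed k] (f : F →+* k) {e : ℕ} (hF : Fintype.card F = 2 ^ e) {a b : F}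
    (hab : ∀ z₁ z₂ : F, z₁ ^ 2 + a * z₁ * z₂ + b * z₂ ^ 2 = 0 → z₁ = 0 ∧ z₂ = 0) :
    ∃ l l' : k, l ≠ l' ∧ l + l' = f a ∧ l * l' = f b ∧ l ^ 2 ^ e = l' ∧ l' ^ 2 ^ e = l := by
  obtain ⟨l, hl⟩ := IsAlgClosed.exists_root (Polynomial.X ^ 2 - Polynomial.C (f a) * Polynomial.X + Polynomial.C (f b))
    (by
      have h : (Polynomial.X ^ 2 - Polynomial.C (f a) * Polynomial.X + Polynomial.C (f b)).degree = 2 := by compute_degree!
      rw [h]
      decide)
  have h1 : l ^ 2 - f a * l + f b = 0 := by simpa using hl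
  have h2 : ∀ t, iterateFrobenius k 2 e (f t) = f t := fun t => by
    rw [iterateFrobenius_def, ← map_pow, ← hF, FiniteField.pow_card]
  have h3 : iterateFrobenius k 2 e l ≠ l := fun h => by
    obtain ⟨t, rfl⟩ := H390.PslSpec.mem_range_of_pow_card f (x := l) (by rw [hF, ← iterateFrobenius_def, h])
    refine one_ne_zero (hab (-t) 1 (f.injective ?_)).2
    simp only [map_add, map_mul, map_pow, map_neg, map_one, map_zero]
    linear_combination h1
  have h4 := congrArg (iterateFrobenius k 2 e) h1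
  rw [map_add, map_sub, map_mul, map_pow, h2, h2, map_zero] at h4
  have h5 : iterateFrobenius k 2 e l = f a - l :=
    mul_left_cancel₀ (sub_ne_zero.2 h3) (by linear_combination h4 - h1)
  refine ⟨l, f a - l, h5 ▸ h3.symm, by ring, by linear_combination -h1, by rw [← h5, iterateFrobenius_def], ?_⟩
  rw [← iterateFrobenius_def, map_sub, h2, h5, sub_sub_cancel]

namespace IsD

variable {n : ℕ} {m : Mn (TypeD.A n) (Fin (n + 2)) (Fin (n + 2) × Bool)} (H : IsD m)
  {W : Type} [Group W] [Finite W] {cs : CoxeterSystem (TypeD.M n) W} [IsAlgClosed k] {l : Fin (n + 2)}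
  {g : (Fin (n + 2) → ℤ) → Fin (n + 2) → ℤ} {B : Matrix (Fin (n + 2)) (Fin (n + 2)) ℤ}
  (S : m.Sy cs (TypeD.isCartan n) (MulAut.conj (pm k (Equiv.swap (l, true) (l, false)))) g B)
  [Fintype F] {e : ℕ} (hF : Fintype.card F = 2 ^ e)

include H S hF

/-- `Ω(Q0) = G^F` -/
theorem emb [Nonempty ι] {f : F →+* k} {Q0 : QuadraticForm F (ι → F)} {r : GL (Fin (n + 2) × Bool) k} (T : Tw f Q0 e r)
    (hQ : Nondeg Q0) (h4 : Fintype.card ι ≠ 4) {α : MulAut (GL (Fin (n + 2) × Bool) k)} (hα : ∀ y, α y = r * y * r⁻¹) :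
    Emb (α * frA _ k e) (m.G k cs (TypeD.isCartan n)) (m.τ k).range
      (T.ψ.comp ((isometryGroup F Q0).subtype.comp (Omega F Q0).subtype)) 1 := by
  have h2 : (2 : F) = 0 := f.injective (by rw [map_ofNat, map_zero]; exact CharTwo.two_eq_zero)
  refine Emb.of_surj (T.ψ_inj.comp (Subtype.val_injective.comp Subtype.val_injective)) (fun s => ⟨?_, ?_⟩) ?_
  · obtain ⟨h5, h6⟩ := T.ψ_iso (nondeg_of hQ) (Or.inr h4) s.1
    exact (H.mem_G S ⟨_, h5⟩).2 (h6.trans ((mem_comm_iff h2 (nondeg_of hQ) (Or.inr h4) _).1 s.2))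
  · exact (hα _).trans (T.ψ_fix hF _)
  · rintro y ⟨h5, h6⟩
    obtain ⟨z, rfl⟩ := T.exists_ψ hF (y := y) ((hα _).symm.trans h6)
    have h7 : z ∈ isometryGroup F Q0 := (mem_isometryGroup_iff _ _).2 fun v => f.injective (by
      rw [← T.QD_lv, ← T.QD_lv, ← T.ψ_lv]
      exact (mem_isometryGroup_iff _ _).1 (H.G_le_iso h5) _)
    obtain ⟨h8, h9⟩ := T.ψ_iso (nondeg_of hQ) (Or.inr h4) ⟨z, h7⟩
    exact ⟨⟨⟨z, h7⟩, (mem_comm_iff h2 (nondeg_of hQ) (Or.inr h4) _).2 (h9.symm.trans (H.dsign_G h5))⟩, rfl⟩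

/-- **`Ω⁺ = G^F`** -/
theorem embP (f : F →+* k) (hn : 1 ≤ n) : ∃ ι : Omega F (quadFormPlus (n + 2) F) →* GL (Fin (n + 2) × Bool) k,
    Emb (1 * frA _ k e) (m.G k cs (TypeD.isCartan n)) (m.τ k).range ι 1 := by
  rw [← coe_plusForm]
  exact ⟨_, H.emb S hF (twP f (n + 2) e) (nondeg_plusForm _ _) (by simp; omega) fun y => by simp⟩

omit S in
/-- **`Ω⁻ = G^F`** -/
theorem embM (S : m.Sy cs (TypeD.isCartan n)
      (MulAut.conj (pm k (Equiv.swap (Fin.last (n + 1), true) (Fin.last (n + 1), false)))) g B) (f : F →+* k) (hn : 1 ≤ n)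
    {a b : F}
    (hab : ∀ z₁ z₂ : F, z₁ ^ 2 + a * z₁ * z₂ + b * z₂ ^ 2 = 0 → z₁ = 0 ∧ z₂ = 0) :
    ∃ ι : Omega F (quadFormMinus (n + 1) F a b) →* GL (Fin (n + 2) × Bool) k,
      Emb (MulAut.conj (pm k (Equiv.swap (Fin.last (n + 1), true) (Fin.last (n + 1), false))) * frA _ k e)
        (m.G k cs (TypeD.isCartan n)) (m.τ k).range ι 1 := by
  obtain ⟨l, l', h1, h2, h3, h4, h5⟩ := exists_roots f hF hab
  rw [← coe_minusForm]
  exact ⟨_, H.emb S hF (twM f (n + 1) e h1 h2 h3 h4 h5) (nondeg_minusForm _ _ _ _ hab) (by simp; omega) fun y => rfl⟩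

end IsD

end Cfsg.Agent.ODD.C2.Om
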