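import Cfsg.Agent.ODD.C2.MnFin
import Cfsg.Agent.Nodes.TypeD
import Cfsg.Agent.ClassicalGeometry.OrthDickson

/-!
# The algebraic group of type `D` in characteristic two is the kernel of the Dickson sign (helper1)

`QD k n` : the split form on `Fin n × Bool → k`; `IsD m` : the weights of the natural module; **`IsD.mem_G`**.
-/

set_option autoImplicit false
set_option linter.unusedSectionVars false

namespace Cfsg.Agent.ODD.C2.Om

open CoxeterSystem Cfsg.Agent.ChevalleyStructure.CoxeterGeom Cfsg.Agent.Tits.Roots Matrix Cfsg.Agent.DL QuadraticMap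
open Cfsg.Agent.ClassicalGeometry.Reflection Cfsg.Agent.ClassicalGeometry.OrthCharTwo
  Cfsg.Agent.ClassicalGeometry.OrthDickson
open Cfsg.Agent.Nodes Cfsg.Agent.Nodes.TypeC

section Form

variable (k : Type) [Field k] (n : ℕ)

/-- the split quadratic form -/
def QD : QuadraticForm k (Fin n × Bool → k) :=
  ∑ i : Fin n, QuadraticMap.linMulLin (LinearMap.proj (i, true)) (LinearMap.proj (i, false))

variable {k n}

theorem QD_apply (v : Fin n × Bool → k) : QD k n v = ∑ i, v (i, true) * v (i, false) := by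
  simp [QD]

theorem polar_QD (u v : Fin n × Bool → k) :
    polar (QD k n) u v = ∑ i, (u (i, true) * v (i, false) + u (i, false) * v (i, true)) := by
  simp only [polar, QD_apply, Pi.add_apply, ← Finset.sum_sub_distrib]
  exact Finset.sum_congr rfl fun i _ => by ring

theorem polar_single (u : Fin n × Bool → k) (b : Fin n × Bool) (c : k) :
    polar (QD k n) u (Pi.single b c) = u (ng b) * c := by
  obtain ⟨j, s⟩ := b
  rw [polar_QD, Finset.sum_eq_single j (fun i _ hi => by simp [hi]) (by simp)]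
  cases s <;> simp [ng]

theorem QD_single (b : Fin n × Bool) (c : k) : QD k n (Pi.single b c) = 0 := by
  obtain ⟨j, s⟩ := b
  rw [QD_apply]
  exact Finset.sum_eq_zero fun i _ => by cases s <;> simp

theorem QD_nondeg : (polarBilin (QD k n)).Nondegenerate := by
  have h : ∀ x : Fin n × Bool → k, (∀ y, polar (QD k n) x y = 0) → x = 0 := fun x hx => funext fun b => by
    have := hx (Pi.single (ng b) 1)
    rwa [polar_single, ng_ng, mul_one] at this
  exact ⟨h, fun x hx => h x fun y => (polar_comm _ _ _).trans (hx y)⟩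

theorem ne_ng (b : Fin n × Bool) : ng b ≠ b := fun h => by simpa using congrArg Prod.snd h

/-- the action of the root elements -/
def ac (y z : Fin n × Bool) (u : k) (v : Fin n × Bool → k) : Fin n × Bool → k :=
  v + Pi.single y (u * v (ng z)) + Pi.single z (u * v (ng y))

theorem QD_ac [CharP k 2] {y z : Fin n × Bool} (h : y.1 ≠ z.1) (u : k) (v : Fin n × Bool → k) :
    QD k n (ac y z u v) = QD k n v := by
  have h1 : ng z ≠ y := fun e => h (by rw [← e]; rfl)
  rw [ac, map_add', map_add', QD_single, QD_single, polar_single, polar_single, Pi.add_apply, Pi.single_eq_of_ne h1]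
  linear_combination (u * v (ng y) * v (ng z)) * (CharTwo.two_eq_zero (R := k))

theorem st_iff {y z b c : Fin n × Bool} (h : y.1 ≠ z.1) :
    wt b = wt c + (wt y + wt z) ↔ (b = y ∧ c = ng z) ∨ (b = z ∧ c = ng y) := by
  have h1 : wt b = wt c + (wt y + wt z) ↔ wt b + wt (ng c) = wt y + wt z := by
    rw [wt_ng, ← sub_eq_add_neg, sub_eq_iff_eq_add']
  rw [h1]
  constructor
  · intro e
    have h2 : Ok b (ng c) := by
      by_cases h3 : b.1 = c.1
      · refine Or.inr ?_
        obtain ⟨i, s⟩ := b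
        obtain ⟨j, t⟩ := c
        obtain rfl : i = j := h3
        by_cases h4 : s = t
        · subst h4
          rw [wt_ng, add_neg_cancel] at e
          have h5 := congrFun e y.1
          rw [Pi.add_apply, wt_apply, wt_apply, if_pos rfl, if_neg h] at h5
          split_ifs at h5 <;> simp at h5
        · cases s <;> cases t <;> simp_all [ng]
      · exact Or.inl h3
    rcases wt_add_eq h2 (Or.inl h) e with ⟨h3, h4⟩ | ⟨h3, h4⟩
    · exact Or.inl ⟨h3, by rw [← h4, ng_ng]⟩
    · exact Or.inr ⟨h3, by rw [← h4, ng_ng]⟩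
  · rintro (⟨rfl, rfl⟩ | ⟨rfl, rfl⟩)
    · rw [ng_ng]
    · rw [ng_ng, add_comm]

theorem chr_wt_true (i : Fin n) (c : Fin n → kˣ) : chr (wt (i, true)) c = c i := chr_single i c

theorem chr_wt_false (i : Fin n) (c : Fin n → kˣ) : chr (wt (i, false)) c = (c i)⁻¹ := by
  rw [show ((i, false) : Fin n × Bool) = ng (i, true) from rfl, wt_ng, chr_neg, chr_wt_true]

/-- the vector `e_l + f_l` -/
def v0 (k : Type) [Field k] (l : Fin n) : Fin n × Bool → k := Pi.single (l, true) 1 + Pi.single (l, false) 1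

theorem QD_v0 (l : Fin n) : QD k n (v0 k l) = 1 := by
  rw [v0, map_add', QD_single, QD_single, polar_single]
  simp [ng]

theorem QD_v0_ne (l : Fin n) : QD k n (v0 k l) ≠ 0 := by rw [QD_v0]; exact one_ne_zero

theorem pm_mulVec (π : Equiv.Perm (Fin n × Bool)) (v : Fin n × Bool → k) (b : Fin n × Bool) :
    ((pm k π : Matrix _ _ k) *ᵥ v) (π b) = v b := by
  rw [mulVec, dotProduct, Finset.sum_eq_single b (fun c _ hc => by
    rw [pm_apply, if_neg (fun e => hc (π.injective e).symm), zero_mul]) (by simp), pm_apply, if_pos rfl, one_mul]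

theorem refl_v0 [CharP k 2] (l : Fin n) :
    reflGL (QD k n) (v0 k l) (QD_v0_ne l) = pm k (Equiv.swap (l, true) (l, false)) := by
  refine Units.ext (Matrix.mulVec_injective (funext fun v => funext fun b => ?_))
  obtain ⟨b, rfl⟩ := (Equiv.swap ((l, true) : Fin n × Bool) (l, false)).surjective b
  have h2 := CharTwo.two_eq_zero (R := k)
  rw [pm_mulVec, coe_reflGL, reflectionMatrix_mulVec, QD_v0, polar_comm, v0, polar_add_right, polar_single, polar_single]
  by_cases h : b = (l, true)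
  · subst h
    simp [ng]
    linear_combination (-v (l, true)) * h2
  by_cases h' : b = (l, false)
  · subst h'
    simp [ng]
    linear_combination (-v (l, false)) * h2
  · rw [Equiv.swap_apply_of_ne_of_ne h h']
    simp [h, h']

end Form

variable {n : ℕ} {k : Type} [Field k] [CharP k 2]

/-- the weights are those of the natural module of type `D` -/
structure IsD (m : Mn (TypeD.A n) (Fin (n + 2)) (Fin (n + 2) × Bool)) : Prop where
  μ : ∀ a, m.μ a = wt a
  wt : ∀ x, m.wt x = TypeD.ee x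

namespace IsD

variable {m : Mn (TypeD.A n) (Fin (n + 2)) (Fin (n + 2) × Bool)} (H : IsD m)
  {W : Type} [Group W] [Finite W] {cs : CoxeterSystem (TypeD.M n) W}

include H

theorem x_mulVec {a : Fin (n + 2) → ℤ} (ha : IsRoot cs (TypeD.isCartan n) a) {y z : Fin (n + 2) × Bool} (h : y.1 ≠ z.1)
    (e : TypeD.ee a = TypeC.wt y + TypeC.wt z) (u : k) (v : Fin (n + 2) × Bool → k) :
    (m.x k a u : Matrix _ _ k) *ᵥ v = ac y z u v := by
  funext b
  have h1 : ∀ c, m.St a b c ↔ (b = y ∧ c = ng z) ∨ (b = z ∧ c = ng y) := fun c => by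
    rw [Mn.St, H.μ, H.μ, H.wt, e, st_iff h]
  have h2 : y ≠ z := fun e => h (by rw [e])
  simp only [mulVec, dotProduct, m.x_apply ha, h1, add_mul, Finset.sum_add_distrib, ite_mul, one_mul, zero_mul,
    Finset.sum_ite_eq, Finset.mem_univ, if_true, ac, Pi.add_apply, add_assoc, add_right_inj]
  by_cases h3 : b = y
  · subst h3
    simp [h2]
  by_cases h4 : b = z
  · subst h4
    simp [h3]
  · simp [h3, h4]

theorem τ_mulVec (c : Fin (n + 2) → kˣ) (v : Fin (n + 2) × Bool → k) (b : Fin (n + 2) × Bool) :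
    ((m.τ k c : Matrix _ _ k) *ᵥ v) b = (chr (TypeC.wt b) c : kˣ) * v b := by
  rw [m.coe_τ, mulVec_diagonal, H.μ]

theorem τ_iso (c : Fin (n + 2) → kˣ) : m.τ k c ∈ isometryGroup k (QD k (n + 2)) :=
  (mem_isometryGroup_iff _ _).2 fun v => by
    rw [QD_apply, QD_apply]
    refine Finset.sum_congr rfl fun i _ => ?_
    rw [H.τ_mulVec, H.τ_mulVec, chr_wt_true, chr_wt_false]
    linear_combination (v (i, true) * v (i, false)) * (c i).mul_inv

theorem x_iso {a : Fin (n + 2) → ℤ} (ha : IsRoot cs (TypeD.isCartan n) a) (u : k) :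
    m.x k a u ∈ isometryGroup k (QD k (n + 2)) := by
  obtain ⟨y, z, h, e⟩ := TypeD.exists_of_isRoot cs ha
  exact (mem_isometryGroup_iff _ _).2 fun v => by rw [H.x_mulVec ha h e, QD_ac h]

theorem G_le_iso : m.G k cs (TypeD.isCartan n) ≤ isometryGroup k (QD k (n + 2)) :=
  m.G_le H.τ_iso fun _ ha => H.x_iso ha

theorem exists_ac {y z : Fin (n + 2) × Bool} (h : y.1 ≠ z.1) (u : k) :
    ∃ g ∈ m.G k cs (TypeD.isCartan n), ∀ v, (g : Matrix _ _ k) *ᵥ v = ac y z u v := by
  obtain ⟨a, ha, e⟩ := TypeD.rt_of_ok (cs := cs) h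
  exact ⟨_, m.x_mem_G ha u, H.x_mulVec ha h e u⟩

variable [IsAlgClosed k]

omit H in
theorem theta0 : ∃ θ : k, θ ≠ 0 ∧ θ ≠ 1 := by
  classical
  obtain ⟨θ, h⟩ := Infinite.exists_notMem_finset ({0, 1} : Finset k)
  exact ⟨θ, by simpa using h⟩

omit H in
theorem theta : (∃ θ : k, θ ≠ 0 ∧ θ ≠ 1) ∨ Fintype.card (Fin (n + 2) × Bool) ≠ 4 := Or.inl theta0

theorem dsign_G {y : GL (Fin (n + 2) × Bool) k} (hy : y ∈ m.G k cs (TypeD.isCartan n)) :
    dsign (QD k (n + 2)) ⟨y, H.G_le_iso hy⟩ = 1 := by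
  have h1 : m.G k cs (TypeD.isCartan n) ≤ (dsignHom (QD k (n + 2)) QD_nondeg theta).ker.map (Subgroup.subtype _) := by
    refine m.G_le (fun c => ⟨⟨_, H.τ_iso c⟩, ?_, rfl⟩) fun a ha u => ⟨⟨_, H.x_iso ha u⟩, ?_, rfl⟩
    · have h2 : ∀ i, ∃ d : kˣ, d * d = c i := fun i => by
        obtain ⟨d, hd⟩ := IsAlgClosed.exists_eq_mul_self (c i : k)
        exact ⟨Units.mk0 d fun h => (c i).ne_zero (by rw [hd, h, mul_zero]), Units.ext hd.symm⟩
      choose d hd using h2
      have h3 : (⟨_, H.τ_iso c⟩ : isometryGroup k (QD k (n + 2))) = ⟨_, H.τ_iso d⟩ * ⟨_, H.τ_iso d⟩ :=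
        Subtype.ext ((congrArg (m.τ k) (funext hd).symm).trans (map_mul _ d d))
      rw [SetLike.mem_coe, MonoidHom.mem_ker, h3, map_mul, Int.units_mul_self]
    · obtain ⟨θ, h⟩ := theta0 (k := k)
      obtain ⟨c, hc⟩ := chr_surj (k := k) (m := m.wt a) (fun e => ha.ne_zero (TypeD.ee_injective (by
        rw [← H.wt, ← H.wt, e, map_zero]))) (Units.mk0 θ h.1)
      have h2 : (⟨_, H.x_iso ha u⟩ : isometryGroup k (QD k (n + 2))) = ⟨_, H.τ_iso c⟩ * ⟨_, H.x_iso ha (u / (θ - 1))⟩ *
          ⟨_, H.τ_iso c⟩⁻¹ * ⟨_, H.x_iso ha (u / (θ - 1))⟩⁻¹ := Subtype.ext (by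
        show _ = m.τ k c * m.x k a _ * (m.τ k c)⁻¹ * (m.x k a _)⁻¹
        rw [m.τ_x ha, ← m.x_neg ha, ← m.x_add, hc, Units.val_mk0]
        refine congrArg (m.x k a) ?_
        have := sub_ne_zero.2 h.2
        field_simp
        ring)
      rw [SetLike.mem_coe, MonoidHom.mem_ker, h2, map_mul, map_mul, map_mul, map_inv, map_inv, mul_inv_cancel_comm,
        mul_inv_cancel]
  obtain ⟨z, hz, rfl⟩ := h1 hy
  exact hz

/-- transitivity on the non-singular lines -/
theorem exists_v0 (l : Fin (n + 2)) (v : Fin (n + 2) × Bool → k) (hv : QD k (n + 2) v ≠ 0) :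
    ∃ g ∈ m.G k cs (TypeD.isCartan n), ∃ c : k, (g : Matrix _ _ k) *ᵥ v = c • v0 k l := by
  have key : ∀ (S : Finset (Fin (n + 2) × Bool)) (v : Fin (n + 2) × Bool → k), QD k (n + 2) v ≠ 0 → v (l, true) ≠ 0 →
      (∀ b, b.1 ≠ l → b ∉ S → v b = 0) →
      ∃ g ∈ m.G k cs (TypeD.isCartan n), ∃ c : k, (g : Matrix _ _ k) *ᵥ v = c • v0 k l := by
    intro S
    induction S using Finset.induction_on with
    | empty =>
      intro v h1 h2 h3
      rw [QD_apply, Finset.sum_eq_single l (fun i _ hi => by rw [h3 (i, true) hi (by simp), zero_mul]) (by simp)] at h1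
      obtain ⟨t, ht⟩ := IsAlgClosed.exists_eq_mul_self (v (l, false) / v (l, true))
      have h4 : t ≠ 0 := fun h => div_ne_zero (right_ne_zero_of_mul h1) h2 (by rw [ht, h, mul_zero])
      refine ⟨_, m.τ_mem_G fun _ => Units.mk0 t h4, t * v (l, true), funext fun b => ?_⟩
      rw [H.τ_mulVec]
      by_cases h5 : b.1 = l
      · obtain ⟨j, s⟩ := b
        obtain rfl : j = l := h5
        cases s
        · rw [chr_wt_false]
          simp only [v0, Units.val_inv_eq_inv_val, Units.val_mk0, Pi.smul_apply, Pi.add_apply, Pi.single_eq_same,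
            Pi.single_eq_of_ne (show ((j, false) : Fin (n + 2) × Bool) ≠ (j, true) by simp), smul_eq_mul]
          rw [div_eq_iff h2] at ht
          rw [ht]
          field_simp
          ring
        · rw [chr_wt_true]
          simp [v0]
      · have h6 : b ≠ (l, true) := fun e => h5 (by rw [e])
        have h7 : b ≠ (l, false) := fun e => h5 (by rw [e])
        rw [h3 b h5 (by simp)]
        simp [v0, h6, h7]
    | insert w S _ ih =>
      intro v h1 h2 h3
      by_cases h4 : w.1 = l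
      · exact ih v h1 h2 fun b hb hS => h3 b hb (by
          rw [Finset.mem_insert, not_or]
          exact ⟨fun e => hb (by rw [e, h4]), hS⟩)
      obtain ⟨g, hg, e⟩ := H.exists_ac (cs := cs) (y := w) (z := (l, false)) h4 (-(v w / v (l, true)))
      have h5 : w ≠ (l, true) := fun e => h4 (by rw [e])
      have h6 : w ≠ (l, false) := fun e => h4 (by rw [e])
      obtain ⟨g', hg', c, e'⟩ := ih (ac w (l, false) (-(v w / v (l, true))) v) (by rwa [QD_ac h4])
        (by simpa [ac, h5.symm] using h2) fun b hb hS => by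
          have h7 : b ≠ (l, false) := fun e => hb (by rw [e])
          by_cases h8 : b = w
          · subst h8
            simp [ac, h7, ng, h2]
          · simp [ac, h7, h8, h3 b hb (by simp [h8, hS])]
      exact ⟨g' * g, mul_mem hg' hg, c, by rw [Units.val_mul, ← mulVec_mulVec, e, e']⟩
  by_cases h1 : v (l, true) = 0
  · obtain ⟨w, h2, h3⟩ : ∃ w : Fin (n + 2) × Bool, w.1 ≠ l ∧ v w ≠ 0 := by
      by_contra h
      push Not at h
      refine hv ?_
      rw [QD_apply]
      refine Finset.sum_eq_zero fun i _ => ?_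
      by_cases hi : i = l
      · rw [hi, h1, zero_mul]
      · rw [h (i, true) hi, zero_mul]
    have h4 : ((l, true) : Fin (n + 2) × Bool).1 ≠ (ng w).1 := h2.symm
    obtain ⟨g, hg, e⟩ := H.exists_ac (cs := cs) (k := k) h4 1
    have h5 : (l, true) ≠ ng w := fun e => h4 (by rw [e])
    obtain ⟨g', hg', c, e'⟩ := key Finset.univ (ac (l, true) (ng w) 1 v) (by rwa [QD_ac h4])
      (by simpa [ac, h1, h5] using h3) (by simp)
    exact ⟨g' * g, mul_mem hg' hg, c, by rw [Units.val_mul, ← mulVec_mulVec, e, e']⟩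
  · exact key Finset.univ v hv h1 (by simp)

/-- **the algebraic group is the kernel of the Dickson sign** -/
theorem mem_G {l : Fin (n + 2)} {g : (Fin (n + 2) → ℤ) → Fin (n + 2) → ℤ} {B : Matrix (Fin (n + 2)) (Fin (n + 2)) ℤ}
    (S : m.Sy cs (TypeD.isCartan n) (MulAut.conj (pm k (Equiv.swap (l, true) (l, false)))) g B)
    (y : isometryGroup k (QD k (n + 2))) : y.1 ∈ m.G k cs (TypeD.isCartan n) ↔ dsign (QD k (n + 2)) y = 1 := by
  refine ⟨fun h => H.dsign_G h, fun h => ?_⟩
  set r := reflIso (QD k (n + 2)) (v0 k l) (QD_v0_ne l) with hr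
  set K := (m.G k cs (TypeD.isCartan n)).subgroupOf (isometryGroup k (QD k (n + 2)))
  have h1 : ∀ z ∈ K, r * z * r⁻¹ ∈ K := fun z hz => by
    have h2 : m.G k cs (TypeD.isCartan n) ≤ (m.G k cs (TypeD.isCartan n)).comap
        (MulAut.conj (pm k (Equiv.swap (l, true) (l, false)))).toMonoidHom :=
      m.G_le (fun c => by
        show MulAut.conj _ _ ∈ m.G k cs (TypeD.isCartan n)
        rw [S.τ]
        exact m.τ_mem_G _) fun a ha u => by
        show MulAut.conj _ _ ∈ m.G k cs (TypeD.isCartan n)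
        rw [S.x a ha]
        exact m.x_mem_G (S.root a ha) _
    have h3 := h2 hz
    rw [← refl_v0] at h3
    exact h3
  have h2 : y ∈ K ∨ y * r⁻¹ ∈ K := by
    refine isometry_induction _ QD_nondeg theta (fun y => y ∈ K ∨ y * r⁻¹ ∈ K) (Or.inl (one_mem _)) (fun v hv z hz => ?_) y
    obtain ⟨t, ht, c, e⟩ := H.exists_v0 (cs := cs) l v hv
    set t' : isometryGroup k (QD k (n + 2)) := ⟨t, H.G_le_iso ht⟩
    have ht' : t' ∈ K := ht
    have h3 : QD k (n + 2) (c • v0 k l) ≠ 0 := by
      rw [← e, (mem_isometryGroup_iff _ _).1 t'.2]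
      exact hv
    have h4 : t' * reflIso _ v hv * t'⁻¹ = r := by
      rw [conj_reflIso _ v hv t' (e ▸ h3), hr, ← refl_smul _ _ (QD_v0_ne l) c
        (fun h => h3 (by rw [h, zero_smul, QuadraticMap.map_zero])) h3]
      congr 1
    have h5 : reflIso _ v hv = t'⁻¹ * r * t' := by rw [← h4]; group
    have h6 : r * r = 1 := reflIso_mul_self _ _ _
    rw [h5]
    rcases hz with hz | hz
    · exact Or.inr (by simpa only [mul_assoc] using mul_mem (inv_mem ht') (h1 _ (mul_mem ht' hz)))
    · refine Or.inl ?_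
      have h7 := mul_mem (inv_mem ht') (h1 _ (mul_mem ht' hz))
      rwa [show t'⁻¹ * (r * (t' * (z * r⁻¹)) * r⁻¹) = t'⁻¹ * r * t' * z * (r * r)⁻¹ by group, h6, inv_one, mul_one] at h7
  refine h2.elim id fun h3 => ?_
  have h4 : dsign _ (y * r⁻¹) = 1 := H.dsign_G h3
  rw [dsign_mul_of_gen _ QD_nondeg theta, h, hr, reflIso_inv, dsign_refl _ QD_nondeg] at h4
  exact absurd h4 (by decide)

end IsD

end Cfsg.Agent.ODD.C2.Om
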