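import Cfsg.Agent.ODD.C2.Exc
import Cfsg.Agent.ODD.C2.OmFin
import Cfsg.Agent.ODD.C2.E6c

/-!
# S4787 / S4789: the row `BoxO.two` up to `F₄(2)` (helper89, ODD)
-/

set_option autoImplicit false

namespace Cfsg.Agent.ODD.C2

open Cfsg Cfsg.Lie

theorem two_of4 (h4 : ∀ (F : Type) [Field F] [Fintype F], Fintype.card F = 2 → OddRat (chevF4.group F)) :
    RowO fun S _ => IsLieTypeChar 2 S :=
  two_of (fun F _ _ _ => oddRat_plus F) (fun F _ _ _ => oddRat_minus F) h4 h6_two ht_two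

end Cfsg.Agent.ODD.C2
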